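import Cfsg.Agent.H39.HN.T352.Data

/-!
Steps of a derivation (generated data).
-/

set_option autoImplicit false
set_option maxRecDepth 100000
set_option linter.all false
set_option Elab.async false

namespace H39
namespace HN
namespace T352

open H93.CosetI

noncomputable section

def st0 : List Step := [(14,[],[]),(15,[],[]),(0,[],[]),(0,[],[]),(11,[0,4,6],[]),(0,[],[]),(0,[],[]),(0,[],[]),(0,[],[]),(0,[],[]),(0,[],[]),(0,[],[]),(0,[],[]),(0,[],[]),(0,[],[]),(0,[],[]),(0,[],[]),(0,[],[]),(0,[],[]),(0,[],[]),(0,[],[]),(0,[],[]),(0,[],[]),(0,[],[]),(0,[],[]),(0,[],[]),(0,[],[]),(0,[],[]),(0,[],[]),(0,[],[]),(0,[],[]),(0,[],[]),(0,[],[]),(0,[],[]),(0,[],[]),(0,[],[]),(0,[],[]),(0,[],[]),(0,[],[]),(0,[],[]),(0,[],[]),(0,[],[]),(0,[],[]),(13,[0,2,0,2,0,2,2,2,4,10,12,14,16,18,20,22,24,26,28,30,32,34,36,38,40,42,44,46,48,50,52,54,56,58,60,62,64,66,68,70,72,74,76,78,80,82,84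],[9]),(0,[],[]),(0,[],[]),(0,[],[]),(0,[],[]),(0,[],[]),(0,[],[]),(12,[3,0,3,0,3,3,0,2,4,10,88,90,92,94,96,98],[9]),(9,[4],[9]),(1,[103],[]),(1,[105,7],[]),(1,[105,87],[]),(1,[105,101],[]),(1,[11,110],[]),(1,[105,8],[]),(1,[113],[]),(1,[117,99],[]),(2,[88],[118]),(1,[121],[]),(1,[123,119],[]),(1,[123,97],[]),(2,[16],[]),(2,[20],[]),(2,[24],[]),(13,[132,23,130,19,128,15,13,11,114,3,3,3,0,3,0,3,0,2,0,2,0,2,2,2,4,10,12,14,16,18,20,22,24,26,28,30,32,34,36,38,40,42,44,46,48,50,52,54],[]),(9,[],[135]),(2,[28],[]),(2,[32],[]),(9,[40],[]),(2,[48],[]),(2,[52],[]),(11,[56],[137,25]),(2,[56],[]),(11,[150,134,132],[]),(2,[60],[]),(2,[64],[]),(9,[72],[]),(2,[80],[]),(2,[84],[]),(2,[94],[]),(0,[],[]),(3,[108,166],[10,12,14]),(0,[],[]),(0,[],[]),(0,[],[]),(0,[],[]),(0,[],[]),(0,[],[]),(0,[],[]),(0,[],[]),(0,[],[]),(0,[],[]),(0,[],[]),(0,[],[]),(0,[],[]),(0,[],[]),(8,[10,12,170,172,17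4,176,178,180,182,184,186,188,190,192,194,196],[106,10,12]),(0,[],[]),(0,[],[]),(0,[],[]),(0,[],[]),(6,[108,162,83,160,79,200,202,204,206],[106,10,125,126,95,93]),(0,[],[]),(0,[],[]),(0,[],[]),(0,[],[]),(0,[],[]),(0,[],[]),(0,[],[]),(0,[],[]),(0,[],[]),(0,[],[]),(0,[],[]),(0,[],[]),(5,[108,166,168,16,210,212,214,216,218,220,222,224,226,228,230,232],[106,10,12,199]),(0,[],[]),(0,[],[]),(0,[],[]),(0,[],[]),(0,[],[]),(0,[],[]),(0,[],[]),(0,[],[]),(0,[],[]),(0,[],[]),(0,[],[]),(0,[],[]),(0,[],[]),(0,[],[]),(7,[108,166,168,16,210,236,238,240,242,244,246,248,250,252,254,256,258,260,262],[106,10,125,126]),(0,[],[]),(4,[10,88,90,266],[106,10,125,90,209,207,205]),(0,[],[]),(0,[],[]),(11,[88,270,272],[]),(0,[],[]),(0,[],[]),(0,[],[]),(0,[],[]),(0,[],[]),(0,[],[]),(0,[],[]),(0,[],[]),(0,[],[]),(0,[],[]),(0,[],[]),(0,[],[]),(0,[],[]),(0,[],[]),(0,[],[]),(0,[],[]),(0,[],[]),(0,[],[]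),(0,[],[]),(0,[],[]),(0,[],[]),(0,[],[]),(0,[],[]),(0,[],[]),(0,[],[]),(0,[],[]),(0,[],[]),(0,[],[]),(0,[],[]),(0,[],[]),(0,[],[]),(0,[],[]),(0,[],[]),(0,[],[]),(0,[],[]),(0,[],[]),(0,[],[]),(0,[],[]),(0,[],[]),(0,[],[]),(0,[],[]),(0,[],[]),(0,[],[]),(0,[],[]),(13,[88,90,266,276,278,280,282,284,286,288,290,292,294,296,298,300,302,304,306,308,310,312,314,316,318,320,322,324,326,328,330,332,334,336,338,340,342,344,346,348,350,352,354,356,358,360,362],[275]),(0,[],[]),(0,[],[]),(0,[],[]),(0,[],[]),(0,[],[]),(0,[],[]),(0,[],[]),(0,[],[]),(0,[],[]),(0,[],[]),(0,[],[]),(0,[],[]),(0,[],[]),(0,[],[]),(0,[],[]),(0,[],[]),(0,[],[]),(12,[12,170,372,374,376,378,380,382,384,386,388,390,392,394,396,398],[275]),(0,[],[]),(0,[],[]),(0,[],[]),(0,[],[]),(0,[],[]),(0,[],[]),(0,[],[]),(0,[],[]),(9,[],[275]),(0,[],[]),(0,[],[]),(0,[],[]),(0,[],[]),(0,[],[]),(0,[],[]),(0,[],[]),(0,[],[]),(7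,[11,108,166,402,404,420,422,424,426,428,430,432,434],[125,126,95,93,91,126,95,93,209,207]),(0,[],[]),(0,[],[]),(0,[],[]),(0,[],[]),(4,[12,170,172,174,438,440,442,444],[125,126,95]),(2,[170],[199]),(1,[449],[]),(1,[451,198],[]),(1,[451,197],[]),(1,[173,454],[]),(1,[451,235],[]),(1,[373,458],[]),(1,[457],[]),(1,[463,195],[]),(1,[460],[]),(1,[467,374],[]),(1,[467,373],[]),(2,[200],[]),(3,[90,92,447],[126,265,263]),(1,[474],[]),(1,[477,445],[]),(1,[260,478],[]),(1,[481],[]),(1,[483,443],[]),(1,[258,484],[]),(1,[487],[]),(1,[489,441],[]),(1,[256,490],[]),(1,[493],[]),(1,[495,439],[]),(9,[270],[])]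

theorem ok0 : data.stepsOK st0 0 = true := by decide +kernel

def st1 : List Step := [(2,[266],[209]),(1,[500],[]),(1,[503,267],[]),(1,[503,276],[]),(1,[503,268],[]),(1,[206,508],[]),(1,[510],[]),(1,[513,205],[]),(1,[513,206],[]),(1,[513,437],[]),(1,[202,518],[]),(1,[521],[]),(1,[523,435],[]),(2,[402],[]),(2,[174],[464]),(1,[529],[]),(1,[531,465],[]),(1,[531,193],[]),(1,[177,534],[]),(1,[537],[]),(1,[539,191],[]),(3,[176],[497,255,253,251]),(2,[178],[540]),(1,[545],[]),(1,[547,541],[]),(1,[547,189],[]),(1,[181,550],[]),(1,[553],[]),(1,[555,187],[]),(1,[183,556],[]),(1,[559],[]),(1,[561,185],[]),(2,[236],[]),(2,[214],[]),(2,[222],[]),(2,[228],[]),(2,[468],[]),(2,[366],[]),(2,[244],[]),(2,[248],[]),(2,[272],[]),(9,[286],[]),(2,[294],[]),(2,[302],[]),(2,[326],[]),(2,[330],[]),(2,[334],[]),(2,[338],[]),(2,[342],[]),(9,[350],[]),(2,[358],[]),(2,[362],[]),(2,[380],[]),(9,[3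84],[]),(2,[388],[]),(2,[394],[]),(2,[398],[]),(2,[420],[]),(2,[416],[]),(2,[428],[]),(2,[432],[]),(0,[],[]),(0,[],[]),(11,[170,622,624],[]),(0,[],[]),(0,[],[]),(0,[],[]),(0,[],[]),(0,[],[]),(0,[],[]),(0,[],[]),(0,[],[]),(0,[],[]),(0,[],[]),(0,[],[]),(0,[],[]),(0,[],[]),(0,[],[]),(0,[],[]),(0,[],[]),(0,[],[]),(0,[],[]),(0,[],[]),(0,[],[]),(0,[],[]),(0,[],[]),(0,[],[]),(0,[],[]),(0,[],[]),(0,[],[]),(0,[],[]),(0,[],[]),(0,[],[]),(0,[],[]),(0,[],[]),(0,[],[]),(0,[],[]),(0,[],[]),(0,[],[]),(0,[],[]),(0,[],[]),(0,[],[]),(0,[],[]),(0,[],[]),(0,[],[]),(0,[],[]),(13,[170,172,174,176,178,628,630,632,634,636,638,640,642,644,646,648,650,652,654,656,658,660,662,664,666,668,670,672,674,676,678,680,682,684,686,688,690,692,694,696,698,700,702,704,706,708,710],[627]),(0,[],[]),(0,[],[]),(0,[],[]),(0,[],[]),(0,[],[]),(0,[],[]),(0,[],[]),(0,[],[]),(0,[],[]),(0,[],[]),(8,[14,169,402,404,4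20,422,714,716,718,720,722,724,726,728,730,732],[453,471,233]),(0,[],[]),(0,[],[]),(0,[],[]),(0,[],[]),(6,[13,88,90,505,506,278,280,736,738,740,742],[453,471,573,376]),(0,[],[]),(0,[],[]),(0,[],[]),(0,[],[]),(0,[],[]),(0,[],[]),(0,[],[]),(0,[],[]),(0,[],[]),(0,[],[]),(0,[],[]),(12,[14,16,18,20,22,746,748,750,752,754,756,758,760,762,764,766],[627]),(0,[],[]),(0,[],[]),(0,[],[]),(0,[],[]),(0,[],[]),(0,[],[]),(0,[],[]),(0,[],[]),(0,[],[]),(9,[],[627]),(0,[],[]),(0,[],[]),(0,[],[]),(0,[],[]),(0,[],[]),(0,[],[]),(0,[],[]),(0,[],[]),(0,[],[]),(7,[13,11,108,162,83,160,79,77,75,790,792,794,796,798,800,802,804,806],[453,471,573,376,378]),(0,[],[]),(0,[],[]),(0,[],[]),(0,[],[]),(4,[14,16,210,236,810,812,814,816],[453,471,573]),(0,[],[]),(0,[],[]),(11,[16,820,822],[]),(0,[],[]),(0,[],[]),(0,[],[]),(0,[],[]),(0,[],[]),(0,[],[]),(0,[],[]),(0,[],[]),(0,[],[]),(0,[],[]),(0,[],[]),(0,[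],[]),(0,[],[]),(0,[],[]),(0,[],[]),(0,[],[]),(0,[],[]),(0,[],[]),(0,[],[]),(0,[],[]),(0,[],[]),(0,[],[]),(0,[],[]),(0,[],[]),(0,[],[]),(0,[],[]),(0,[],[]),(0,[],[]),(0,[],[]),(0,[],[]),(0,[],[]),(0,[],[]),(0,[],[]),(0,[],[]),(0,[],[]),(0,[],[]),(0,[],[]),(0,[],[]),(0,[],[]),(0,[],[]),(0,[],[]),(0,[],[]),(13,[16,210,236,238,366,826,828,830,832,834,836,838,840,842,844,846,848,850,852,854,856,858,860,862,864,866,868,870,872,874,876,878,880,882,884,886,888,890,892,894,896,898,900,902,904,906,908],[825]),(0,[],[]),(0,[],[]),(0,[],[]),(0,[],[]),(0,[],[]),(0,[],[]),(0,[],[]),(0,[],[]),(0,[],[]),(8,[169,167,162,83,160,79,200,524,912,914,916,918,920,922,924,926,928],[129,18]),(0,[],[]),(0,[],[]),(0,[],[]),(6,[15,170,172,174,176,178,628,932,934,936],[129,18,131,22,133]),(0,[],[]),(0,[],[]),(0,[],[]),(0,[],[]),(0,[],[]),(0,[],[]),(0,[],[]),(0,[],[]),(0,[],[]),(0,[],[]),(0,[],[]),(0,[],[]),(0,[],[]),(0,[],[]),(12,[169,402,940,942,944,946,948,950,952,954,956,958,960,962,964,966],[825]),(0,[],[]),(0,[],[]),(0,[],[]),(0,[],[]),(0,[],[]),(0,[],[]),(0,[],[]),(5,[15,13,11,107,108,166,402,404,406,970,972,974,976,978,980,982],[129,18,931,929]),(9,[],[825]),(0,[],[]),(0,[],[]),(0,[],[]),(0,[],[]),(0,[],[]),(0,[],[])]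

theorem ok1 : data.stepsOK st1 250 = true := by decide +kernel

def st2 : List Step := [(0,[],[]),(0,[],[]),(0,[],[]),(0,[],[]),(7,[15,13,11,107,108,162,83,770,988,990,992,994,996,998,1000,1002,1004,1006],[129,18,131,22,746]),(0,[],[]),(0,[],[]),(0,[],[]),(0,[],[]),(4,[169,402,404,420,1010,1012,1014,1016],[129,18,131]),(9,[820],[]),(9,[622],[]),(3,[628,630,632],[180,182]),(3,[202,516,506],[524,912]),(5,[506,1026,913,620],[504,91,126,95,93,91,126,95,93,91,89,12,14,169,527,940]),(2,[],[735]),(3,[826,828,830],[368,370]),(2,[],[745]),(3,[404,406,970],[940,1029,431]),(1,[1036],[]),(1,[1039,972],[]),(1,[619,1040],[]),(1,[1039,971],[]),(1,[1043],[]),(1,[1047,974],[]),(3,[422,424,426,1048,976],[1010]),(1,[1051],[]),(1,[1053,1012],[]),(1,[979,1054],[]),(1,[1053,1011],[]),(1,[1057],[]),(1,[1061,1014],[]),(1,[981,1062],[]),(1,[1065],[]),(1,[1067,1016],[]),(2,[714],[]),(2,[624],[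]),(2,[932],[]),(2,[642],[]),(2,[646],[]),(2,[650],[]),(2,[654],[]),(2,[674],[]),(2,[678],[]),(2,[682],[]),(2,[686],[]),(2,[690],[]),(9,[698],[]),(2,[706],[]),(2,[710],[]),(2,[748],[]),(9,[752],[]),(2,[756],[]),(2,[762],[]),(2,[766],[]),(2,[772],[]),(2,[812],[]),(2,[816],[]),(2,[822],[]),(9,[832],[]),(2,[840],[]),(2,[844],[]),(2,[848],[]),(2,[852],[]),(2,[856],[]),(9,[864],[]),(2,[872],[]),(2,[876],[]),(2,[880],[]),(2,[884],[]),(2,[904],[]),(2,[908],[]),(2,[914],[]),(2,[924],[]),(2,[928],[]),(2,[936],[]),(2,[942],[]),(9,[952],[]),(2,[956],[]),(2,[962],[]),(2,[966],[]),(2,[978],[]),(2,[1068],[]),(2,[990],[]),(0,[],[]),(0,[],[]),(0,[],[]),(0,[],[]),(0,[],[]),(0,[],[]),(0,[],[]),(0,[],[]),(0,[],[]),(0,[],[]),(0,[],[]),(0,[],[]),(0,[],[]),(0,[],[]),(0,[],[]),(0,[],[]),(0,[],[]),(0,[],[]),(0,[],[]),(0,[],[]),(0,[],[]),(0,[],[]),(0,[],[]),(0,[],[]),(0,[],[]),(0,[],[]),(0,[],[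]),(0,[],[]),(0,[],[]),(0,[],[]),(0,[],[]),(0,[],[]),(0,[],[]),(0,[],[]),(0,[],[]),(0,[],[]),(0,[],[]),(0,[],[]),(0,[],[]),(13,[128,15,170,172,174,176,542,250,1168,1170,1172,1174,1176,1178,1180,1182,1184,1186,1188,1190,1192,1194,1196,1198,1200,1202,1204,1206,1208,1210,1212,1214,1216,1218,1220,1222,1224,1226,1228,1230,1232,1234,1236,1238,1240,1242,1244],[1021]),(0,[],[]),(3,[210,212,1248],[18,931]),(0,[],[]),(0,[],[]),(0,[],[]),(0,[],[]),(6,[210,236,238,366,826,1252,1254,1256,1258],[17,169,527,940,1153,944]),(0,[],[]),(0,[],[]),(0,[],[]),(0,[],[]),(0,[],[]),(0,[],[]),(0,[],[]),(0,[],[]),(0,[],[]),(0,[],[]),(0,[],[]),(12,[18,20,22,24,939,1262,1264,1266,1268,1270,1272,1274,1276,1278,1280,1282],[1021]),(0,[],[]),(0,[],[]),(0,[],[]),(0,[],[]),(0,[],[]),(0,[],[]),(0,[],[]),(0,[],[]),(0,[],[]),(0,[],[]),(0,[],[]),(0,[],[]),(0,[],[]),(5,[210,212,1248,1286,1288,1290,1292,1294,12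96,1298,1300,1302,1304,1306,1308,1310],[17,169,167,85]),(0,[],[]),(0,[],[]),(0,[],[]),(0,[],[]),(0,[],[]),(0,[],[]),(0,[],[]),(0,[],[]),(0,[],[]),(0,[],[]),(7,[210,212,1248,1286,1288,1314,1316,1318,1320,1322,1324,1326,1328,1330,1332],[17,169,527,940,1029,431,429,427]),(0,[],[]),(0,[],[]),(11,[20,1336,1338],[]),(0,[],[]),(0,[],[]),(0,[],[]),(0,[],[]),(0,[],[]),(0,[],[]),(0,[],[]),(0,[],[]),(0,[],[]),(0,[],[]),(0,[],[]),(0,[],[]),(0,[],[]),(0,[],[]),(0,[],[]),(0,[],[]),(0,[],[]),(0,[],[]),(0,[],[]),(0,[],[]),(0,[],[]),(0,[],[]),(0,[],[]),(0,[],[]),(0,[],[]),(0,[],[]),(0,[],[]),(0,[],[]),(0,[],[]),(0,[],[]),(0,[],[]),(0,[],[]),(0,[],[]),(0,[],[]),(0,[],[]),(0,[],[]),(0,[],[]),(0,[],[]),(0,[],[]),(0,[],[]),(0,[],[]),(0,[],[]),(0,[],[]),(13,[20,1019,1164,982,1342,1344,1346,1348,1350,1352,1354,1356,1358,1360,1362,1364,1366,1368,1370,1372,1374,1376,1378,1380,1382,1384,1386,138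8,1390,1392,1394,1396,1398,1400,1402,1404,1406,1408,1410,1412,1414,1416,1418,1420,1422,1424,1426],[1341]),(0,[],[]),(0,[],[]),(0,[],[]),(0,[],[]),(0,[],[]),(0,[],[]),(0,[],[]),(0,[],[]),(8,[931,1251,1286,1288,1314,1316,1430,1432,1434,1436,1438,1440,1442,1444],[131,22,746,1101,750]),(0,[],[]),(0,[],[]),(0,[],[]),(0,[],[]),(0,[],[]),(0,[],[]),(0,[],[]),(0,[],[]),(0,[],[]),(0,[],[]),(0,[],[]),(0,[],[]),(12,[931,1148,985,1342,1448,1450,1452,1454,1456,1458,1460,1462,1464,1466,1468,1470],[1341]),(0,[],[]),(0,[],[]),(0,[],[]),(0,[],[]),(0,[],[]),(0,[],[]),(0,[],[]),(0,[],[]),(0,[],[]),(0,[],[]),(5,[19,210,212,214,216,218,1474,1476,1478,1480,1482,1484,1486,1488,1490,1492],[131,22,746,1101]),(9,[],[1341]),(0,[],[])]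

theorem ok2 : data.stepsOK st2 500 = true := by decide +kernel

def st3 : List Step := [(0,[],[]),(0,[],[]),(0,[],[]),(0,[],[]),(0,[],[]),(0,[],[]),(0,[],[]),(0,[],[]),(0,[],[]),(0,[],[]),(0,[],[]),(0,[],[]),(7,[19,210,212,214,216,1498,1500,1502,1504,1506,1508,1510,1512,1514,1516,1518,1520,1522],[131,22,133,939,1262]),(0,[],[]),(0,[],[]),(4,[931,1148,927,1146,1526,1528],[131,22,133,26,139]),(9,[1336],[]),(4,[78,80,770,772],[473,524,433,1028,1153,944,1261]),(3,[770,988],[82,1313,1311,1309]),(1,[1537],[]),(1,[1539,1307],[]),(1,[1166,1540],[]),(1,[1539,1308],[]),(1,[1543],[]),(1,[1547,1305],[]),(2,[1498],[]),(2,[1474],[]),(9,[1168],[]),(2,[],[1335]),(2,[],[1447]),(3,[774,776,778],[1534,1259]),(2,[1252],[]),(13,[1124,847,1122,843,1120,839,837,835,1118,831,829,827,574,239,564,211,128,15,170,172,174,176,542,250,1168,1170,1172,1174,1176,1178,1180,1182,1184,1186,1188,1190,119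2,1194,1196,1198,1200,1202,1204,1206,1208,1210,1212,1214],[]),(9,[],[1565]),(13,[1136,879,1134,875,1132,871,869,867,1130,863,861,859,1128,855,1126,851,1124,847,1122,843,1120,839,837,835,1118,831,829,827,574,239,564,211,128,15,170,172,174,176,542,250,1168,1170,1172,1174,1176,1178,1180,1182],[]),(9,[],[1569]),(2,[1342],[]),(8,[989,771,160,79,200,202,515,203,524,620,1028,941,526,167,162,1313],[1167,1548,1303,1301]),(1,[1574],[]),(1,[1577,1312],[]),(1,[1577,1311],[]),(1,[1298,1580],[]),(1,[1583],[]),(1,[1585,1545],[]),(1,[1296,1586],[]),(1,[1588],[]),(1,[1591,1296],[]),(1,[1591,1295],[]),(1,[988,1594],[]),(1,[1597],[]),(1,[1599,1293],[]),(1,[1110,1600],[]),(1,[1603],[]),(1,[1605,1291],[]),(1,[1535,1606],[]),(1,[1609],[]),(1,[1611,1314],[]),(1,[1261,1612],[]),(1,[1611,1289],[]),(1,[1258,1616],[]),(1,[1615],[]),(1,[1621,1316],[]),(1,[944,1622],[]),(1,[1619],[]),(1,[1627,1287]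,[]),(1,[1256,1628],[]),(1,[1625],[]),(1,[1633,1430],[]),(1,[1153,1634],[]),(1,[1633,1318],[]),(1,[1630],[]),(1,[1641,1256],[]),(1,[1641,1255],[]),(1,[1248,1644],[]),(1,[1637],[]),(1,[1649,1432],[]),(1,[1028,1650],[]),(1,[1647],[]),(1,[1655,1562],[]),(1,[215,1656],[]),(1,[1653],[]),(1,[1661,1434],[]),(1,[430,1662],[]),(1,[1659],[]),(1,[1667,828],[]),(1,[217,1668],[]),(1,[1667,827],[]),(1,[1665],[]),(1,[1675,1436],[]),(1,[619,1676],[]),(1,[1671],[]),(1,[1681,830],[]),(1,[219,1682],[]),(1,[1679],[]),(1,[1687,1438],[]),(1,[1049,1688],[]),(1,[1685],[]),(1,[1693,1032],[]),(1,[221,1694],[]),(1,[1693,832],[]),(1,[1693,1119],[]),(1,[1691],[]),(1,[1703,1440],[]),(1,[977,1704],[]),(1,[1697],[]),(1,[1709,371],[]),(1,[1707],[]),(1,[1713,1442],[]),(1,[979,1714],[]),(1,[1717],[]),(1,[1719,1444],[]),(6,[1000,1002,1004,1006,1008,748,750,1558,1721,1162,1058,614,406,408,410],[]),(2,[],[1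723]),(2,[1176],[]),(11,[1184],[1571,881]),(2,[1184],[]),(11,[1730,1568,1136],[]),(2,[1188],[]),(2,[1192],[]),(9,[1200],[]),(2,[1208],[]),(2,[1212],[]),(11,[1216],[1567,849]),(2,[1216],[]),(11,[1746,1564,1124],[]),(2,[1220],[]),(2,[1224],[]),(9,[1232],[]),(2,[1240],[]),(2,[1244],[]),(8,[1249,213,236,238,366,1673,566,213,211,128,15,13,88,126,164,93,505,506,1026,914],[]),(1,[1761],[]),(1,[1763,1642],[]),(1,[1145,1764],[]),(1,[1763,1250],[]),(1,[917,1768],[]),(1,[1763,1249],[]),(1,[1767],[]),(1,[1775,1258],[]),(1,[912,1776],[]),(1,[1775,1561],[]),(1,[1026,1780],[]),(1,[1771],[]),(1,[1785,1148],[]),(1,[1785,929],[]),(1,[1785,930],[]),(1,[919,1790],[]),(1,[1779],[]),(1,[1795,1260],[]),(1,[621,1796],[]),(1,[1795,1535],[]),(1,[524,1800],[]),(1,[1783],[]),(1,[1805,780],[]),(1,[279,1806],[]),(1,[1792],[]),(1,[1811,920],[]),(1,[21,1812],[]),(1,[1811,919],[]),(1,[1799],[]),(1,[181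9,945],[]),(1,[1029,1820],[]),(1,[1819,946],[]),(1,[430,1824],[]),(1,[1803],[]),(1,[1829,1110],[]),(1,[473,1830],[]),(1,[1809],[]),(1,[1835,782],[]),(1,[281,1836],[]),(1,[1815],[]),(1,[1841,922],[]),(1,[23,1842],[]),(1,[1823],[]),(1,[1847,943],[]),(1,[1847,1638],[]),(1,[940,1850],[]),(1,[1827],[]),(1,[1855,948],[]),(1,[619,1856],[]),(1,[1833],[]),(1,[1861,988],[]),(1,[76,1862],[]),(1,[1861,771],[]),(1,[79,1866],[]),(1,[1839],[]),(1,[1871,784],[]),(1,[283,1872],[]),(1,[1845],[]),(1,[1877,924],[]),(1,[25,1878],[]),(1,[1877,1526],[]),(1,[747,1882],[]),(1,[1853],[]),(1,[1887,1320],[]),(1,[405,1888],[]),(1,[1859],[]),(1,[1893,950],[]),(1,[1049,1894],[]),(1,[1865],[]),(1,[1899,990],[]),(1,[1899,1167],[]),(1,[1899,1592],[]),(1,[74,1904],[]),(1,[1869],[]),(1,[1909,81],[]),(1,[1909,82],[]),(1,[1875],[]),(1,[1915,786],[]),(1,[1881],[]),(1,[1919,926],[]),(1,[938,1920],[]),(1,[1885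],[]),(1,[1925,1528],[]),(1,[749,1926],[]),(1,[1891],[]),(1,[1931,1322],[]),(1,[421,1932],[]),(1,[1896],[]),(1,[1937,1049],[]),(1,[1907],[]),(1,[1941,1298],[]),(1,[1922],[]),(1,[1945,1150],[]),(1,[1788,1946],[]),(1,[1945,938],[]),(1,[1945,1262],[]),(1,[984,1952],[]),(1,[1929],[]),(1,[1957,1530],[]),(1,[751,1958],[]),(1,[1935],[]),(1,[1963,1324],[]),(1,[423,1964],[]),(1,[1949],[]),(1,[1969,935],[]),(1,[916,1970],[]),(1,[1955],[]),(1,[1975,1264],[]),(1,[1343,1976],[]),(1,[1975,1525],[]),(1,[982,1980],[]),(1,[1960],[]),(1,[1985,1558],[]),(1,[139,1986],[]),(1,[1985,751],[]),(1,[1985,752],[]),(1,[1985,1103],[]),(1,[1967],[]),(1,[1997,1326],[])]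

theorem ok3 : data.stepsOK st3 750 = true := by decide +kernel

end

end T352
end HN
end H39
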