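import Cfsg.Agent.H39.HN.T352.Data

/-!
Steps of a derivation (generated data).
-/

set_option autoImplicit false
set_option maxRecDepth 100000
set_option linter.all false
set_option Elab.async false

namespace H39
namespace HN
namespace T352

open H93.CosetI

noncomputable section

def st4 : List Step := [(1,[715,1998],[]),(1,[1973],[]),(1,[2003,1074],[]),(1,[1145,2004],[]),(1,[1978],[]),(1,[2009,1572],[]),(1,[2009,1343],[]),(1,[2009,1344],[]),(1,[1267,2014],[]),(1,[2009,1448],[]),(1,[1983],[]),(1,[2021,1523],[]),(1,[1164,2022],[]),(1,[1989],[]),(1,[2027,1721],[]),(1,[2001],[]),(1,[2031,1328],[]),(1,[2006],[]),(1,[2035,914],[]),(1,[2035,1145],[]),(1,[2035,913],[]),(1,[631,2040],[]),(1,[2035,1027],[]),(1,[628,2044],[]),(1,[2017],[]),(1,[2049,1346],[]),(1,[2025],[]),(1,[2053,1521],[]),(1,[1019,2054],[]),(1,[2042],[]),(1,[2059,632],[]),(1,[524,2060],[]),(1,[2059,631],[]),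(1,[2047],[]),(1,[2067,278],[]),(1,[549,2068],[]),(1,[2067,507],[]),(1,[181,2072],[]),(1,[2057],[]),(1,[2077,1519],[]),(1,[20,2078],[]),(1,[2063],[]),(1,[2083,1024],[]),(1,[203,2084],[]),(1,[2083,634],[]),(1,[2071],[]),(1,[2091,280],[]),(1,[543,2092],[]),(1,[2075],[]),(1,[2097,208],[]),(1,[2081],[]),(1,[2101,1517],[]),(1,[1817,2102],[]),(1,[2086],[]),(1,[2107,203],[]),(1,[2095],[]),(1,[2111,736],[]),(1,[579,2112],[]),(1,[2111,282],[]),(1,[251,2116],[]),(1,[2105],[]),(1,[2121,1515],[]),(1,[916,2122],[]),(1,[2115],[]),(1,[2127,738],[]),(1,[2119],[]),(1,[2131,1916],[]),(1,[2131,284],[]),(1,[253,2134],[]),(1,[2125],[]),(1,[2139,1513],[]),(1,[1773,2140],[]),(1,[2137],[]),(1,[2145,286],[]),(1,[2145,583],[]),(1,[2143],[]),(1,[2151,1511],[]),(1,[566,2152],[]),(1,[2155],[]),(1,[2157,1509],[]),(1,[1673,2158],[]),(1,[2161],[]),(1,[2163,1507],[]),(1,[366,2164],[]),(1,[2167],[]),(1,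[2169,1505],[]),(1,[238,2170],[]),(1,[2173],[]),(1,[2175,1503],[]),(1,[811,2176],[]),(1,[2179],[]),(1,[2181,1501],[]),(3,[1266,2050,1348],[2018,1450]),(9,[1268],[]),(4,[1267,2010,984,1789,917,2039,2065,620,431,618,1939],[]),(11,[],[1269,2189,1155]),(2,[1272],[]),(2,[1278],[]),(2,[1282],[]),(7,[1578,1913,79,200,2109,563,183,181,628,2036,916,1786,1950,26,2028,1162,1058,614,406,1045,430,432,525,472],[]),(1,[2199],[]),(1,[2201,1300],[]),(1,[201,2202],[]),(1,[2201,1578],[]),(1,[76,2206],[]),(1,[2201,1943],[]),(1,[79,2210],[]),(1,[2205],[]),(1,[2215,1302],[]),(1,[2108,2216],[]),(1,[2209],[]),(1,[2221,84],[]),(1,[1901,2222],[]),(1,[2212],[]),(1,[2227,1911,2226],[]),(1,[791,2228],[]),(1,[2227,79],[]),(1,[2219],[]),(1,[2235,1549],[]),(1,[182,2236],[]),(1,[2224],[]),(1,[2241,1903],[]),(1,[2241,1901],[]),(1,[2241,992],[]),(1,[167,2246],[]),(1,[2230],[]),(1,[2251,791],[]),(1,[2251,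792],[]),(1,[2233,2254],[]),(1,[2238,2240],[]),(1,[2259,2098],[]),(1,[2243,2260],[]),(1,[2259,181],[]),(1,[167,2264],[]),(1,[2259,182],[]),(1,[108,2268],[]),(1,[2249],[]),(1,[2273,994],[]),(1,[403,2274],[]),(1,[2257],[]),(1,[2279,794],[]),(1,[201,2280],[]),(1,[2263],[]),(1,[2285,91],[]),(1,[77,2286],[]),(1,[2267],[]),(1,[2291,548],[]),(1,[403,2292],[]),(1,[2291,628],[]),(1,[169,2296],[]),(1,[2271],[]),(1,[2301,2108],[]),(1,[11,2302],[]),(1,[2277],[]),(1,[2307,996],[]),(1,[405,2308],[]),(1,[2283],[]),(1,[2313,796],[]),(1,[2289],[]),(1,[2317,499],[]),(1,[2294],[]),(1,[2321,526],[]),(1,[2321,403],[]),(1,[2321,404],[]),(1,[543,2326],[]),(1,[2321,940],[]),(1,[176,2330],[]),(1,[2299],[]),(1,[2335,2036],[]),(1,[17,2336],[]),(1,[2335,2065],[]),(1,[14,2340],[]),(1,[2305],[]),(1,[2345,472],[]),(1,[2345,201],[]),(1,[2345,2314],[]),(1,[10,2350],[]),(1,[2345,2088],[]),(1,[419,2354],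[]),(1,[2311],[]),(1,[2359,998],[]),(1,[407,2360],[]),(1,[2329],[]),(1,[2365,420],[]),(1,[579,2366],[]),(1,[2365,406],[]),(1,[251,2370],[]),(1,[2333],[]),(1,[2375,1849,2374],[]),(1,[533,2376],[]),(1,[2375,1029],[]),(1,[496,2380],[]),(1,[2339],[]),(1,[2385,916],[]),(1,[211,2386],[]),(1,[2385,1772],[]),(1,[19,2390],[]),(1,[2343],[]),(1,[2395,620],[]),(1,[171,2396],[]),(1,[2353],[]),(1,[2401,798],[]),(1,[109,2402],[]),(1,[2357],[]),(1,[2407,636],[]),(1,[400,2408],[]),(1,[2363],[]),(1,[2413,1724],[]),(1,[409,2414],[]),(1,[2413,1000],[]),(1,[1044,2418],[]),(1,[2369],[]),(1,[2423,422],[]),(1,[2129,2424],[]),(1,[2423,1059],[]),(1,[246,2428],[]),(1,[2373],[]),(1,[2433,408],[]),(1,[2133,2434],[]),(1,[2433,1045],[]),(1,[253,2438],[]),(1,[2379],[]),(1,[2443,175],[]),(1,[2443,176],[]),(1,[2383],[]),(1,[2389],[]),(1,[2451,1786],[]),(1,[237,2452],[]),(1,[2393],[]),(1,[2457,214],[]),(1,[21,2458],[]),(1,[2457,213],[]),(1,[2449,2399],[]),(1,[2465,255],[]),(1,[470,2466],[]),(1,[2405],[]),(1,[2471,800],[]),(1,[167,2472],[]),(1,[2411],[]),(1,[2477,638],[]),(1,[2417],[]),(1,[2481,412],[]),(1,[411,2482],[]),(1,[2481,411],[]),(1,[2421],[]),(1,[2489,1002],[]),(1,[619,2490],[]),(1,[2426],[]),(1,[2495,740],[]),(1,[715,2496],[])]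

theorem ok4 : data.stepsOK st4 1000 = true := by decide +kernel

def st5 : List Step := [(1,[2431],[]),(1,[2501,978],[]),(1,[577,2502],[]),(1,[2436],[]),(1,[2507,2133],[]),(1,[2441],[]),(1,[2511,618],[]),(1,[2455],[]),(1,[2515,1950],[]),(1,[239,2516],[]),(1,[2515,985],[]),(1,[811,2520],[]),(1,[2461],[]),(1,[2525,216],[]),(1,[1018,2526],[]),(1,[2525,1672],[]),(1,[23,2530],[]),(1,[2469],[]),(1,[2535,2512],[]),(1,[469,2536],[]),(1,[2535,253],[]),(1,[232,2540],[]),(1,[2535,2146],[]),(1,[2535,2148],[]),(1,[2475],[]),(1,[2549,802],[]),(1,[2324,2550],[]),(1,[2485,2480],[]),(1,[2555,414],[]),(1,[2486,2556],[]),(1,[2493],[]),(1,[2561,1004],[]),(1,[1938,2562],[]),(1,[2499],[]),(1,[2567,742],[]),(1,[2033,2568],[]),(1,[2505],[]),(1,[2573,980],[]),(1,[2573,2029],[]),(1,[242,2576],[]),(1,[2518],[]),(1,[2581,239],[]),(1,[2523],[]),(1,[2585,2013],[]),(1,[813,2586],[]),(1,[2585,983],[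]),(1,[2183,2590],[]),(1,[2528],[]),(1,[2595,1018],[]),(1,[2533],[]),(1,[2599,368],[]),(1,[747,2600],[]),(1,[2539],[]),(1,[2605,1939],[]),(1,[818,2606],[]),(1,[2605,427],[]),(1,[377,2610],[]),(1,[2543],[]),(1,[2615,2509],[]),(1,[1031,2616],[]),(1,[2615,251],[]),(1,[230,2620],[]),(1,[2615,1168],[]),(1,[2615,1555],[]),(1,[2553],[]),(1,[2629,804],[]),(1,[543,2630],[]),(1,[2559],[]),(1,[2635,416],[]),(1,[2635,617],[]),(1,[2565],[]),(1,[2641,1006],[]),(1,[2189,2642],[]),(1,[2570],[]),(1,[2647,1330],[]),(1,[2647,2033],[]),(1,[2578],[]),(1,[2653,242],[]),(1,[2589],[]),(1,[2657,1266],[]),(1,[815,2658],[]),(1,[2592],[]),(1,[2663,1550],[]),(1,[2663,1499],[]),(1,[2663,2183],[]),(1,[2602],[]),(1,[2671,748],[]),(1,[2671,1101],[]),(1,[2671,747],[]),(1,[2671,1009],[]),(1,[1710,2678],[]),(1,[2609],[]),(1,[2683,952],[]),(1,[2683,1155],[]),(1,[2613],[]),(1,[2689,1556],[]),(1,[1035,2690],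[]),(1,[2689,425],[]),(1,[379,2694],[]),(1,[2618],[]),(1,[2699,734],[]),(1,[2637,2700],[]),(1,[2623],[]),(1,[2705,578],[]),(1,[571,2706],[]),(1,[2705,543],[]),(1,[2633,2704],[]),(1,[2713,806],[]),(1,[571,2714],[]),(1,[2644],[]),(1,[2719,2050],[]),(1,[2719,1268],[]),(1,[2719,2187],[]),(1,[2719,2661],[]),(1,[2727,2720],[]),(1,[2727,2722],[]),(1,[2727,2724],[]),(1,[2727,2681],[]),(1,[2735,816],[]),(1,[223,2736],[]),(1,[2735,2728],[]),(1,[1711,2740],[]),(1,[2735,815],[]),(1,[220,2744],[]),(1,[2735,2730],[]),(1,[2735,2732],[]),(1,[2693],[]),(1,[2753,1333],[]),(1,[2651,2754],[]),(1,[2697],[]),(1,[2759,714],[]),(1,[381,2760],[]),(1,[2702],[]),(1,[2765,2639],[]),(1,[2765,2637],[]),(1,[2709],[]),(1,[2771,247],[]),(1,[226,2772],[]),(1,[2717],[]),(1,[2777,808],[]),(1,[2739],[]),(1,[2781,818],[]),(1,[2781,2684],[]),(1,[2781,2686],[]),(1,[2743],[]),(1,[2789,1348],[]),(1,[2677,2790],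[]),(1,[2747],[]),(1,[2795,1112],[]),(1,[1475,2796],[]),(1,[2757],[]),(1,[2801,2649],[]),(1,[717,2802],[]),(1,[2763],[]),(1,[2807,2651],[]),(1,[383,2808],[]),(1,[2807,716],[]),(1,[2775],[]),(1,[2815,576],[]),(1,[2815,245],[]),(1,[2793],[]),(1,[2821,2184],[]),(1,[22,2822],[]),(1,[2821,1350],[]),(1,[153,2826],[]),(1,[2798],[]),(1,[2831,1552],[]),(1,[2831,1475],[]),(1,[2831,1476],[]),(1,[810,2836],[]),(1,[2805],[]),(1,[2841,744],[]),(1,[2841,1035],[]),(1,[2841,2811],[]),(1,[2847,2842],[]),(1,[2847,2844],[]),(1,[2847,2813],[]),(1,[2825],[]),(1,[2855,1452],[]),(1,[131,2856],[]),(1,[2829],[]),(1,[2861,1352],[]),(1,[2839],[]),(1,[2865,1478],[]),(1,[2582,2866],[]),(1,[2859],[]),(1,[2871,1454],[]),(1,[18,2872],[]),(1,[2869],[]),(1,[2877,1480],[]),(1,[27,2878],[]),(1,[2875],[]),(1,[2883,1456],[]),(1,[821,2884],[]),(1,[2881],[]),(1,[2889,1482],[]),(1,[29,2890],[]),(1,[2887],[]),(1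,[2895,1458],[]),(1,[1284,2896],[]),(1,[2893],[]),(1,[2901,1484],[]),(1,[31,2902],[]),(1,[2899],[]),(1,[2907,1460],[]),(1,[2197,2908],[]),(1,[2905],[]),(1,[2913,1486],[]),(1,[2911],[]),(1,[2917,1462],[]),(2,[1338],[]),(2,[1358],[]),(2,[1362],[]),(2,[1366],[]),(2,[1370],[]),(2,[1374],[]),(9,[1382],[]),(2,[1390],[]),(2,[1394],[]),(2,[1398],[]),(2,[1402],[]),(2,[1406],[]),(9,[1414],[]),(2,[1422],[]),(2,[1426],[]),(2,[1466],[]),(2,[1470],[]),(3,[],[2915,31,1990,1495,1493,1491]),(1,[2955],[]),(1,[2957,1489],[]),(1,[2957,1490],[]),(7,[2960,1492,1494,2675,2676,24,26,2654,2574,2664,218,2835,811,2583,26,28,30,32,34,36,38],[2958,2915,141]),(1,[2962],[]),(1,[2965,39],[]),(1,[2965,40],[]),(1,[2965,143],[]),(5,[1492,1494,1991,138,2654,2574,2664,218,220,1710,2672,1991,30,32,34,36,2967,140,2914,2960],[]),(0,[],[]),(0,[],[]),(0,[],[]),(0,[],[]),(0,[],[]),(0,[],[]),(0,[],[]),(0,[],[]),(0,[],[]),(0,[],[]),(0,[],[]),(0,[],[]),(0,[],[])]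

theorem ok5 : data.stepsOK st5 1250 = true := by decide +kernel

def st6 : List Step := [(0,[],[]),(0,[],[]),(0,[],[]),(0,[],[]),(0,[],[]),(0,[],[]),(0,[],[]),(0,[],[]),(0,[],[]),(0,[],[]),(0,[],[]),(0,[],[]),(0,[],[]),(0,[],[]),(0,[],[]),(0,[],[]),(0,[],[]),(0,[],[]),(0,[],[]),(0,[],[]),(0,[],[]),(0,[],[]),(0,[],[]),(0,[],[]),(0,[],[]),(0,[],[]),(13,[130,19,128,15,170,172,2446,2711,2974,2976,2978,2980,2982,2984,2986,2988,2990,2992,2994,2996,2998,3000,3002,3004,3006,3008,3010,3012,3014,3016,3018,3020,3022,3024,3026,3028,3030,3032,3034,3036,3038,3040,3042,3044,3046,3048,3050],[1533]),(0,[],[]),(0,[],[]),(0,[],[]),(0,[],[]),(0,[],[]),(0,[],[]),(0,[],[]),(0,[],[]),(12,[22,24,2582,564,211,18,20,2597,3054,3056,3058,3060,3062,3064,3066,3068],[1533]),(0,[],[]),(0,[],[]),(0,[],[]),(0,[],[]),(0,[],[]),(0,[],[]),(0,[],[]),(0,[],[]),(0,[],[]),(0,[],[]),(0,[],[]),(0,[],[]),(12,[2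677,2672,1495,3072,3074,3076,3078,3080,3082,3084,3086,3088,3090,3092,3094],[149,2862]),(8,[27,2582,564,2463,20,2597,2667,2575,2655,28,30,2914,2959,2915,32,2966],[139,1990,1495]),(5,[2654,2574,2668,2832,220,1710,2672,1991,30,2914,2959,2960,1492,3072],[139,1990,1495,3099,37,35,2966]),(1,[3100],[]),(1,[3103,3073],[]),(1,[3103,3074],[]),(1,[36,3106],[]),(1,[3109],[]),(1,[3111,3076],[]),(1,[34,3112],[]),(1,[3115],[]),(1,[3117,3078],[]),(1,[141,3118],[]),(1,[3121],[]),(1,[3123,3080],[]),(1,[2915,3124],[]),(1,[3127],[]),(1,[3129,3082],[]),(11,[],[159,2252,73]),(9,[3054],[]),(9,[2974],[]),(2,[],[3097]),(13,[2938,1397,2936,1393,2934,1389,1387,1385,2932,1381,1379,1377,2930,1373,2928,1369,2926,1365,2924,1361,2922,1357,1355,2863,148,2677,1711,221,2835,2669,2664,2596,130,19,128,15,170,172,2446,2711,2974,2976,2978,2980,2982,2984,2986,2988],[]),(9,[],[3141]),(9,[3130],[]),(2,[2986],[]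),(11,[2990],[3143,1399]),(2,[2990],[]),(11,[3150,3140,2938],[]),(2,[3058],[]),(2,[3064],[]),(2,[3068],[]),(11,[],[3131,2958,3145]),(2,[3086],[]),(2,[3092],[]),(0,[],[]),(0,[],[]),(0,[],[]),(0,[],[]),(6,[26,28,30,32,34,3166,3168,3170,3172],[25,2677,2674,1495,3099,37]),(0,[],[]),(0,[],[]),(0,[],[]),(0,[],[]),(0,[],[]),(0,[],[]),(12,[2582,564,211,128,169,167,2242,75,158,71,3176,3178,3180,3182,3184,3186],[135]),(0,[],[]),(11,[28,1992,3190],[]),(0,[],[]),(0,[],[]),(0,[],[]),(0,[],[]),(0,[],[]),(0,[],[]),(0,[],[]),(0,[],[]),(0,[],[]),(0,[],[]),(0,[],[]),(0,[],[]),(0,[],[]),(0,[],[]),(0,[],[]),(0,[],[]),(0,[],[]),(0,[],[]),(0,[],[]),(0,[],[]),(0,[],[]),(0,[],[]),(0,[],[]),(0,[],[]),(0,[],[]),(0,[],[]),(0,[],[]),(0,[],[]),(0,[],[]),(0,[],[]),(0,[],[]),(0,[],[]),(0,[],[]),(0,[],[]),(0,[],[]),(0,[],[]),(0,[],[]),(0,[],[]),(0,[],[]),(0,[],[]),(0,[],[]),(13,[28,30,32,34,3166,3168,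3194,3196,3198,3200,3202,3204,3206,3208,3210,3212,3214,3216,3218,3220,3222,3224,3226,3228,3230,3232,3234,3236,3238,3240,3242,3244,3246,3248,3250,3252,3254,3256,3258,3260,3262,3264,3266,3268,3270,3272,3274],[3193]),(0,[],[]),(0,[],[]),(0,[],[]),(0,[],[]),(0,[],[]),(0,[],[]),(0,[],[]),(0,[],[]),(12,[27,132,2677,2672,1495,1493,2972,1492,3278,3280,3282,3284,3286,3288,3290,3292],[3193]),(9,[],[3193]),(11,[138,3296],[1994]),(8,[35,2966,3098,1494,2675,2676,24,2582,810,2832,220,1710,2672,1495,3105,37,3166,3168,3194],[3175]),(1,[3300],[]),(1,[3303,3196],[]),(1,[3303,3195],[]),(1,[3172,3306],[]),(1,[3308],[]),(1,[3311,3171],[]),(1,[3311,3172],[]),(2,[3166],[3175]),(1,[3317],[]),(1,[3319,3174],[]),(1,[3319,3304],[]),(1,[3169,3322],[]),(1,[3319,3315],[]),(1,[3325],[]),(1,[3329,3198],[]),(2,[3176],[]),(9,[3278],[]),(9,[3330],[]),(2,[3182],[]),(2,[3186],[]),(11,[],[3331,3312,3337]),(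2,[3206],[]),(2,[3210],[]),(2,[3214],[]),(2,[3218],[]),(2,[3222],[]),(9,[3230],[]),(2,[3238],[]),(2,[3242],[]),(2,[3246],[]),(2,[3250],[]),(2,[3254],[]),(9,[3262],[]),(2,[3270],[]),(2,[3274],[]),(2,[3282],[]),(2,[3288],[]),(2,[3292],[]),(0,[],[]),(0,[],[]),(0,[],[]),(0,[],[]),(0,[],[]),(0,[],[]),(0,[],[]),(0,[],[]),(0,[],[]),(0,[],[]),(0,[],[]),(0,[],[]),(0,[],[]),(0,[],[]),(0,[],[]),(0,[],[]),(0,[],[]),(0,[],[]),(0,[],[]),(0,[],[]),(0,[],[]),(0,[],[]),(0,[],[]),(0,[],[]),(0,[],[]),(0,[],[]),(0,[],[]),(0,[],[]),(0,[],[]),(0,[],[]),(0,[],[]),(0,[],[]),(0,[],[]),(0,[],[]),(0,[],[]),(0,[],[]),(0,[],[]),(0,[],[]),(13,[138,2654,2819,226,228,230,232,470,622,3378,3380,3382,3384,3386,3388,3390,3392,3394,3396,3398,3400,3402,3404,3406,3408,3410,3412,3414,3416,3418,3420,3422,3424,3426,3428,3430,3432,3434,3436,3438,3440,3442,3444,3446,3448,3450,3452],[1994]),(0,[],[]),(0,[],[]),(0,[],[]),(0,[],[]),(0,[],[]),(0,[],[]),(12,[1990,2675,1711,222,2782,376,2851,2852,3456,3458,3460,3462,3464,3466],[1994,754,1105]),(0,[],[]),(11,[32,2968,3470],[]),(0,[],[]),(0,[],[]),(0,[],[]),(0,[],[]),(0,[],[]),(0,[],[]),(0,[],[]),(0,[],[]),(0,[],[]),(0,[],[]),(0,[],[]),(0,[],[]),(0,[],[])]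

theorem ok6 : data.stepsOK st6 1500 = true := by decide +kernel

def st7 : List Step := [(0,[],[]),(0,[],[]),(0,[],[]),(0,[],[]),(0,[],[]),(0,[],[]),(0,[],[]),(0,[],[]),(0,[],[]),(0,[],[]),(0,[],[]),(0,[],[]),(0,[],[]),(0,[],[]),(0,[],[]),(0,[],[]),(0,[],[]),(0,[],[]),(0,[],[]),(0,[],[]),(0,[],[]),(0,[],[]),(0,[],[]),(0,[],[]),(0,[],[]),(0,[],[]),(13,[32,34,3166,3168,3313,3327,3168,3327,3474,3476,3478,3480,3482,3484,3486,3488,3490,3492,3494,3496,3498,3500,3502,3504,3506,3508,3510,3512,3514,3516,3518,3520,3522,3524,3526,3528,3530,3532,3534,3536,3538,3540,3542,3544,3546,3548,3550],[3473]),(0,[],[]),(0,[],[]),(0,[],[]),(0,[],[]),(0,[],[]),(0,[],[]),(0,[],[]),(0,[],[]),(12,[31,138,27,132,2677,1711,222,224,3554,3556,3558,3560,3562,3564,3566,3568],[3473]),(9,[],[3473]),(11,[140,3572],[2970]),(9,[3554],[]),(9,[3456],[]),(9,[3474],[]),(13,[3360,3245,3358,3241,3356,3237,3235,3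233,3354,3229,3227,3225,3352,3221,3350,3217,3348,3213,3346,3209,3344,3205,3203,3201,3336,3169,3326,3169,3320,35,140,31,138,2654,2819,226,228,230,232,470,622,3378,3380,3382,3384,3386,3388,3390],[]),(9,[],[3583]),(2,[3388],[]),(11,[3392],[3585,3247]),(2,[3392],[]),(11,[3590,3582,3360],[]),(2,[3460],[]),(2,[3466],[]),(2,[3482],[]),(2,[3486],[]),(2,[3490],[]),(2,[3494],[]),(2,[3498],[]),(9,[3506],[]),(2,[3514],[]),(2,[3518],[]),(2,[3522],[]),(2,[3526],[]),(2,[3530],[]),(9,[3538],[]),(2,[3546],[]),(2,[3550],[]),(2,[3558],[]),(2,[3564],[]),(0,[],[]),(0,[],[]),(0,[],[]),(0,[],[]),(0,[],[]),(0,[],[]),(0,[],[]),(0,[],[]),(0,[],[]),(0,[],[]),(0,[],[]),(0,[],[]),(0,[],[]),(0,[],[]),(0,[],[]),(0,[],[]),(0,[],[]),(0,[],[]),(0,[],[]),(0,[],[]),(0,[],[]),(0,[],[]),(0,[],[]),(0,[],[]),(0,[],[]),(0,[],[]),(0,[],[]),(0,[],[]),(0,[],[]),(0,[],[]),(0,[],[]),(0,[],[]),(0,[],[]),(0,[],[]),(0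,[],[]),(0,[],[]),(0,[],[]),(13,[140,2914,2959,2960,2972,1492,1494,1991,1992,754,3630,3632,3634,3636,3638,3640,3642,3644,3646,3648,3650,3652,3654,3656,3658,3660,3662,3664,3666,3668,3670,3672,3674,3676,3678,3680,3682,3684,3686,3688,3690,3692,3694,3696,3698,3700,3702],[2970]),(0,[],[]),(0,[],[]),(0,[],[]),(0,[],[]),(0,[],[]),(0,[],[]),(0,[],[]),(12,[2966,3098,1493,2972,2961,2915,32,34,3706,3708,3710,3712,3714,3716,3718],[2970,42]),(0,[],[]),(11,[3166,3474,3722],[]),(0,[],[]),(0,[],[]),(0,[],[]),(0,[],[]),(0,[],[]),(0,[],[]),(0,[],[]),(0,[],[]),(0,[],[]),(0,[],[]),(0,[],[]),(0,[],[]),(0,[],[]),(0,[],[]),(0,[],[]),(0,[],[]),(0,[],[]),(0,[],[]),(0,[],[]),(0,[],[]),(0,[],[]),(0,[],[]),(0,[],[]),(0,[],[]),(0,[],[]),(0,[],[]),(0,[],[]),(0,[],[]),(0,[],[]),(0,[],[]),(0,[],[]),(0,[],[]),(0,[],[]),(0,[],[]),(0,[],[]),(0,[],[]),(0,[],[]),(13,[3166,3168,3313,3327,3320,36,2967,34,370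6,3708,3726,3728,3730,3732,3734,3736,3738,3740,3742,3744,3746,3748,3750,3752,3754,3756,3758,3760,3762,3764,3766,3768,3770,3772,3774,3776,3778,3780,3782,3784,3786,3788,3790,3792,3794,3796,3798],[3725]),(0,[],[]),(0,[],[]),(0,[],[]),(0,[],[]),(0,[],[]),(12,[35,140,31,138,27,2582,564,2463,1496,1473,2952,3802,3804,3806,3808,3810],[3725]),(9,[3706],[3725]),(1,[3815],[]),(1,[3817,3723],[]),(1,[3817,3801],[]),(1,[3817,3813],[]),(1,[3709,3822],[]),(1,[3817,3724],[]),(1,[3825],[]),(1,[3829,3811],[]),(2,[],[3721]),(11,[3320,3706],[3581]),(13,[3602,3489,3600,3485,3598,3481,3479,3477,3580,3326,3169,3326,3313,3169,3320,35,140,2914,2959,2960,2972,1492,1494,1991,1992,754,3630,3632,3634,3636,3638,3640,3642,3644,3646,3648,3650,3652,3654,3656,3658,3660,3662,3664,3666,3668,3670,3672],[]),(9,[],[3837]),(13,[3614,3521,3612,3517,3610,3513,3511,3509,3608,3505,3503,3501,3606,3497,3604,3493,360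2,3489,3600,3485,3598,3481,3479,3477,3580,3326,3169,3326,3313,3169,3320,35,140,2914,2959,2960,2972,1492,1494,1991,1992,754,3630,3632,3634,3636,3638,3640],[]),(9,[],[3841]),(2,[3634],[]),(2,[3638],[]),(11,[3642],[3843,3523]),(2,[3642],[]),(11,[3850,3840,3614],[]),(9,[3658],[]),(2,[3666],[]),(2,[3670],[]),(2,[3674],[]),(11,[3860,3836,3602],[]),(9,[3690],[]),(2,[3698],[]),(2,[3702],[]),(2,[3710],[3830]),(1,[3871],[]),(1,[3873,3831],[]),(1,[3873,3809],[]),(2,[3716],[]),(2,[3730],[]),(2,[3738],[]),(2,[3742],[]),(2,[3746],[]),(9,[3754],[]),(2,[3762],[]),(2,[3766],[]),(2,[3770],[]),(2,[3774],[]),(9,[3786],[]),(2,[3794],[]),(2,[3798],[]),(2,[3806],[]),(0,[],[]),(11,[3098,3278,3906],[]),(0,[],[]),(0,[],[]),(0,[],[]),(0,[],[]),(0,[],[]),(0,[],[]),(0,[],[]),(0,[],[]),(0,[],[]),(0,[],[]),(0,[],[]),(0,[],[]),(0,[],[]),(0,[],[]),(0,[],[]),(0,[],[]),(0,[],[]),(0,[],[]),(0,[],[]),(0,[]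,[]),(0,[],[]),(0,[],[]),(0,[],[]),(0,[],[]),(0,[],[]),(0,[],[]),(0,[],[]),(0,[],[]),(0,[],[]),(0,[],[]),(0,[],[]),(0,[],[]),(0,[],[]),(0,[],[]),(0,[],[]),(0,[],[]),(0,[],[]),(0,[],[]),(0,[],[]),(13,[3098,1494,2675,2676,24,26,2654,2574,3910,3912,3914,3916,3918,3920,3922,3924,3926,3928,3930,3932,3934,3936,3938,3940,3942,3944,3946,3948,3950,3952,3954,3956,3958,3960,3962,3964,3966,3968,3970,3972,3974,3976,3978,3980,3982,3984,3986],[3909]),(0,[],[]),(0,[],[]),(0,[],[]),(0,[],[]),(0,[],[])]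

theorem ok7 : data.stepsOK st7 1750 = true := by decide +kernel

end

end T352
end HN
end H39
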