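import Cfsg.Agent.H39.HN.T352.Data

/-!
Steps of a derivation (generated data).
-/

set_option autoImplicit false
set_option maxRecDepth 100000
set_option linter.all false
set_option Elab.async false

namespace H39
namespace HN
namespace T352

open H93.CosetI

noncomputable section

def st44 : List Step := [(1,[21987],[]),(1,[22001,18778],[]),(1,[15347,22002],[]),(1,[21992],[]),(1,[22007,18608],[]),(1,[15923,22008],[]),(1,[21999],[]),(1,[22013,19108],[]),(1,[21733,22014],[]),(1,[22005],[]),(1,[22019,18780],[]),(1,[15349,22020],[]),(1,[22011],[]),(1,[22025,18457],[]),(1,[15925,22026],[]),(1,[22017],[]),(1,[22031,18952],[]),(1,[17142,22032],[]),(1,[22031,18951],[]),(1,[22023],[]),(1,[22039,18782],[]),(1,[15351,22040],[]),(1,[22029],[]),(1,[22045,18306],[]),(1,[15741,22046],[]),(1,[22045,18198],[]),(1,[15738,22050],[]),(1,[22035],[]),(1,[22055,18954],[]),(1,[22043],[]),(1,[22059,18784],[]),(1,[15459,22060],[]),(1,[22049],[]),(1,[22065,19010],[]),(1,[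15743,22066],[]),(1,[22065,18195],[]),(1,[22053],[]),(1,[22073,18200],[]),(1,[16097,22074],[]),(1,[22063],[]),(1,[22079,18786],[]),(1,[21335,22080],[]),(1,[22069],[]),(1,[22085,19012],[]),(1,[22077],[]),(1,[22089,18472],[]),(1,[22089,18202],[]),(1,[15862,22092],[]),(1,[22083],[]),(1,[22097,18788],[]),(1,[20851,22098],[]),(1,[22097,18841],[]),(1,[20870,22102],[]),(1,[22095],[]),(1,[22107,19210],[]),(1,[16103,22108],[]),(1,[22107,18204],[]),(1,[22101],[]),(1,[22115,18790],[]),(1,[4268,22116],[]),(1,[22105],[]),(1,[22121,18522],[]),(1,[5383,22122],[]),(1,[22121,18521],[]),(1,[5380,22126],[]),(1,[22111],[]),(1,[22131,19212],[]),(1,[22119],[]),(1,[22135,18792],[]),(1,[20411,22136],[]),(1,[22125],[]),(1,[22141,18524],[]),(1,[5385,22142],[]),(1,[22129],[]),(1,[22147,7150],[]),(1,[20373,22148],[]),(1,[22139],[]),(1,[22153,6780],[]),(1,[14278,22154],[]),(1,[22145],[]),(1,[22159,18526],[]),(1,[21755,22160],[]),(1,[22150],[]),(1,[22165,20375],[]),(1,[22165,2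0373],[]),(1,[22165,20366],[]),(1,[6774,22170],[]),(1,[22165,21737],[]),(1,[22157],[]),(1,[22177,18188],[]),(1,[5140,22178],[]),(1,[22177,12689],[]),(1,[5143,22182],[]),(1,[22163],[]),(1,[22187,18528],[]),(1,[12097,22188],[]),(1,[22173],[]),(1,[22193,17258],[]),(1,[18223,22194],[]),(1,[22193,21747],[]),(1,[6772,22198],[]),(1,[22181],[]),(1,[22203,18414],[]),(1,[17445,22204],[]),(1,[22203,18190],[]),(1,[20419,22208],[]),(1,[22184],[]),(1,[22213,21814],[]),(1,[12685,22214],[]),(1,[22213,5143],[]),(1,[22213,5144],[]),(1,[669,22220],[]),(1,[22191],[]),(1,[22225,18530],[]),(1,[12099,22226],[]),(1,[22196],[]),(1,[22231,18278],[]),(1,[22231,18223],[]),(1,[22231,18224],[]),(1,[21455,22236],[]),(1,[22231,18624],[]),(1,[17176,22240],[]),(1,[22200],[]),(1,[22245,6771],[]),(1,[4400,22246],[]),(1,[22245,6772],[]),(1,[22207],[]),(1,[22253,18416],[]),(1,[22253,18652],[]),(1,[20224,22256],[]),(1,[22210],[]),(1,[22261,16946],[]),(1,[672,22262],[]),(1,[22261,20419]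,[]),(1,[22217],[]),(1,[22269,22037],[]),(1,[17940,22270],[]),(1,[22223],[]),(1,[22275,5146],[]),(1,[12717,22276],[]),(1,[22229],[]),(1,[22281,18532],[]),(1,[12101,22282],[]),(1,[22281,21413],[]),(1,[22238],[]),(1,[22289,18558],[]),(1,[18227,22290],[]),(1,[22243],[]),(1,[22295,18626],[]),(1,[17174,22296],[]),(1,[22249],[]),(1,[22301,21428],[]),(1,[22301,21430],[]),(1,[22301,21432],[]),(1,[4398,22306],[]),(1,[22301,7148],[]),(1,[22259],[]),(1,[22313,18654],[]),(1,[17129,22314],[]),(1,[22313,18829],[]),(1,[17126,22318],[]),(1,[22265],[]),(1,[22323,16948],[]),(1,[18193,22324],[]),(1,[22272],[]),(1,[22329,18072],[]),(1,[21734,22330],[]),(1,[22329,18666],[]),(1,[17142,22334],[]),(1,[22278],[]),(1,[22339,12717],[]),(1,[22339,15344],[]),(1,[21807,22342],[]),(1,[22339,6843],[]),(1,[21822,22346],[]),(1,[22285],[]),(1,[22351,21409],[]),(1,[12103,22352],[]),(1,[22293],[]),(1,[22357,18560],[]),(1,[18229,22358],[]),(1,[22299],[]),(1,[22363,18628],[]),(1,[17257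,22364],[]),(1,[22309],[]),(1,[22369,16656],[]),(1,[4396,22370],[]),(1,[22317],[]),(1,[22375,18656],[]),(1,[17131,22376],[]),(1,[22321],[]),(1,[22381,21460],[]),(1,[17243,22382],[]),(1,[22381,18827],[]),(1,[20233,22386],[]),(1,[22326],[]),(1,[22391,18274],[]),(1,[22391,18193],[]),(1,[22391,22071],[]),(1,[16951,22396],[]),(1,[22391,18384],[]),(1,[22333],[]),(1,[22403,17937],[]),(1,[22174,22404],[]),(1,[22337],[]),(1,[22409,18668],[]),(1,[17249,22410],[]),(1,[22409,18838],[]),(1,[22057,22414],[]),(1,[22345],[]),(1,[22419,18262],[]),(1,[15245,22420],[]),(1,[22419,15346],[]),(1,[15242,22424],[]),(1,[22349],[]),(1,[22429,7182],[]),(1,[1087,22430],[]),(1,[22429,18373],[]),(1,[681,22434],[]),(1,[22354],[]),(1,[22439,17560],[]),(1,[873,22440],[]),(1,[22439,12104],[]),(1,[870,22444],[]),(1,[22439,12103],[]),(1,[22361],[]),(1,[22451,18562],[]),(1,[18231,22452],[]),(1,[22367],[]),(1,[22457,18630],[]),(1,[22373],[]),(1,[22461,16658],[]),(1,[22174,22462],[]),(1,[22379],[]),(1,[22467,18910],[]),(1,[4327,22468],[]),(1,[22467,18658],[]),(1,[4324,22472],[]),(1,[22384],[]),(1,[22477,17243],[]),(1,[22477,17123],[]),(1,[15966,22480],[]),(1,[22389],[]),(1,[22485,18938],[]),(1,[17485,22486],[]),(1,[22485,18849],[]),(1,[22398],[]),(1,[22493,21760],[]),(1,[15823,22494],[]),(1,[22493,16952],[])]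

theorem ok44 : data.stepsOK st44 11000 = true := by decide +kernel

def st45 : List Step := [(1,[15743,22498],[]),(1,[22407],[]),(1,[22503,18070],[]),(1,[22167,22504],[]),(1,[22503,18692],[]),(1,[6774,22508],[]),(1,[22413],[]),(1,[22513,18670],[]),(1,[17217,22514],[]),(1,[22416],[]),(1,[22519,22057],[]),(1,[22519,18956],[]),(1,[22519,19111],[]),(1,[22423],[]),(1,[22527,18344],[]),(1,[19149,22528],[]),(1,[22527,18264],[]),(1,[15247,22532],[]),(1,[22427],[]),(1,[22537,15348],[]),(1,[20983,22538],[]),(1,[22433],[]),(1,[22543,18465],[]),(1,[676,22544],[]),(1,[22543,6839],[]),(1,[21836,22548],[]),(1,[22437],[]),(1,[22553,18582],[]),(1,[683,22554],[]),(1,[22443],[]),(1,[22559,17545],[]),(1,[875,22560],[]),(1,[22447],[]),(1,[22565,17535],[]),(1,[868,22566],[]),(1,[22565,12467],[]),(1,[22455],[]),(1,[22573,18603],[]),(1,[17949,22574],[]),(1,[22465],[]),(1,[22579,16660],[]),(1,[22167,22580],[]),(1,[22471],[]),(1,[22585,21456],[]),(1,[4329,22586],[]),(1,[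22585,18755],[]),(1,[17000,22590],[]),(1,[22475],[]),(1,[22595,18660],[]),(1,[17219,22596],[]),(1,[22483],[]),(1,[22601,16624],[]),(1,[15793,22602],[]),(1,[22601,16502],[]),(1,[15651,22606],[]),(1,[22489],[]),(1,[22611,18823],[]),(1,[17398,22612],[]),(1,[22497],[]),(1,[22617,18418],[]),(1,[15738,22618],[]),(1,[22617,22255],[]),(1,[15924,22622],[]),(1,[22501],[]),(1,[22627,16954],[]),(1,[22627,17025],[]),(1,[22627,21776],[]),(1,[22087,22632],[]),(1,[22507],[]),(1,[22637,17933],[]),(1,[5381,22638],[]),(1,[22511],[]),(1,[22643,18694],[]),(1,[22250,22644],[]),(1,[22517],[]),(1,[22649,18672],[]),(1,[17121,22650],[]),(1,[22530],[]),(1,[22655,19150],[]),(1,[22655,19149],[]),(1,[22535],[]),(1,[22661,18266],[]),(1,[15249,22662],[]),(1,[22661,21392],[]),(1,[22661,21395],[]),(1,[22540],[]),(1,[22671,20985],[]),(1,[22671,20983],[]),(1,[22671,17854],[]),(1,[15351,22676],[]),(1,[22671,17866],[]),(1,[22547],[]),(1,[22683,21970],[]),(1,[18233,22684],[]),(1,[22551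],[]),(1,[22689,18570],[]),(1,[5420,22690],[]),(1,[22689,8681],[]),(1,[5198,22694],[]),(1,[22557],[]),(1,[22699,18369],[]),(1,[685,22700],[]),(1,[22699,18441],[]),(1,[17575,22704],[]),(1,[22563],[]),(1,[22709,17562],[]),(1,[877,22710],[]),(1,[22569],[]),(1,[22715,17572],[]),(1,[22715,17533],[]),(1,[22577],[]),(1,[22721,18391],[]),(1,[22583],[]),(1,[22725,16662],[]),(1,[5381,22726],[]),(1,[22589],[]),(1,[22731,16104],[]),(1,[12538,22732],[]),(1,[22731,15892],[]),(1,[16416,22736],[]),(1,[22593],[]),(1,[22741,21459],[]),(1,[16888,22742],[]),(1,[22599],[]),(1,[22747,18662],[]),(1,[22605],[]),(1,[22751,16512],[]),(1,[5078,22752],[]),(1,[22751,16499],[]),(1,[5081,22756],[]),(1,[22609],[]),(1,[22761,16504],[]),(1,[15653,22762],[]),(1,[22761,16670],[]),(1,[21301,22766],[]),(1,[22615],[]),(1,[22771,18936],[]),(1,[17483,22772],[]),(1,[22621],[]),(1,[22777,18420],[]),(1,[16097,22778],[]),(1,[22777,22491],[]),(1,[15736,22782],[]),(1,[22625],[]),(1,[22787,2022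5],[]),(1,[22787,17408],[]),(1,[22634],[]),(1,[22793,19092],[]),(1,[18451,22794],[]),(1,[22793,22087],[]),(1,[22641],[]),(1,[22801,17931],[]),(1,[20871,22802],[]),(1,[22647],[]),(1,[22807,18696],[]),(1,[4403,22808],[]),(1,[22653],[]),(1,[22813,18674],[]),(1,[4323,22814],[]),(1,[22665],[]),(1,[22819,18268],[]),(1,[22819,21397],[]),(1,[22678],[]),(1,[22825,15352],[]),(1,[14570,22826],[]),(1,[22825,15458],[]),(1,[14538,22830],[]),(1,[22825,15351],[]),(1,[22687],[]),(1,[22837,21911],[]),(1,[18235,22838],[]),(1,[22693],[]),(1,[22843,21930],[]),(1,[5423,22844],[]),(1,[22696],[]),(1,[22849,5197],[]),(1,[22849,5198],[]),(1,[22703],[]),(1,[22855,18580],[]),(1,[687,22856],[]),(1,[22707],[]),(1,[22861,18439],[]),(1,[17577,22862],[]),(1,[22713],[]),(1,[22867,17541],[]),(1,[879,22868],[]),(1,[22729],[]),(1,[22873,16466],[]),(1,[20871,22874],[]),(1,[22735],[]),(1,[22879,16344],[]),(1,[349,22880],[]),(1,[22879,15889],[]),(1,[346,22884],[]),(1,[22738],[]),(1,[228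89,16415],[]),(1,[15895,22890],[]),(1,[22889,16416],[]),(1,[22744],[]),(1,[22897,20234],[]),(1,[15899,22898],[]),(1,[22755],[]),(1,[22903,20463],[]),(1,[17859,22904],[]),(1,[22903,16514],[]),(1,[5076,22908],[]),(1,[22759],[]),(1,[22913,16917],[]),(1,[21237,22914],[]),(1,[22889,22765],[]),(1,[22919,15894],[]),(1,[15655,22920],[]),(1,[22919,22894],[]),(1,[22768],[]),(1,[22927,16850],[]),(1,[16919,22928],[]),(1,[22927,21301],[]),(1,[22775],[]),(1,[22935,18819],[]),(1,[17394,22936],[]),(1,[22781],[]),(1,[22941,18422],[]),(1,[22091,22942],[]),(1,[22785],[]),(1,[22947,17484],[]),(1,[15821,22948],[]),(1,[22947,20233],[]),(1,[15934,22952],[]),(1,[22797],[]),(1,[22957,18612],[]),(1,[18453,22958],[]),(1,[22957,18500],[]),(1,[22805],[]),(1,[22965,17929],[]),(1,[20851,22966],[]),(1,[22811],[]),(1,[22971,18698],[]),(1,[22817],[]),(1,[22975,18676],[]),(1,[17219,22976],[]),(1,[22829],[]),(1,[22981,14731],[]),(1,[14573,22982],[]),(1,[22981,14732],[]),(1,[5077,22986],[]),(1,[22833],[]),(1,[22991,21334],[]),(1,[14577,22992],[]),(1,[22991,15460],[]),(1,[20957,22996],[])]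

theorem ok45 : data.stepsOK st45 11250 = true := by decide +kernel

def st46 : List Step := [(1,[22840],[]),(1,[23001,18235],[]),(1,[22847],[]),(1,[23005,18958],[]),(1,[5585,23006],[]),(1,[23005,18804],[]),(1,[21865,23010],[]),(1,[22859],[]),(1,[23015,18365],[]),(1,[689,23016],[]),(1,[22865],[]),(1,[23021,18437],[]),(1,[17579,23022],[]),(1,[22871],[]),(1,[23027,17539],[]),(1,[15266,23028],[]),(1,[22877],[]),(1,[23033,16468],[]),(1,[22883],[]),(1,[23037,16370],[]),(1,[12485,23038],[]),(1,[23037,16224],[]),(1,[12489,23042],[]),(1,[22887],[]),(1,[23047,5508],[]),(1,[23047,5083],[]),(1,[23047,5084],[]),(1,[344,23052],[]),(1,[22893],[]),(1,[23057,16482],[]),(1,[22900],[]),(1,[23061,15899],[]),(1,[23061,15900],[]),(1,[3660,23064],[]),(1,[23061,21280],[]),(1,[3663,23068],[]),(1,[22906],[]),(1,[23073,17859],[]),(1,[23073,17841],[]),(1,[4263,23076],[]),(1,[22911],[]),(1,[23081,17002],[]),(1,[14573,23082],[]),(1,[22916],[]),(1,[23087,21237],[]),(1,[22923]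,[]),(1,[23091,23058],[]),(1,[15657,23092],[]),(1,[23091,15896],[]),(1,[22930],[]),(1,[23099,16919],[]),(1,[23099,16920],[]),(1,[20511,23102],[]),(1,[22939],[]),(1,[23107,18817],[]),(1,[22132,23108],[]),(1,[22944],[]),(1,[23113,18646],[]),(1,[23113,18474],[]),(1,[18425,23116],[]),(1,[23113,22091],[]),(1,[22951],[]),(1,[23123,17399],[]),(1,[15854,23124],[]),(1,[22955],[]),(1,[23129,22479],[]),(1,[16109,23130],[]),(1,[23129,17126],[]),(1,[22961],[]),(1,[23137,18497],[]),(1,[18455,23138],[]),(1,[22969],[]),(1,[23143,18068],[]),(1,[23143,17927],[]),(1,[22979],[]),(1,[22985],[]),(1,[23151,15360],[]),(1,[14545,23152],[]),(1,[23151,15343],[]),(1,[23151,14936],[]),(1,[22989],[]),(1,[23161,14734],[]),(1,[5079,23162],[]),(1,[22995],[]),(1,[23167,23034],[]),(1,[14537,23168],[]),(1,[23167,20850],[]),(1,[14534,23172],[]),(1,[23167,20871],[]),(1,[22998],[]),(1,[23179,19304],[]),(1,[15463,23180],[]),(1,[23179,21019],[]),(1,[23179,20957],[]),(1,[23009],[]),(1,[23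189,18960],[]),(1,[21891,23190],[]),(1,[23012],[]),(1,[23195,19514],[]),(1,[23195,19712],[]),(1,[18807,23198],[]),(1,[23195,21865],[]),(1,[23019],[]),(1,[23205,18578],[]),(1,[691,23206],[]),(1,[23025],[]),(1,[23211,18606],[]),(1,[17581,23212],[]),(1,[23031],[]),(1,[23217,17552],[]),(1,[23217,21701],[]),(1,[15264,23220],[]),(1,[23041],[]),(1,[23225,16221],[]),(1,[20473,23226],[]),(1,[23045],[]),(1,[23231,16226],[]),(1,[16797,23232],[]),(1,[23055],[]),(1,[23237,5086],[]),(1,[597,23238],[]),(1,[23067],[]),(1,[23243,21284],[]),(1,[23243,21286],[]),(1,[23243,15902],[]),(1,[23149,23071],[]),(1,[23251,17070],[]),(1,[23251,17219],[]),(1,[23251,22748],[]),(1,[3662,23256],[]),(1,[23251,17069],[]),(1,[3665,23260],[]),(1,[23079],[]),(1,[23265,17860],[]),(1,[16825,23266],[]),(1,[23085],[]),(1,[23271,17012],[]),(1,[14545,23272],[]),(1,[23271,16914],[]),(1,[23157,23276],[]),(1,[23095],[]),(1,[23281,16304],[]),(1,[5951,23282],[]),(1,[23281,20287],[]),(1,[5948,232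86],[]),(1,[23104],[]),(1,[23291,17384],[]),(1,[16923,23292],[]),(1,[23291,17383],[]),(1,[17035,23296],[]),(1,[23291,20511],[]),(1,[23111],[]),(1,[23303,18815],[]),(1,[15858,23304],[]),(1,[23119],[]),(1,[23309,18476],[]),(1,[18427,23310],[]),(1,[23127],[]),(1,[23315,17482],[]),(1,[16101,23316],[]),(1,[23133],[]),(1,[23321,15967],[]),(1,[23321,15968],[]),(1,[15930,23324],[]),(1,[23141],[]),(1,[23329,21290],[]),(1,[23155],[]),(1,[23333,21713],[]),(1,[14547,23334],[]),(1,[23333,15356],[]),(1,[23333,15325],[]),(1,[23165],[]),(1,[23343,14736],[]),(1,[15649,23344],[]),(1,[23171],[]),(1,[23349,16470],[]),(1,[23186,23350],[]),(1,[23174],[]),(1,[23355,14574],[]),(1,[4271,23356],[]),(1,[23355,14534],[]),(1,[23183],[]),(1,[23363,19231],[]),(1,[21319,23364],[]),(1,[23192],[]),(1,[23369,19002],[]),(1,[23369,21891],[]),(1,[23369,19339],[]),(1,[18963,23374],[]),(1,[23200],[]),(1,[23379,18808],[]),(1,[23246,23380],[]),(1,[23379,18807],[]),(1,[23209],[]),(1,[23387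,18361],[]),(1,[19538,23388],[]),(1,[23215],[]),(1,[23393,18433],[]),(1,[17583,23394],[]),(1,[23223],[]),(1,[23399,21699],[]),(1,[23228],[]),(1,[23403,16821],[]),(1,[23403,16825],[]),(1,[23403,20473],[]),(1,[23403,16685],[]),(1,[16218,23410],[]),(1,[23234],[]),(1,[23415,16838],[]),(1,[23415,16698],[]),(1,[23415,16797],[]),(1,[23241],[]),(1,[23423,15612],[]),(1,[16641,23424],[]),(1,[23423,14439],[]),(1,[340,23428],[]),(1,[23259],[]),(1,[23433,18664],[]),(1,[23433,18913],[]),(1,[23263],[]),(1,[23439,20546],[]),(1,[3667,23440],[]),(1,[23439,20548],[]),(1,[23439,20550],[]),(1,[23269,23402],[]),(1,[23449,17837],[]),(1,[16218,23450],[]),(1,[23275],[]),(1,[23455,16911],[]),(1,[14547,23456],[]),(1,[23455,16961],[]),(1,[21298,23460],[]),(1,[23279],[]),(1,[23465,17014],[]),(1,[15373,23466],[]),(1,[23465,23088],[]),(1,[23285],[]),(1,[23473,16088],[]),(1,[5953,23474],[]),(1,[23473,15868],[]),(1,[23289],[]),(1,[23481,16348],[]),(1,[6337,23482],[]),(1,[23481,23479],[]),(1,[15564,23486],[]),(1,[23481,15870],[]),(1,[23295],[]),(1,[23493,21373],[]),(1,[16925,23494],[]),(1,[23493,17386],[])]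

theorem ok46 : data.stepsOK st46 11500 = true := by decide +kernel

def st47 : List Step := [(1,[23299],[]),(1,[23501,21468],[]),(1,[23501,20509],[]),(1,[17037,23504],[]),(1,[23307],[]),(1,[23509,18934],[]),(1,[16095,23510],[]),(1,[23313],[]),(1,[23515,18576],[]),(1,[23319],[]),(1,[23519,17395],[]),(1,[15910,23520],[]),(1,[23327],[]),(1,[23525,15970],[]),(1,[16107,23526],[]),(1,[23337],[]),(1,[23531,21711],[]),(1,[20907,23532],[]),(1,[23346],[]),(1,[23537,15649],[]),(1,[23537,23323],[]),(1,[14739,23540],[]),(1,[23353],[]),(1,[23545,16387],[]),(1,[23185,23546],[]),(1,[23359],[]),(1,[23551,14531],[]),(1,[23420,23552],[]),(1,[23551,22520],[]),(1,[12488,23556],[]),(1,[23551,22522],[]),(1,[23551,22524],[]),(1,[23367],[]),(1,[23565,19229],[]),(1,[23377],[]),(1,[23569,19409],[]),(1,[18965,23570],[]),(1,[23383],[]),(1,[23575,18810],[]),(1,[23249,23576],[]),(1,[23390],[]),(1,[23581,19565],[]),(1,[23581,19609],[]),(1,[18358,23584],[]),(1,[23397],[]),(1,[2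3589,18431],[]),(1,[23413],[]),(1,[23593,21721],[]),(1,[16369,23594],[]),(1,[23593,16683],[]),(1,[23426],[]),(1,[23601,20729],[]),(1,[15747,23602],[]),(1,[23601,16642],[]),(1,[15615,23606],[]),(1,[23601,16641],[]),(1,[23430],[]),(1,[23613,594],[]),(1,[14435,23614],[]),(1,[23613,340],[]),(1,[23613,16341],[]),(1,[321,23620],[]),(1,[23443],[]),(1,[23625,14613],[]),(1,[3669,23626],[]),(1,[23625,14614],[]),(1,[23625,14625],[]),(1,[23453],[]),(1,[23635,18318],[]),(1,[16369,23636],[]),(1,[23635,17835],[]),(1,[23599,23640],[]),(1,[23459],[]),(1,[23645,17010],[]),(1,[20905,23646],[]),(1,[23463],[]),(1,[23651,16959],[]),(1,[15602,23652],[]),(1,[23469],[]),(1,[23657,16995],[]),(1,[15338,23658],[]),(1,[23657,16933],[]),(1,[21367,23662],[]),(1,[23476],[]),(1,[23667,6338],[]),(1,[23667,5953],[]),(1,[23667,5954],[]),(1,[14444,23672],[]),(1,[23485],[]),(1,[23677,16281],[]),(1,[5944,23678],[]),(1,[23677,16472],[]),(1,[23488],[]),(1,[23685,15592],[]),(1,[23670,2368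6],[]),(1,[23685,15564],[]),(1,[23497],[]),(1,[23693,18074],[]),(1,[16927,23694],[]),(1,[23506],[]),(1,[23699,17037],[]),(1,[23567,23700],[]),(1,[23513],[]),(1,[23523],[]),(1,[23707,20519],[]),(1,[23707,22133],[]),(1,[15908,23710],[]),(1,[23707,17460],[]),(1,[23529],[]),(1,[23717,15972],[]),(1,[15926,23718],[]),(1,[23535],[]),(1,[23723,21709],[]),(1,[20901,23724],[]),(1,[23543],[]),(1,[23729,15932],[]),(1,[14741,23730],[]),(1,[23548],[]),(1,[23735,17870],[]),(1,[16099,23736],[]),(1,[23735,17869],[]),(1,[15991,23740],[]),(1,[23735,23185],[]),(1,[23554],[]),(1,[23747,23416],[]),(1,[18281,23748],[]),(1,[23747,23418],[]),(1,[14528,23752],[]),(1,[23747,23420],[]),(1,[23559],[]),(1,[23759,17248],[]),(1,[12485,23760],[]),(1,[23759,17142],[]),(1,[348,23764],[]),(1,[23573],[]),(1,[23769,19335],[]),(1,[23578,23704],[]),(1,[23773,23249],[]),(1,[15694,23774],[]),(1,[23586],[]),(1,[23779,18358],[]),(1,[23596],[]),(1,[23783,16215],[]),(1,[4399,23784],[]),(1,[23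604],[]),(1,[23789,15800],[]),(1,[23789,15747],[]),(1,[23789,15748],[]),(1,[15296,23794],[]),(1,[23789,15996],[]),(1,[15299,23798],[]),(1,[23609],[]),(1,[23803,16646],[]),(1,[327,23804],[]),(1,[23803,16644],[]),(1,[324,23808],[]),(1,[23616],[]),(1,[23813,14435],[]),(1,[23813,5092],[]),(1,[16493,23816],[]),(1,[23813,14428],[]),(1,[336,23820],[]),(1,[23813,14430],[]),(1,[16591,23824],[]),(1,[23623],[]),(1,[23829,16342],[]),(1,[11935,23830],[]),(1,[23629],[]),(1,[23835,15594],[]),(1,[3671,23836],[]),(1,[23835,14611],[]),(1,[23639,23782],[]),(1,[23843,18214],[]),(1,[4399,23844],[]),(1,[23643],[]),(1,[23849,17856],[]),(1,[16837,23850],[]),(1,[23849,18326],[]),(1,[20497,23854],[]),(1,[23649],[]),(1,[23859,16907],[]),(1,[20901,23860],[]),(1,[23655],[]),(1,[23865,16957],[]),(1,[23661],[]),(1,[23869,17026],[]),(1,[15371,23870],[]),(1,[23665],[]),(1,[23875,17020],[]),(1,[16479,23876],[]),(1,[23875,16985],[]),(1,[16476,23880],[]),(1,[23675],[]),(1,[23885,156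83],[]),(1,[332,23886],[]),(1,[23681],[]),(1,[23891,16378],[]),(1,[15377,23892],[]),(1,[23689],[]),(1,[23897,15561],[]),(1,[3947,23898],[]),(1,[23697],[]),(1,[23903,17943],[]),(1,[16929,23904],[]),(1,[23903,18100],[]),(1,[23702],[]),(1,[23911,23503],[]),(1,[23911,23567],[]),(1,[23712],[]),(1,[23917,15908],[]),(1,[23721],[]),(1,[23921,15974],[]),(1,[15671,23922],[]),(1,[23727],[]),(1,[23927,21707],[]),(1,[20889,23928],[]),(1,[23733],[]),(1,[23933,23134],[]),(1,[23933,15934],[]),(1,[14743,23936],[]),(1,[23739],[]),(1,[23941,17872],[]),(1,[15830,23942],[]),(1,[23743],[]),(1,[23947,20992],[]),(1,[15993,23948],[]),(1,[23947,22681],[]),(1,[16480,23952],[]),(1,[23750],[]),(1,[23957,18220],[]),(1,[23957,18219],[]),(1,[16786,23960],[]),(1,[23957,18257],[]),(1,[16722,23964],[]),(1,[23754],[]),(1,[23969,18052],[]),(1,[597,23970],[]),(1,[23969,14527],[]),(1,[345,23974],[]),(1,[23969,14528],[]),(1,[23763],[]),(1,[23981,17216],[]),(1,[20304,23982],[]),(1,[23981,17139],[]),(1,[23408,23986],[]),(1,[23767],[]),(1,[23991,21735],[]),(1,[12537,23992],[]),(1,[23991,21748],[]),(1,[17097,23996],[])]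

theorem ok47 : data.stepsOK st47 11750 = true := by decide +kernel

end

end T352
end HN
end H39
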