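import Cfsg.Agent.H39.HN.T352.Data

/-!
Steps of a derivation (generated data).
-/

set_option autoImplicit false
set_option maxRecDepth 100000
set_option linter.all false
set_option Elab.async false

namespace H39
namespace HN
namespace T352

open H93.CosetI

noncomputable section

def st48 : List Step := [(1,[23776],[]),(1,[24001,15818],[]),(1,[23245,24002],[]),(1,[24001,15694],[]),(1,[23787],[]),(1,[24009,16213],[]),(1,[4401,24010],[]),(1,[23797],[]),(1,[24015,15760],[]),(1,[15086,24016],[]),(1,[24015,15750],[]),(1,[14990,24020],[]),(1,[23801],[]),(1,[24025,15998],[]),(1,[20751,24026],[]),(1,[23807],[]),(1,[24031,16648],[]),(1,[15659,24032],[]),(1,[23811],[]),(1,[24037,16634],[]),(1,[15617,24038],[]),(1,[23818],[]),(1,[24043,16494],[]),(1,[21568,24044],[]),(1,[24043,16493],[]),(1,[23823],[]),(1,[24051,15647],[]),(1,[15994,24052],[]),(1,[23826],[]),(1,[24057,16591],[]),(1,[23833],[]),(1,[24061,16337],[]),(1,[4521,24062],[]),(1,[24061,16565],[]),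(1,[8065,24066],[]),(1,[23839],[]),(1,[24071,15596],[]),(1,[24071,20564],[]),(1,[3673,24074],[]),(1,[23847],[]),(1,[24079,18216],[]),(1,[22303,24080],[]),(1,[23852],[]),(1,[24085,16837],[]),(1,[23857],[]),(1,[24089,18308],[]),(1,[20315,24090],[]),(1,[23863],[]),(1,[24095,17008],[]),(1,[20887,24096],[]),(1,[23873],[]),(1,[24101,16991],[]),(1,[23879],[]),(1,[24105,16929],[]),(1,[16481,24106],[]),(1,[23883],[]),(1,[24111,17072],[]),(1,[16489,24112],[]),(1,[23889],[]),(1,[24117,15816],[]),(1,[591,24118],[]),(1,[23895],[]),(1,[24123,16277],[]),(1,[15468,24124],[]),(1,[23901],[]),(1,[24129,15559],[]),(1,[3949,24130],[]),(1,[23907,24104],[]),(1,[24135,17476],[]),(1,[16491,24136],[]),(1,[24135,17428],[]),(1,[24135,17472],[]),(1,[16937,24142],[]),(1,[23925],[]),(1,[24147,15976],[]),(1,[15699,24148],[]),(1,[23931],[]),(1,[24153,21705],[]),(1,[15380,24154],[]),(1,[23939],[]),(1,[24159,15820],[]),(1,[14745,24160],[]),(1,[24159,15736],[]),(1,[21691,24164],[]),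(1,[23945],[]),(1,[24169,17874],[]),(1,[15805,24170],[]),(1,[23951],[]),(1,[24175,18707],[]),(1,[16197,24176],[]),(1,[23954],[]),(1,[24181,16490],[]),(1,[22673,24182],[]),(1,[24181,24140],[]),(1,[22834,24186],[]),(1,[24181,16936],[]),(1,[23963],[]),(1,[23967],[]),(1,[24195,18255],[]),(1,[16776,24196],[]),(1,[23973],[]),(1,[24201,18273],[]),(1,[23610,24202],[]),(1,[24201,17953],[]),(1,[23618,24206],[]),(1,[23977],[]),(1,[24211,12687],[]),(1,[23049,24212],[]),(1,[24211,12463],[]),(1,[16963,24216],[]),(1,[23985],[]),(1,[24221,17240],[]),(1,[16845,24222],[]),(1,[24221,17120],[]),(1,[16731,24226],[]),(1,[23989],[]),(1,[24231,17244],[]),(1,[23405,24232],[]),(1,[24231,17130],[]),(1,[16218,24236],[]),(1,[23995],[]),(1,[24241,22175],[]),(1,[22924,24242],[]),(1,[24241,4396],[]),(1,[4328,24246],[]),(1,[24241,10845],[]),(1,[17029,24250],[]),(1,[23998],[]),(1,[24255,17093],[]),(1,[10863,24256],[]),(1,[24255,17032],[]),(1,[24255,17097],[]),(1,[24004],[]),(1,[24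265,23247],[]),(1,[24265,23245],[]),(1,[24265,18684],[]),(1,[24265,23384],[]),(1,[15690,24272],[]),(1,[24013],[]),(1,[24277,16211],[]),(1,[22251,24278],[]),(1,[24019],[]),(1,[24283,15762],[]),(1,[14990,24284],[]),(1,[24283,16072],[]),(1,[15297,24288],[]),(1,[24023],[]),(1,[24293,15752],[]),(1,[15079,24294],[]),(1,[24293,16346],[]),(1,[20792,24298],[]),(1,[24028],[]),(1,[24303,20751],[]),(1,[24303,24103],[]),(1,[24035],[]),(1,[24309,16650],[]),(1,[15661,24310],[]),(1,[24041],[]),(1,[24315,16537],[]),(1,[15619,24316],[]),(1,[24315,16589],[]),(1,[15733,24320],[]),(1,[24047],[]),(1,[24325,16382],[]),(1,[3895,24326],[]),(1,[24325,16334],[]),(1,[3773,24330],[]),(1,[24054],[]),(1,[24335,16124],[]),(1,[15807,24336],[]),(1,[24065],[]),(1,[24341,15980],[]),(1,[15673,24342],[]),(1,[24341,15979],[]),(1,[4523,24346],[]),(1,[24069],[]),(1,[24351,16617],[]),(1,[15720,24352],[]),(1,[24077],[]),(1,[24357,16582],[]),(1,[11458,24358],[]),(1,[24357,16581],[]),(1,[177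86,24362],[]),(1,[24193,24083],[]),(1,[24367,16854],[]),(1,[22304,24368],[]),(1,[24367,17094],[]),(1,[17171,24372],[]),(1,[24367,16786],[]),(1,[24093],[]),(1,[24379,22113],[]),(1,[16867,24380],[]),(1,[24379,23517],[]),(1,[24099],[]),(1,[24387,16903],[]),(1,[15383,24388],[]),(1,[24109],[]),(1,[24393,17018],[]),(1,[24393,23908],[]),(1,[15990,24396],[]),(1,[24115],[]),(1,[24401,17074],[]),(1,[23682,24402],[]),(1,[24121],[]),(1,[24407,15679],[]),(1,[15986,24408],[]),(1,[24127],[]),(1,[24413,16275],[]),(1,[21495,24414],[]),(1,[24133],[]),(1,[24419,15590],[]),(1,[3951,24420],[]),(1,[24138],[]),(1,[24425,21367],[]),(1,[17469,24426],[]),(1,[24425,16477],[]),(1,[12077,24430],[]),(1,[24144],[]),(1,[24435,24191],[]),(1,[24151],[]),(1,[24439,16620],[]),(1,[15943,24440],[]),(1,[24157],[]),(1,[24445,21703],[]),(1,[15255,24446],[]),(1,[24163],[]),(1,[24451,15733],[]),(1,[14747,24452],[]),(1,[24451,15855],[]),(1,[21199,24456],[]),(1,[24166],[]),(1,[24461,21692],[]),(1,[16097,24462],[]),(1,[24173],[]),(1,[24467,17876],[]),(1,[15622,24468],[]),(1,[24179],[]),(1,[24473,18705],[]),(1,[24184,24424],[]),(1,[24477,22675],[]),(1,[24477,15241],[]),(1,[17469,24480],[]),(1,[24477,15242],[]),(1,[12077,24484],[]),(1,[24189],[]),(1,[24489,17430],[]),(1,[14570,24490],[]),(1,[24199],[]),(1,[24495,18253],[]),(1,[16774,24496],[])]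

theorem ok48 : data.stepsOK st48 12000 = true := by decide +kernel

def st49 : List Step := [(1,[24205],[]),(1,[24501,18336],[]),(1,[23792,24502],[]),(1,[24209],[]),(1,[24507,18076],[]),(1,[23814,24508],[]),(1,[24214],[]),(1,[24513,23051],[]),(1,[24513,23049],[]),(1,[24513,5081],[]),(1,[22219,24518],[]),(1,[24513,23471],[]),(1,[669,24522],[]),(1,[24218],[]),(1,[24527,16884],[]),(1,[24527,16963],[]),(1,[24225],[]),(1,[24533,20218],[]),(1,[16829,24534],[]),(1,[24533,17117],[]),(1,[16726,24538],[]),(1,[24228],[]),(1,[24543,20314],[]),(1,[4657,24544],[]),(1,[24543,20497],[]),(1,[4323,24548],[]),(1,[24543,16731],[]),(1,[24235],[]),(1,[24555,22789],[]),(1,[4262,24556],[]),(1,[24555,23935],[]),(1,[4265,24560],[]),(1,[24238],[]),(1,[24565,16218],[]),(1,[24244],[]),(1,[24569,15808],[]),(1,[22167,24570],[]),(1,[24569,15654],[]),(1,[6774,24574],[]),(1,[24569,22924],[]),(1,[24249],[]),(1,[24581,4398],[]),(1,[17000,24582],[]),(1,[24252],[]),(1,[24587,17220],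[]),(1,[24587,17029],[]),(1,[24259],[]),(1,[24593,17238],[]),(1,[3343,24594],[]),(1,[24275],[]),(1,[24599,23196],[]),(1,[15791,24600],[]),(1,[24599,23202],[]),(1,[15675,24604],[]),(1,[24281],[]),(1,[24609,16366],[]),(1,[22234,24610],[]),(1,[24287],[]),(1,[24615,15832],[]),(1,[15079,24616],[]),(1,[24615,15764],[]),(1,[20792,24620],[]),(1,[24291],[]),(1,[24625,16074],[]),(1,[23791,24626],[]),(1,[24297],[]),(1,[24631,15754],[]),(1,[14986,24632],[]),(1,[24300],[]),(1,[24637,20790],[]),(1,[16375,24638],[]),(1,[24637,20809],[]),(1,[24637,20792],[]),(1,[24313],[]),(1,[24647,22305],[]),(1,[15663,24648],[]),(1,[24647,17170],[]),(1,[16183,24652],[]),(1,[24647,24376],[]),(1,[15660,24656],[]),(1,[24319],[]),(1,[24661,16632],[]),(1,[15621,24662],[]),(1,[24661,16726],[]),(1,[16385,24666],[]),(1,[24323,24450],[]),(1,[24671,16587],[]),(1,[21199,24672],[]),(1,[24329],[]),(1,[24677,16331],[]),(1,[24333],[]),(1,[24681,16198],[]),(1,[3775,24682],[]),(1,[24681,24474],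[]),(1,[3772,24686],[]),(1,[24339],[]),(1,[24691,24394],[]),(1,[15645,24692],[]),(1,[24345],[]),(1,[24697,16672],[]),(1,[15691,24698],[]),(1,[24439,24349],[]),(1,[24703,15814],[]),(1,[4525,24704],[]),(1,[24355],[]),(1,[24709,16615],[]),(1,[24361],[]),(1,[24713,16584],[]),(1,[11461,24714],[]),(1,[24713,16829],[]),(1,[1385,24718],[]),(1,[24364],[]),(1,[24723,17786],[]),(1,[24723,17785],[]),(1,[16578,24726],[]),(1,[24371],[]),(1,[24731,16890],[]),(1,[24374],[]),(1,[24735,22458],[]),(1,[17229,24736],[]),(1,[24382],[]),(1,[24741,16868],[]),(1,[15863,24742],[]),(1,[24741,16867],[]),(1,[24391],[]),(1,[24749,16901],[]),(1,[15385,24750],[]),(1,[24399],[]),(1,[24755,18102],[]),(1,[23745,24756],[]),(1,[24405],[]),(1,[24761,17076],[]),(1,[24410],[]),(1,[24765,15986],[]),(1,[24765,16185],[]),(1,[24416],[]),(1,[24771,21381],[]),(1,[16377,24772],[]),(1,[24771,21495],[]),(1,[24771,19215],[]),(1,[24423],[]),(1,[24781,15555],[]),(1,[16419,24782],[]),(1,[24428],[]),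(1,[24787,17488],[]),(1,[15341,24788],[]),(1,[24787,17469],[]),(1,[24433],[]),(1,[24795,16488],[]),(1,[24443],[]),(1,[24799,16638],[]),(1,[16187,24800],[]),(1,[24799,24711],[]),(1,[15945,24804],[]),(1,[24449],[]),(1,[24809,20686],[]),(1,[15257,24810],[]),(1,[24809,20685],[]),(1,[24455],[]),(1,[24817,15788],[]),(1,[14749,24818],[]),(1,[24817,15618],[]),(1,[24458],[]),(1,[24825,21199],[]),(1,[24465],[]),(1,[24829,21694],[]),(1,[23120,24830],[]),(1,[24471],[]),(1,[24835,17878],[]),(1,[15803,24836],[]),(1,[24835,18044],[]),(1,[24835,18047],[]),(1,[24787,24482],[]),(1,[24845,15340],[]),(1,[18517,24846],[]),(1,[24845,15339],[]),(1,[15238,24850],[]),(1,[24845,24792],[]),(1,[24487],[]),(1,[24857,15244],[]),(1,[24797,24858],[]),(1,[24857,21807],[]),(1,[12079,24862],[]),(1,[24493],[]),(1,[24867,17432],[]),(1,[14573,24868],[]),(1,[24499],[]),(1,[24873,18332],[]),(1,[16853,24874],[]),(1,[24505],[]),(1,[24879,22821],[]),(1,[15299,24880],[]),(1,[24511],[]),(1,[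24885,22722],[]),(1,[24048,24886],[]),(1,[24520],[]),(1,[24891,14276],[]),(1,[23538,24892],[]),(1,[24891,5141],[]),(1,[5078,24896],[]),(1,[24891,22219],[]),(1,[24525],[]),(1,[24903,23157],[]),(1,[671,24904],[]),(1,[24537,24712],[]),(1,[24909,20148],[]),(1,[11457,24910],[]),(1,[24909,20112],[]),(1,[11461,24914],[]),(1,[24541,24660],[]),(1,[24919,20290],[]),(1,[24822,24920],[]),(1,[24547],[]),(1,[24925,24747],[]),(1,[4318,24926],[]),(1,[24925,24384],[]),(1,[24551],[]),(1,[24933,24087],[]),(1,[23254,24934],[]),(1,[24559],[]),(1,[24939,15924],[]),(1,[4260,24940],[]),(1,[24939,22790],[]),(1,[24563],[]),(1,[24947,14742],[]),(1,[20874,24948],[]),(1,[24573],[]),(1,[24953,22933],[]),(1,[5381,24954],[]),(1,[24577],[]),(1,[24959,15656],[]),(1,[22234,24960],[]),(1,[24959,23096],[]),(1,[22250,24964],[]),(1,[24584],[]),(1,[24969,17230],[]),(1,[24969,17057],[]),(1,[24969,17000],[]),(1,[24733,24974],[]),(1,[24597],[]),(1,[24979,17089],[]),(1,[13474,24980],[]),(1,[24603],[]),(1,[24985,19516],[]),(1,[4520,24986],[]),(1,[24606],[]),(1,[24991,15676],[]),(1,[5585,24992],[]),(1,[24612],[]),(1,[24997,22232],[])]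

theorem ok49 : data.stepsOK st49 12250 = true := by decide +kernel

def st50 : List Step := [(1,[24619],[]),(1,[25001,15834],[]),(1,[24637,24622],[]),(1,[25005,16374],[]),(1,[25005,24642],[]),(1,[15767,25008],[]),(1,[25005,24644],[]),(1,[24629],[]),(1,[25015,16076],[]),(1,[15615,25016],[]),(1,[24635],[]),(1,[25021,15756],[]),(1,[24641],[]),(1,[25025,17192],[]),(1,[24650],[]),(1,[25029,15812],[]),(1,[24971,25030],[]),(1,[24735,24655],[]),(1,[25035,17228],[]),(1,[24768,25036],[]),(1,[24659],[]),(1,[25041,23958],[]),(1,[15669,25042],[]),(1,[25041,16723],[]),(1,[15658,25046],[]),(1,[24665],[]),(1,[25051,21319],[]),(1,[15623,25052],[]),(1,[25051,23915],[]),(1,[15779,25056],[]),(1,[24669],[]),(1,[25061,16845],[]),(1,[24675,24824],[]),(1,[24685],[]),(1,[25067,16200],[]),(1,[3777,25068],[]),(1,[25067,16443],[]),(1,[24689],[]),(1,[25075,18703],[]),(1,[21569,25076],[]),(1,[24695],[]),(1,[25081,16925],[]),(1,[21750,25082],[]),(1,[24701],[]),(1,[25087,16826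],[]),(1,[24271,25088],[]),(1,[24707],[]),(1,[25093,15671],[]),(1,[25065,24717],[]),(1,[25097,16100],[]),(1,[3679,25098],[]),(1,[25097,24826],[]),(1,[25061,24721],[]),(1,[25105,25062],[]),(1,[25105,16385],[]),(1,[1387,25108],[]),(1,[24729],[]),(1,[25113,17783],[]),(1,[20574,25114],[]),(1,[24739],[]),(1,[25119,21945],[]),(1,[16775,25120],[]),(1,[24745],[]),(1,[25125,16870],[]),(1,[23120,25126],[]),(1,[24753],[]),(1,[25131,17006],[]),(1,[15387,25132],[]),(1,[24759],[]),(1,[25137,18104],[]),(1,[15463,25138],[]),(1,[24775],[]),(1,[25143,17493],[]),(1,[16270,25144],[]),(1,[25143,17494],[]),(1,[24784],[]),(1,[25151,16444],[]),(1,[14703,25152],[]),(1,[25151,16419],[]),(1,[24791,24902],[]),(1,[25159,17421],[]),(1,[668,25160],[]),(1,[24803],[]),(1,[25165,16611],[]),(1,[24806],[]),(1,[25169,15946],[]),(1,[15721,25170],[]),(1,[24813],[]),(1,[25175,20688],[]),(1,[15259,25176],[]),(1,[24820],[]),(1,[25181,14749],[]),(1,[25181,14750],[]),(1,[322,25184],[]),(1,[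24833],[]),(1,[25189,21696],[]),(1,[18425,25190],[]),(1,[24839],[]),(1,[25195,18054],[]),(1,[25195,18059],[]),(1,[24848,24902],[]),(1,[25201,18572],[]),(1,[22340,25202],[]),(1,[25201,18518],[]),(1,[668,25206],[]),(1,[25201,18997],[]),(1,[671,25210],[]),(1,[24853],[]),(1,[25215,15370],[]),(1,[683,25216],[]),(1,[24860],[]),(1,[25221,24797],[]),(1,[25221,23683],[]),(1,[22658,25224],[]),(1,[24864],[]),(1,[25229,12079],[]),(1,[24871],[]),(1,[25233,17434],[]),(1,[14545,25234],[]),(1,[24877],[]),(1,[25239,18249],[]),(1,[16770,25240],[]),(1,[24882],[]),(1,[25245,24305],[]),(1,[15283,25246],[]),(1,[25245,15299],[]),(1,[25245,15300],[]),(1,[15274,25252],[]),(1,[24889],[]),(1,[25257,18389],[]),(1,[21568,25258],[]),(1,[24894],[]),(1,[25263,23538],[]),(1,[24899],[]),(1,[25267,22267],[]),(1,[5076,25268],[]),(1,[25267,14294],[]),(1,[24907],[]),(1,[25275,14544],[]),(1,[22394,25276],[]),(1,[25275,23158],[]),(1,[18545,25280],[]),(1,[24913],[]),(1,[25285,20109],[]),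(1,[3672,25286],[]),(1,[24917],[]),(1,[25291,20114],[]),(1,[25103,25292],[]),(1,[24923],[]),(1,[25297,20278],[]),(1,[25182,25298],[]),(1,[24929],[]),(1,[25303,16102],[]),(1,[20823,25304],[]),(1,[25303,15862],[]),(1,[24937],[]),(1,[25311,4197],[]),(1,[3662,25312],[]),(1,[25311,4198],[]),(1,[3665,25316],[]),(1,[24943],[]),(1,[25321,15740],[]),(1,[20906,25322],[]),(1,[25321,15739],[]),(1,[20901,25326],[]),(1,[24951],[]),(1,[25331,14939],[]),(1,[25331,14914],[]),(1,[25331,14917],[]),(1,[24957],[]),(1,[25339,23101],[]),(1,[5383,25340],[]),(1,[24997,24962],[]),(1,[25345,24998],[]),(1,[25345,16207],[]),(1,[5948,25348],[]),(1,[24967],[]),(1,[25353,23063],[]),(1,[4403,25354],[]),(1,[24976],[]),(1,[25359,16892],[]),(1,[4659,25360],[]),(1,[25359,24733],[]),(1,[24983],[]),(1,[25367,17236],[]),(1,[13508,25368],[]),(1,[24989],[]),(1,[25373,19518],[]),(1,[8065,25374],[]),(1,[24995],[]),(1,[25379,24766],[]),(1,[5324,25380],[]),(1,[25379,24768],[]),(1,[23372,25384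],[]),(1,[25010],[]),(1,[25389,15768],[]),(1,[15303,25390],[]),(1,[25389,15767],[]),(1,[25019],[]),(1,[25397,16078],[]),(1,[327,25398],[]),(1,[25032],[]),(1,[25403,24973],[]),(1,[25039,25378],[]),(1,[25407,16852],[]),(1,[5327,25408],[]),(1,[25407,16774],[]),(1,[5324,25412],[]),(1,[25044],[]),(1,[25417,15669],[]),(1,[25417,25095],[]),(1,[23978,25420],[]),(1,[25049],[]),(1,[25425,16842],[]),(1,[589,25426],[]),(1,[25054],[]),(1,[25431,15624],[]),(1,[15577,25432],[]),(1,[25431,16130],[]),(1,[15465,25436],[]),(1,[25431,15623],[]),(1,[25059],[]),(1,[25443,23913,25442],[]),(1,[15781,25444],[]),(1,[25443,17035],[]),(1,[25071],[]),(1,[25451,16484],[]),(1,[3779,25452],[]),(1,[25451,16566],[]),(1,[25079],[]),(1,[25459,18916],[]),(1,[5095,25460],[]),(1,[25085],[]),(1,[25465,17016],[]),(1,[3775,25466],[]),(1,[25465,23498],[]),(1,[3772,25470],[]),(1,[25090],[]),(1,[25475,21873],[]),(1,[16045,25476],[]),(1,[25101],[]),(1,[25481,15911],[]),(1,[25111],[]),(1,[25485,15803],[]),(1,[25485,24823],[]),(1,[1389,25488],[]),(1,[25485,25196],[]),(1,[25485,25198],[]),(1,[25117],[]),(1,[25497,17790],[])]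

theorem ok50 : data.stepsOK st50 12500 = true := by decide +kernel

def st51 : List Step := [(1,[15601,25498],[]),(1,[25122],[]),(1,[25128],[]),(1,[25505,23114],[]),(1,[16873,25506],[]),(1,[25505,18424],[]),(1,[25505,23120],[]),(1,[25135],[]),(1,[25515,16897],[]),(1,[25141],[]),(1,[25519,18106],[]),(1,[25441,25520],[]),(1,[25147],[]),(1,[25525,17550],[]),(1,[25525,21505],[]),(1,[16268,25528],[]),(1,[25525,17548],[]),(1,[25525,17491],[]),(1,[25155],[]),(1,[25537,16446],[]),(1,[14680,25538],[]),(1,[25163],[]),(1,[25543,17486],[]),(1,[24515,25544],[]),(1,[25173],[]),(1,[25549,15948],[]),(1,[25179],[]),(1,[25553,20690],[]),(1,[25187],[]),(1,[25557,14752],[]),(1,[11935,25558],[]),(1,[25193],[]),(1,[25563,23401],[]),(1,[25205],[]),(1,[25567,15239],[]),(1,[25231,25568],[]),(1,[25567,24854],[]),(1,[21822,25572],[]),(1,[25209],[]),(1,[25577,21226],[]),(1,[24900,25578],[]),(1,[25213],[]),(1,[25583,19142],[]),(1,[22394,25584],[]),(1,[25219],[]),(1,[25589,1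5335],[]),(1,[685,25590],[]),(1,[25589,24307],[]),(1,[17575,25594],[]),(1,[25226],[]),(1,[25599,22656],[]),(1,[5944,25600],[]),(1,[25599,22658],[]),(1,[25237],[]),(1,[25607,17436],[]),(1,[14547,25608],[]),(1,[25243],[]),(1,[25613,18247],[]),(1,[25249],[]),(1,[25617,16000],[]),(1,[21053,25618],[]),(1,[25255],[]),(1,[25623,15302],[]),(1,[15273,25624],[]),(1,[25623,25394],[]),(1,[14669,25628],[]),(1,[25261],[]),(1,[25633,18588],[]),(1,[3895,25634],[]),(1,[25270],[]),(1,[25639,14564],[]),(1,[675,25640],[]),(1,[25639,5076],[]),(1,[25639,12407],[]),(1,[18691,25646],[]),(1,[25278],[]),(1,[25651,22392],[]),(1,[25651,22400],[]),(1,[21298,25654],[]),(1,[25282],[]),(1,[25659,18470],[]),(1,[25659,18545],[]),(1,[25289],[]),(1,[25665,17353],[]),(1,[3859,25666],[]),(1,[25665,17291],[]),(1,[24073,25670],[]),(1,[25665,17344],[]),(1,[25665,17347],[]),(1,[25295],[]),(1,[25679,20116],[]),(1,[25332,25680],[]),(1,[25301],[]),(1,[25685,20280],[]),(1,[322,25686],[]),(1,[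25306],[]),(1,[25691,20722],[]),(1,[25691,20823],[]),(1,[25691,20704],[]),(1,[25315],[]),(1,[25699,20126],[]),(1,[25699,9893],[]),(1,[23435,25702],[]),(1,[25319],[]),(1,[25707,4200],[]),(1,[23445,25708],[]),(1,[25325],[]),(1,[25713,15742],[]),(1,[20909,25714],[]),(1,[25329],[]),(1,[25719,16096],[]),(1,[20887,25720],[]),(1,[25343],[]),(1,[25725,23301],[]),(1,[5385,25726],[]),(1,[25725,21307],[]),(1,[20883,25730],[]),(1,[25351],[]),(1,[25735,16205],[]),(1,[23690,25736],[]),(1,[25356],[]),(1,[25741,4676],[]),(1,[25701,25742],[]),(1,[25741,22972],[]),(1,[3660,25746],[]),(1,[25741,4404],[]),(1,[3663,25750],[]),(1,[25363],[]),(1,[25755,16894],[]),(1,[4324,25756],[]),(1,[25371],[]),(1,[25761,17085],[]),(1,[10699,25762],[]),(1,[25377],[]),(1,[25767,19520],[]),(1,[6369,25768],[]),(1,[25382],[]),(1,[25773,5582],[]),(1,[331,25774],[]),(1,[25773,5324],[]),(1,[25386],[]),(1,[25781,23370],[]),(1,[16203,25782],[]),(1,[25781,18962],[]),(1,[16182,25786],[]),(1,[25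393],[]),(1,[25791,15770],[]),(1,[25401],[]),(1,[25795,16084],[]),(1,[15659,25796],[]),(1,[25411],[]),(1,[25801,16771],[]),(1,[5422,25802],[]),(1,[25503,25415,25772],[]),(1,[25807,5321],[]),(1,[328,25808],[]),(1,[25423],[]),(1,[25813,4706],[]),(1,[597,25814],[]),(1,[25813,4526],[]),(1,[345,25818],[]),(1,[25429],[]),(1,[25823,16719],[]),(1,[15614,25824],[]),(1,[25435],[]),(1,[25829,15626],[]),(1,[23187,25830],[]),(1,[25439],[]),(1,[25835,16132],[]),(1,[25446],[]),(1,[25839,15781],[]),(1,[25839,15782],[]),(1,[15778,25842],[]),(1,[25455],[]),(1,[25847,16409],[]),(1,[3781,25848],[]),(1,[25463],[]),(1,[25469],[]),(1,[25855,25449],[]),(1,[3777,25856],[]),(1,[25473],[]),(1,[25861,20531],[]),(1,[3895,25862],[]),(1,[25478],[]),(1,[25867,16045],[]),(1,[25491],[]),(1,[25871,25183],[]),(1,[1391,25872],[]),(1,[25871,14747],[]),(1,[25501],[]),(1,[25879,17779],[]),(1,[23867,25880],[]),(1,[25509],[]),(1,[25885,18648],[]),(1,[16875,25886],[]),(1,[25885,19028],[]),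(1,[25523],[]),(1,[25893,18108],[]),(1,[25486,25894],[]),(1,[25531],[]),(1,[25899,19294],[]),(1,[16373,25900],[]),(1,[25899,19154],[]),(1,[25541],[]),(1,[25907,16448],[]),(1,[25547],[]),(1,[25911,17417],[]),(1,[347,25912],[]),(1,[25561],[]),(1,[25917,14754],[]),(1,[4521,25918],[]),(1,[25570],[]),(1,[25923,25223],[]),(1,[683,25924],[]),(1,[25923,25231],[]),(1,[25575],[]),(1,[25931,24478],[]),(1,[1087,25932],[]),(1,[25931,14468],[]),(1,[18941,25936],[]),(1,[25581],[]),(1,[25941,19560],[]),(1,[25264,25942],[]),(1,[25941,21410],[]),(1,[5078,25946],[]),(1,[25587,25650],[]),(1,[25951,19786],[]),(1,[14547,25952],[]),(1,[25951,19144],[]),(1,[21298,25956],[]),(1,[25593],[]),(1,[25961,15333],[]),(1,[19175,25962],[]),(1,[25596,25616],[]),(1,[25967,18844],[]),(1,[15249,25968],[]),(1,[25967,17576],[]),(1,[21053,25972],[]),(1,[25603],[]),(1,[25977,21292],[]),(1,[15552,25978],[]),(1,[25611],[]),(1,[25983,17438],[]),(1,[20909,25984],[]),(1,[25620],[]),(1,[25989,17806],[]),(1,[16355,25990],[]),(1,[25989,21053],[]),(1,[25989,17805],[]),(1,[16003,25996],[])]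

theorem ok51 : data.stepsOK st51 12750 = true := by decide +kernel

end

end T352
end HN
end H39
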