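import Cfsg.Agent.H39.HN.T352.Data

/-!
Steps of a derivation (generated data).
-/

set_option autoImplicit false
set_option maxRecDepth 100000
set_option linter.all false
set_option Elab.async false

namespace H39
namespace HN
namespace T352

open H93.CosetI

noncomputable section

def st52 : List Step := [(1,[25627],[]),(1,[26001,25792],[]),(1,[15255,26002],[]),(1,[26001,15304],[]),(1,[15381,26006],[]),(1,[25631],[]),(1,[26011,25006],[]),(1,[26011,25012],[]),(1,[14671,26014],[]),(1,[25637],[]),(1,[26019,22963],[]),(1,[24679,26020],[]),(1,[25643],[]),(1,[26025,14539],[]),(1,[18233,26026],[]),(1,[26025,14558],[]),(1,[18617,26030],[]),(1,[25648],[]),(1,[26035,18620],[]),(1,[26035,18691],[]),(1,[25656,26018],[]),(1,[26041,15604],[]),(1,[3771,26042],[]),(1,[26041,21298],[]),(1,[3768,26046],[]),(1,[26041,15603],[]),(1,[24679,26050],[]),(1,[25669],[]),(1,[26055,14918],[]),(1,[26055,14825],[]),(1,[25673],[]),(1,[26061,17364],[]),(1,[25683],[]),(1,[26065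,20118],[]),(1,[20875,26066],[]),(1,[25689],[]),(1,[26071,20263,26070],[]),(1,[11935,26072],[]),(1,[26071,20165],[]),(1,[320,26076],[]),(1,[26071,20184],[]),(1,[15759,26080],[]),(1,[25704],[]),(1,[26085,23437],[]),(1,[25710],[]),(1,[26089,23445],[]),(1,[26089,20154],[]),(1,[25716],[]),(1,[26095,20909],[]),(1,[25723],[]),(1,[26099,25513],[]),(1,[15380,26100],[]),(1,[26099,25309],[]),(1,[15383,26104],[]),(1,[25728,25854],[]),(1,[26109,5386],[]),(1,[3897,26110],[]),(1,[26109,21754],[]),(1,[3777,26114],[]),(1,[26109,5385],[]),(1,[25073,26118],[]),(1,[25733],[]),(1,[26123,15466],[]),(1,[15141,26124],[]),(1,[26123,25836],[]),(1,[20882,26128],[]),(1,[25739],[]),(1,[25744],[]),(1,[26135,20030],[]),(1,[22251,26136],[]),(1,[26135,20122],[]),(1,[25853,25749],[]),(1,[26143,5516],[]),(1,[24268,26144],[]),(1,[26143,5096],[]),(1,[24007,26148],[]),(1,[25753],[]),(1,[26153,4406],[]),(1,[23253,26154],[]),(1,[25759],[]),(1,[26159,25517],[]),(1,[4322,26160],[]),(1,[2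5765],[]),(1,[26165,17083],[]),(1,[43,26166],[]),(1,[25771],[]),(1,[26171,19522],[]),(1,[15786,26172],[]),(1,[25776,25806],[]),(1,[26177,331],[]),(1,[26177,332],[]),(1,[25779,26180],[]),(1,[26177,16260],[]),(1,[16307,26184],[]),(1,[25785,26132],[]),(1,[26189,19004],[]),(1,[23691,26190],[]),(1,[25789],[]),(1,[26195,18964],[]),(1,[25405,26196],[]),(1,[25798],[]),(1,[26201,25419],[]),(1,[3951,26202],[]),(1,[26201,15660],[]),(1,[3948,26206],[]),(1,[26201,15659],[]),(1,[25805],[]),(1,[26213,25614],[]),(1,[5425,26214],[]),(1,[25811],[]),(1,[26219,5319],[]),(1,[26210,26220],[]),(1,[25817],[]),(1,[26225,4523],[]),(1,[23618,26226],[]),(1,[25821],[]),(1,[26231,4528],[]),(1,[24516,26232],[]),(1,[25827],[]),(1,[26237,20819],[]),(1,[23792,26238],[]),(1,[25833],[]),(1,[26243,16092],[]),(1,[14577,26244],[]),(1,[26243,15628],[]),(1,[25845],[]),(1,[26251,15784],[]),(1,[25486,26252],[]),(1,[25851],[]),(1,[26257,16486],[]),(1,[26257,16407],[]),(1,[25859],[]),(1,[262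63,25841,26262],[]),(1,[3779,26264],[]),(1,[26263,15779],[]),(1,[25457,26268],[]),(1,[25865],[]),(1,[26273,16973],[]),(1,[24679,26274],[]),(1,[25874],[]),(1,[26279,1391],[]),(1,[26279,1392],[]),(1,[325,26282],[]),(1,[25883],[]),(1,[26287,17788],[]),(1,[22630,26288],[]),(1,[25889],[]),(1,[25897],[]),(1,[26295,18110],[]),(1,[1389,26296],[]),(1,[25902,25976],[]),(1,[26301,16266],[]),(1,[15377,26302],[]),(1,[25915],[]),(1,[26307,17415],[]),(1,[349,26308],[]),(1,[25921],[]),(1,[26313,14756],[]),(1,[25927],[]),(1,[26317,25605],[]),(1,[685,26318],[]),(1,[26317,15246],[]),(1,[25935],[]),(1,[26325,24437],[]),(1,[18999,26326],[]),(1,[25938],[]),(1,[26331,19066],[]),(1,[26331,18941],[]),(1,[25945],[]),(1,[26337,19562],[]),(1,[5379,26338],[]),(1,[25949],[]),(1,[26343,19114],[]),(1,[23074,26344],[]),(1,[25955],[]),(1,[26349,19788],[]),(1,[26096,26350],[]),(1,[25959,26040],[]),(1,[26355,19292],[]),(1,[3771,26356],[]),(1,[26355,19146],[]),(1,[24679,26360],[]),(1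,[25964],[]),(1,[26365,19176],[]),(1,[15330,26366],[]),(1,[26365,19175],[]),(1,[26293,25971],[]),(1,[26373,25167],[]),(1,[25251,26374],[]),(1,[26373,16875],[]),(1,[15274,26378],[]),(1,[25975,25988],[]),(1,[26383,18762],[]),(1,[16355,26384],[]),(1,[26383,17578],[]),(1,[16003,26388],[]),(1,[25981],[]),(1,[26393,17814],[]),(1,[15589,26394],[]),(1,[25987,26094],[]),(1,[26399,17440],[]),(1,[22798,26400],[]),(1,[25992],[]),(1,[26405,16193],[]),(1,[3534,26406],[]),(1,[25998,26392],[]),(1,[26411,16004],[]),(1,[15589,26412],[]),(1,[26411,16003],[]),(1,[26005],[]),(1,[26419,15772],[]),(1,[15257,26420],[]),(1,[26008],[]),(1,[26425,20889],[]),(1,[15307,26426],[]),(1,[26425,15381],[]),(1,[26425,15382],[]),(1,[26017],[]),(1,[26435,15078],[]),(1,[19401,26436],[]),(1,[26435,14990],[]),(1,[14673,26440],[]),(1,[26023],[]),(1,[26445,18452],[]),(1,[16381,26446],[]),(1,[26445,18451],[]),(1,[26028],[]),(1,[26453,23003],[]),(1,[23186,26454],[]),(1,[26453,18233],[]),(1,[26249,26458],[]),(1,[26032],[]),(1,[26463,18798],[]),(1,[26463,18617],[]),(1,[26045],[]),(1,[26469,15606],[]),(1,[3773,26470],[]),(1,[26049],[]),(1,[26475,25652],[]),(1,[3893,26476],[]),(1,[26475,14546],[]),(1,[21579,26480],[]),(1,[26475,23338],[]),(1,[26475,23340],[]),(1,[26052],[]),(1,[26489,16380],[]),(1,[15609,26490],[]),(1,[26489,24679],[]),(1,[26489,26450],[]),(1,[23867,26496],[])]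

theorem ok52 : data.stepsOK st52 13000 = true := by decide +kernel

def st53 : List Step := [(1,[26069],[]),(1,[26501,20120],[]),(1,[4267,26502],[]),(1,[26074],[]),(1,[26507,11935],[]),(1,[26507,8064],[]),(1,[323,26510],[]),(1,[26079],[]),(1,[26515,20254],[]),(1,[23814,26516],[]),(1,[26082],[]),(1,[26521,15688],[]),(1,[26521,15759],[]),(1,[26103],[]),(1,[26527,25510],[]),(1,[15255,26528],[]),(1,[26106],[]),(1,[26533,20720],[]),(1,[25694,26534],[]),(1,[26533,26433],[]),(1,[26113],[]),(1,[26541,5425],[]),(1,[21751,26542],[]),(1,[26541,25868],[]),(1,[3772,26546],[]),(1,[26117],[]),(1,[26551,12096],[]),(1,[25457,26552],[]),(1,[26120],[]),(1,[26557,25073],[]),(1,[26127],[]),(1,[26561,15468],[]),(1,[21981,26562],[]),(1,[26561,24777],[]),(1,[15214,26566],[]),(1,[26131],[]),(1,[26571,16134],[]),(1,[26571,16357],[]),(1,[26139],[]),(1,[26577,20032],[]),(1,[6775,26578],[]),(1,[26146],[]),(1,[26583,24266],[]),(1,[26583,24268],[]),(1,[26150],[]),(1,[26589,15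856],[]),(1,[5099,26590],[]),(1,[26589,15696],[]),(1,[16051,26594],[]),(1,[26589,24007],[]),(1,[26157],[]),(1,[26601,4408],[]),(1,[4322,26602],[]),(1,[26163],[]),(1,[26607,15388],[]),(1,[24553,26608],[]),(1,[26169],[]),(1,[26613,17234],[]),(1,[12349,26614],[]),(1,[26175],[]),(1,[26619,19524],[]),(1,[26182],[]),(1,[26623,5326],[]),(1,[335,26624],[]),(1,[26623,25779],[]),(1,[26186],[]),(1,[26631,16264],[]),(1,[26631,16307],[]),(1,[26192],[]),(1,[26637,5948],[]),(1,[689,26638],[]),(1,[26637,23691],[]),(1,[26637,23490],[]),(1,[19311,26644],[]),(1,[26199],[]),(1,[26649,23770],[]),(1,[4401,26650],[]),(1,[26205],[]),(1,[26655,23979],[]),(1,[25156,26656],[]),(1,[26655,23756],[]),(1,[3953,26660],[]),(1,[26209],[]),(1,[26665,25404],[]),(1,[16091,26666],[]),(1,[26217,26540],[]),(1,[26671,18330],[]),(1,[3775,26672],[]),(1,[26223],[]),(1,[26677,5317],[]),(1,[3948,26678],[]),(1,[26229],[]),(1,[26683,26314],[]),(1,[23619,26684],[]),(1,[26235],[]),(1,[26689,4530]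,[]),(1,[24900,26690],[]),(1,[26240],[]),(1,[26695,23792],[]),(1,[26695,15297],[]),(1,[14980,26698],[]),(1,[26695,25251],[]),(1,[14983,26702],[]),(1,[26247],[]),(1,[26707,15477],[]),(1,[23360,26708],[]),(1,[26255],[]),(1,[26713,26620],[]),(1,[1386,26714],[]),(1,[26713,15786],[]),(1,[1389,26718],[]),(1,[26266],[]),(1,[26723,3779],[]),(1,[26723,3780],[]),(1,[25457,26726],[]),(1,[26270],[]),(1,[26731,25457],[]),(1,[26277,26488],[]),(1,[26735,23709],[]),(1,[15609,26736],[]),(1,[26735,20524],[]),(1,[26735,20526],[]),(1,[26285],[]),(1,[26745,1394],[]),(1,[327,26746],[]),(1,[26291],[]),(1,[26751,17775],[]),(1,[26097,26752],[]),(1,[26299],[]),(1,[26757,18112],[]),(1,[26280,26758],[]),(1,[26305],[]),(1,[26763,25904],[]),(1,[15456,26764],[]),(1,[26763,16268],[]),(1,[26311],[]),(1,[26771,17413],[]),(1,[12489,26772],[]),(1,[26321],[]),(1,[26777,5945],[]),(1,[26370,26778],[]),(1,[26777,24762],[]),(1,[19349,26782],[]),(1,[26328],[]),(1,[26787,18944],[]),(1,[267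87,18999],[]),(1,[26341],[]),(1,[26793,23583],[]),(1,[22168,26794],[]),(1,[26347],[]),(1,[26799,18989],[]),(1,[4263,26800],[]),(1,[26353],[]),(1,[26805,19984],[]),(1,[22798,26806],[]),(1,[26359],[]),(1,[26811,19203],[]),(1,[21569,26812],[]),(1,[26363,26488],[]),(1,[26817,17520],[]),(1,[15609,26818],[]),(1,[26369],[]),(1,[26823,17580],[]),(1,[17339,26824],[]),(1,[26377,26694],[]),(1,[26829,16188],[]),(1,[14980,26830],[]),(1,[26381],[]),(1,[26835,25890],[]),(1,[14669,26836],[]),(1,[26387,26404],[]),(1,[26841,18764],[]),(1,[12944,26842],[]),(1,[26841,19173],[]),(1,[3534,26846],[]),(1,[26411,26390,26822],[]),(1,[26851,15588],[]),(1,[17339,26852],[]),(1,[26851,26416],[]),(1,[26397],[]),(1,[26859,17801],[]),(1,[26402],[]),(1,[26863,22798],[]),(1,[26409],[]),(1,[26867,16191],[]),(1,[26415],[]),(1,[26871,16006],[]),(1,[15548,26872],[]),(1,[26423],[]),(1,[26877,15774],[]),(1,[15259,26878],[]),(1,[26428],[]),(1,[26883,15366],[]),(1,[26883,15307],[]),(1,[268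83,15308],[]),(1,[20900,26888],[]),(1,[26438],[]),(1,[26893,19398],[]),(1,[26893,19401],[]),(1,[26893,19397],[]),(1,[25003,26898],[]),(1,[26443],[]),(1,[26903,15087,26902],[]),(1,[14675,26904],[]),(1,[26903,15050],[]),(1,[26903,15053],[]),(1,[26449],[]),(1,[26913,18454],[]),(1,[26456],[]),(1,[26917,15462],[]),(1,[5565,26918],[]),(1,[26917,23186],[]),(1,[26917,21328],[]),(1,[26917,21330],[]),(1,[26460],[]),(1,[26929,26249],[]),(1,[26473],[]),(1,[26933,12090],[]),(1,[3775,26934],[]),(1,[26933,13252],[]),(1,[26933,13255],[]),(1,[26478],[]),(1,[26943,3766],[]),(1,[26943,3893],[]),(1,[26943,3765],[]),(1,[670,26948],[]),(1,[26482],[]),(1,[26953,16034],[]),(1,[26096,26954],[]),(1,[26953,21579],[]),(1,[26493],[]),(1,[26961,26914],[]),(1,[20575,26962],[]),(1,[26863,26499],[]),(1,[26967,20582],[]),(1,[22630,26968],[]),(1,[26967,26864],[]),(1,[21787,26972],[]),(1,[26967,17442],[]),(1,[26967,17451],[]),(1,[26505],[]),(1,[26981,17667],[]),(1,[20411,26982],[]),(1,[26513],[]),(1,[26987,25550],[]),(1,[15913,26988],[]),(1,[26519],[]),(1,[26993,20161],[]),(1,[24048,26994],[]),(1,[26531],[])]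

theorem ok53 : data.stepsOK st53 13250 = true := by decide +kernel

def st54 : List Step := [(1,[26999,25564],[]),(1,[15257,27000],[]),(1,[26999,18426],[]),(1,[24815,27004],[]),(1,[26537],[]),(1,[27009,17201],[]),(1,[15858,27010],[]),(1,[26544],[]),(1,[27015,21751],[]),(1,[26549],[]),(1,[27019,16128],[]),(1,[3895,27020],[]),(1,[26731,26554],[]),(1,[27025,25487],[]),(1,[12099,27026],[]),(1,[27025,25441],[]),(1,[27025,26732],[]),(1,[27025,24840],[]),(1,[27025,24842],[]),(1,[26564],[]),(1,[27039,21981],[]),(1,[26769,27040],[]),(1,[26569],[]),(1,[27045,16376],[]),(1,[11533,27046],[]),(1,[27045,24778],[]),(1,[6921,27050],[]),(1,[26581],[]),(1,[27055,20034],[]),(1,[24579,27056],[]),(1,[26593],[]),(1,[27061,15858],[]),(1,[5101,27062],[]),(1,[26596],[]),(1,[27067,16051],[]),(1,[26605],[]),(1,[27071,4410],[]),(1,[4657,27072],[]),(1,[27071,20146],[]),(1,[27071,20143],[]),(1,[26610],[]),(1,[27081,25107],[]),(1,[15391,27082],[]),(1,[27081,20304],[]),(1,[266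17],[]),(1,[27089,17079],[]),(1,[12313,27090],[]),(1,[26627],[]),(1,[27095,5423],[]),(1,[26641],[]),(1,[27099,25346],[]),(1,[691,27100],[]),(1,[27099,5950],[]),(1,[19357,27104],[]),(1,[26646],[]),(1,[27109,19382],[]),(1,[27109,19384],[]),(1,[26653],[]),(1,[27115,19416],[]),(1,[22251,27116],[]),(1,[26658],[]),(1,[27121,14702],[]),(1,[597,27122],[]),(1,[27121,25156],[]),(1,[27121,14932],[]),(1,[16665,27128],[]),(1,[26663],[]),(1,[27133,4624],[]),(1,[3955,27134],[]),(1,[27133,12489],[]),(1,[27133,23560],[]),(1,[27133,23562],[]),(1,[26668],[]),(1,[27145,16070],[]),(1,[27145,16091],[]),(1,[26675],[]),(1,[27151,18243],[]),(1,[26558,27152],[]),(1,[26681],[]),(1,[27157,14520],[]),(1,[27148,27158],[]),(1,[27157,14359],[]),(1,[27157,14357],[]),(1,[26687],[]),(1,[27167,14758],[]),(1,[23610,27168],[]),(1,[26692],[]),(1,[27173,5079],[]),(1,[4472,27174],[]),(1,[27173,24900],[]),(1,[26700,26902],[]),(1,[27181,14979],[]),(1,[14672,27182],[]),(1,[27181,14980],[]),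(1,[26705],[]),(1,[27189,15282],[]),(1,[14985,27190],[]),(1,[27189,15275],[]),(1,[27189,22822],[]),(1,[26711],[]),(1,[27199,15566],[]),(1,[23145,27200],[]),(1,[26717],[]),(1,[27205,19631],[]),(1,[27205,19710],[]),(1,[26721],[]),(1,[27211,6147],[]),(1,[25877,27212],[]),(1,[26730,27024],[]),(1,[27217,26728],[]),(1,[27219,12098],[]),(1,[26259,27220],[]),(1,[27219,27030],[]),(1,[3783,27224],[]),(1,[27219,27032],[]),(1,[27219,27034],[]),(1,[27219,27036],[]),(1,[26739],[]),(1,[27235,25483],[]),(1,[20575,27236],[]),(1,[27235,23919],[]),(1,[15598,27240],[]),(1,[27235,23714],[]),(1,[20577,27244],[]),(1,[26749],[]),(1,[27249,1396],[]),(1,[329,27250],[]),(1,[26755],[]),(1,[27255,18176],[]),(1,[26959,27256],[]),(1,[27255,15358],[]),(1,[26761],[]),(1,[27263,18114],[]),(1,[322,27264],[]),(1,[26767],[]),(1,[27269,21517],[]),(1,[26775,27132],[]),(1,[27273,17470],[]),(1,[27141,27274],[]),(1,[26780],[]),(1,[27279,15331],[]),(1,[27279,26370],[]),(1,[26784],[]),(1,[2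7285,27111],[]),(1,[27285,19314],[]),(1,[26797],[]),(1,[27291,23781],[]),(1,[24579,27292],[]),(1,[26803],[]),(1,[27297,19284],[]),(1,[23406,27298],[]),(1,[26862,26966],[]),(1,[26809,27302],[]),(1,[27305,17570],[]),(1,[22630,27306],[]),(1,[26815],[]),(1,[27311,19296],[]),(1,[26585,27312],[]),(1,[26820],[]),(1,[27317,15600],[]),(1,[27317,20574],[]),(1,[5105,27320],[]),(1,[27317,20576],[]),(1,[27317,20578],[]),(1,[26827],[]),(1,[27329,17582],[]),(1,[17334,27330],[]),(1,[26833,27180],[]),(1,[27335,26869],[]),(1,[14675,27336],[]),(1,[26839],[]),(1,[27341,19030],[]),(1,[26013,27342],[]),(1,[26845],[]),(1,[27347,19283],[]),(1,[1137,27348],[]),(1,[27347,19340],[]),(1,[883,27352],[]),(1,[26849],[]),(1,[27357,19714],[]),(1,[26854],[]),(1,[27361,17339],[]),(1,[27361,17335],[]),(1,[26861,27364],[]),(1,[27361,17336],[]),(1,[27361,17341],[]),(1,[26875],[]),(1,[27373,16008],[]),(1,[26881],[]),(1,[27377,15776],[]),(1,[25555,27378],[]),(1,[26891],[]),(1,[27383,153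23],[]),(1,[4261,27384],[]),(1,[27383,15294],[]),(1,[4621,27388],[]),(1,[26901],[]),(1,[27393,19420],[]),(1,[27393,19395],[]),(1,[26906],[]),(1,[27399,14675],[]),(1,[27399,14676],[]),(1,[27187,27402],[]),(1,[26921],[]),(1,[27407,21320],[]),(1,[26937],[]),(1,[27411,14636],[]),(1,[26558,27412],[]),(1,[27411,14472],[]),(1,[26951],[]),(1,[27419,3890],[]),(1,[22340,27420],[]),(1,[26957],[]),(1,[27425,16036],[]),(1,[22629,27426],[]),(1,[26965],[]),(1,[27431,23330],[]),(1,[16579,27432],[]),(1,[26971],[]),(1,[27437,20288],[]),(1,[15745,27438],[]),(1,[26974],[]),(1,[27443,21787],[]),(1,[26984],[]),(1,[27447,5378],[]),(1,[20106,27448],[]),(1,[27447,20411],[]),(1,[26991],[]),(1,[27455,15950],[]),(1,[15886,27456],[]),(1,[26997],[]),(1,[27461,20240],[]),(1,[26585,27462],[]),(1,[27003],[]),(1,[27467,15264],[]),(1,[15259,27468],[]),(1,[27467,15263],[]),(1,[27007],[]),(1,[27475,18428],[]),(1,[14789,27476],[]),(1,[27475,24931],[]),(1,[14786,27480],[]),(1,[27013,27060],[]),(1,[27485,17199],[]),(1,[21543,27486],[]),(1,[27023],[]),(1,[27491,16041],[]),(1,[26494,27492],[]),(1,[27028],[]),(1,[27497,12100],[])]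

theorem ok54 : data.stepsOK st54 13500 = true := by decide +kernel

def st55 : List Step := [(1,[1386,27498],[]),(1,[27497,22286],[]),(1,[1389,27502],[]),(1,[27042],[]),(1,[27507,25526],[]),(1,[15236,27508],[]),(1,[27507,26769],[]),(1,[27507,25532],[]),(1,[27507,25534],[]),(1,[27049],[]),(1,[27519,25148],[]),(1,[6921,27520],[]),(1,[27328,27360],[]),(1,[27525,27053],[]),(1,[27527,27362],[]),(1,[27527,15549],[]),(1,[6920,27530],[]),(1,[27527,26860],[]),(1,[6923,27534],[]),(1,[27527,27368],[]),(1,[27527,27370],[]),(1,[27059],[]),(1,[27543,20036],[]),(1,[12538,27544],[]),(1,[27065],[]),(1,[27549,25692],[]),(1,[15723,27550],[]),(1,[27549,25696],[]),(1,[27075],[]),(1,[27557,4412],[]),(1,[4318,27558],[]),(1,[27557,20130],[]),(1,[27557,20129],[]),(1,[27084],[]),(1,[27567,15570],[]),(1,[27207,27568],[]),(1,[27567,15392],[]),(1,[1387,27572],[]),(1,[27093],[]),(1,[27577,27286],[]),(1,[643,27578],[]),(1,[27577,27288],[]),(1,[14619,27582],[]),(1,[27103],[]),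(1,[27587,22251],[]),(1,[693,27588],[]),(1,[27587,6774],[]),(1,[27106],[]),(1,[27595,19540],[]),(1,[23670,27596],[]),(1,[27595,19357],[]),(1,[27119,27586],[]),(1,[27603,19366],[]),(1,[1093,27604],[]),(1,[27125],[]),(1,[27609,14681],[]),(1,[23610,27610],[]),(1,[27609,14928],[]),(1,[16751,27614],[]),(1,[27130],[]),(1,[27619,16822],[]),(1,[27619,16665],[]),(1,[27137],[]),(1,[27625,4269],[]),(1,[27625,23360],[]),(1,[3957,27628],[]),(1,[27625,23144],[]),(1,[27625,23146],[]),(1,[27155],[]),(1,[27637,18976],[]),(1,[5593,27638],[]),(1,[27161],[]),(1,[27643,14495],[]),(1,[25364,27644],[]),(1,[27643,14514],[]),(1,[22311,27648],[]),(1,[27170],[]),(1,[27653,26697],[]),(1,[14905,27654],[]),(1,[27653,15614],[]),(1,[27653,23610],[]),(1,[27177],[]),(1,[27663,23075],[]),(1,[4699,27664],[]),(1,[27663,25645],[]),(1,[27663,25272],[]),(1,[27185],[]),(1,[27673,15046],[]),(1,[26896,27674],[]),(1,[27673,15028],[]),(1,[27673,14977],[]),(1,[27193],[]),(1,[27683,26323],[]),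(1,[25023,27684],[]),(1,[27683,25995],[]),(1,[14987,27688],[]),(1,[27683,22666],[]),(1,[27683,22668],[]),(1,[27202],[]),(1,[27697,17925],[]),(1,[9047,27698],[]),(1,[27697,27635],[]),(1,[27697,27633],[]),(1,[27214],[]),(1,[27707,25333],[]),(1,[15799,27708],[]),(1,[27707,25877],[]),(1,[27707,25103],[]),(1,[6144,27714],[]),(1,[27707,14920],[]),(1,[27707,14923],[]),(1,[27222,27496],[]),(1,[27723,26261],[]),(1,[27723,26259],[]),(1,[27407,27227],[]),(1,[27729,5192],[]),(1,[21753,27730],[]),(1,[27729,5191],[]),(1,[3782,27734],[]),(1,[27729,27408],[]),(1,[27238],[]),(1,[27741,16578],[]),(1,[3681,27742],[]),(1,[27242,27548],[]),(1,[27747,26062],[]),(1,[15723,27748],[]),(1,[27747,24073],[]),(1,[5100,27752],[]),(1,[27246],[]),(1,[27757,27327],[]),(1,[27757,27325],[]),(1,[27253],[]),(1,[27763,15088],[]),(1,[26628,27764],[]),(1,[27763,11279],[]),(1,[26634,27768],[]),(1,[27259],[]),(1,[27773,18178],[]),(1,[26946,27774],[]),(1,[27267],[]),(1,[27779,18116],[]),(1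,[26508,27780],[]),(1,[27276],[]),(1,[27785,27143],[]),(1,[27785,27141],[]),(1,[27295],[]),(1,[27791,17742],[]),(1,[4328,27792],[]),(1,[27301],[]),(1,[27797,19257],[]),(1,[24566,27798],[]),(1,[27309],[]),(1,[27803,17515],[]),(1,[26097,27804],[]),(1,[27315],[]),(1,[27809,19199],[]),(1,[3661,27810],[]),(1,[27322,27740],[]),(1,[27815,17505],[]),(1,[3681,27816],[]),(1,[27815,5105],[]),(1,[27815,14320],[]),(1,[27333],[]),(1,[27825,17584],[]),(1,[27825,23590],[]),(1,[17332,27828],[]),(1,[27399,27338],[]),(1,[27833,27401,27832],[]),(1,[27359,27834],[]),(1,[27833,14673],[]),(1,[3535,27838],[]),(1,[27833,27186],[]),(1,[3532,27842],[]),(1,[27833,26908],[]),(1,[27833,26910],[]),(1,[27345],[]),(1,[27851,19032],[]),(1,[25027,27852],[]),(1,[27351],[]),(1,[27857,19139],[]),(1,[878,27858],[]),(1,[27355],[]),(1,[27863,19342],[]),(1,[885,27864],[]),(1,[27366],[]),(1,[27869,17799],[]),(1,[17332,27870],[]),(1,[27380],[]),(1,[27875,25555],[]),(1,[27387],[]),(1,[27879,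15368],[]),(1,[27390],[]),(1,[27883,4257],[]),(1,[291,27884],[]),(1,[27883,4258],[]),(1,[27883,4621],[]),(1,[27404],[]),(1,[27893,14982],[]),(1,[27415],[]),(1,[27897,14638],[]),(1,[20883,27898],[]),(1,[27422],[]),(1,[27903,25929],[]),(1,[3760,27904],[]),(1,[27903,21823],[]),(1,[27428],[]),(1,[27911,22631],[]),(1,[27911,22629],[]),(1,[27911,27445],[]),(1,[27911,26976],[]),(1,[27911,26978],[]),(1,[27434],[]),(1,[27923,24724],[]),(1,[874,27924],[]),(1,[27440],[]),(1,[27929,15745],[]),(1,[27450],[]),(1,[27933,20106],[]),(1,[27459],[]),(1,[27937,15952],[]),(1,[27465],[]),(1,[27941,20157],[]),(1,[26598,27942],[]),(1,[27471],[]),(1,[27947,23218],[]),(1,[15261,27948],[]),(1,[27947,15266],[]),(1,[27876,27952],[]),(1,[27479],[]),(1,[27482],[]),(1,[27959,14786],[]),(1,[27488],[]),(1,[27963,21533],[]),(1,[17196,27964],[]),(1,[27495],[]),(1,[27969,16039],[]),(1,[27501],[]),(1,[27973,22449],[]),(1,[1384,27974],[]),(1,[27504],[]),(1,[27979,26281],[]),(1,[13899,27980],[]),(1,[27979,1389],[]),(1,[27979,27713],[]),(1,[867,27986],[]),(1,[27510],[]),(1,[27991,15140],[]),(1,[27991,15236],[]),(1,[27991,20883],[]),(1,[27523],[])]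

theorem ok55 : data.stepsOK st55 13750 = true := by decide +kernel

end

end T352
end HN
end H39
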