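import Cfsg.Agent.H39.HN.T352.Data

/-!
Steps of a derivation (generated data).
-/

set_option autoImplicit false
set_option maxRecDepth 100000
set_option linter.all false
set_option Elab.async false

namespace H39
namespace HN
namespace T352

open H93.CosetI

noncomputable section

def st56 : List Step := [(1,[27999,17496],[]),(1,[6923,28000],[]),(1,[27533],[]),(1,[28005,15586],[]),(1,[11533,28006],[]),(1,[28005,27374],[]),(1,[8932,28010],[]),(1,[27869,27537],[]),(1,[28015,27826],[]),(1,[28015,17333],[]),(1,[6925,28018],[]),(1,[27547],[]),(1,[28023,20038],[]),(1,[346,28024],[]),(1,[27552],[]),(1,[28029,15794],[]),(1,[28029,15723],[]),(1,[27561],[]),(1,[28035,4414],[]),(1,[28031,28036],[]),(1,[27570],[]),(1,[28041,27209],[]),(1,[27575],[]),(1,[28045,15582],[]),(1,[25493,28046],[]),(1,[27581],[]),(1,[28051,27112],[]),(1,[14623,28052],[]),(1,[27584],[]),(1,[28057,14597],[]),(1,[27282,28058],[]),(1,[28057,14616],[]),(1,[27591],[]),(1,[28065,4401]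,[]),(1,[695,28066],[]),(1,[28065,26140],[]),(1,[19829,28070],[]),(1,[27599],[]),(1,[28075,19830],[]),(1,[3947,28076],[]),(1,[27607],[]),(1,[28081,19368],[]),(1,[27600,28082],[]),(1,[27653,27612],[]),(1,[28087,27658],[]),(1,[25909,28088],[]),(1,[28087,27660],[]),(1,[28087,14760],[]),(1,[27616],[]),(1,[28097,16668],[]),(1,[28097,16751],[]),(1,[27631],[]),(1,[28103,14536],[]),(1,[3959,28104],[]),(1,[28103,23176],[]),(1,[14696,28108],[]),(1,[27641],[]),(1,[28113,18978],[]),(1,[27647],[]),(1,[28117,14524],[]),(1,[4659,28118],[]),(1,[27650],[]),(1,[28123,22311],[]),(1,[27893,27657],[]),(1,[28127,14678],[]),(1,[28127,14701],[]),(1,[28127,27894],[]),(1,[1230,28132],[]),(1,[27892,28126],[]),(1,[27666],[]),(1,[28139,4470],[]),(1,[27881,28140],[]),(1,[28139,4469],[]),(1,[4260,28144],[]),(1,[27676],[]),(1,[28149,26894],[]),(1,[28149,14987],[]),(1,[28149,25002],[]),(1,[14510,28154],[]),(1,[27686],[]),(1,[28159,25023],[]),(1,[27691,28148],[]),(1,[28163,268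57],[]),(1,[14510,28164],[]),(1,[27701],[]),(1,[28169,17923],[]),(1,[5640,28170],[]),(1,[27710],[]),(1,[28175,15799],[]),(1,[27716],[]),(1,[28179,6366],[]),(1,[3679,28180],[]),(1,[27732],[]),(1,[28185,21714],[]),(1,[28185,21753],[]),(1,[27737],[]),(1,[28191,5189],[]),(1,[27229,28192],[]),(1,[27744,27922],[]),(1,[28197,3682],[]),(1,[877,28198],[]),(1,[28197,3681],[]),(1,[27751,28028],[]),(1,[28205,17287],[]),(1,[26539,28206],[]),(1,[27754],[]),(1,[28211,5518],[]),(1,[3859,28212],[]),(1,[28211,5100],[]),(1,[27767],[]),(1,[28219,15090],[]),(1,[14445,28220],[]),(1,[27770],[]),(1,[28225,26632],[]),(1,[28225,26634],[]),(1,[27777],[]),(1,[28231,18180],[]),(1,[670,28232],[]),(1,[27783],[]),(1,[28237,18118],[]),(1,[320,28238],[]),(1,[27794],[]),(1,[28243,4658],[]),(1,[13617,28244],[]),(1,[28243,4328],[]),(1,[27801],[]),(1,[28251,21608],[]),(1,[28251,21531],[]),(1,[4324,28254],[]),(1,[27807],[]),(1,[28259,17513],[]),(1,[26959,28260],[]),(1,[27813],[]),(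1,[28265,19260],[]),(1,[28265,19197],[]),(1,[27819,28196],[]),(1,[28271,17566],[]),(1,[877,28272],[]),(1,[27830,27956],[]),(1,[28277,17331],[]),(1,[27836],[]),(1,[28281,27359],[]),(1,[27841],[]),(1,[28285,28151],[]),(1,[28285,14671],[]),(1,[12944,28288],[]),(1,[28285,27678],[]),(1,[28285,27680],[]),(1,[27844,28136],[]),(1,[28297,3618],[]),(1,[28129,28298],[]),(1,[28297,3532],[]),(1,[27855],[]),(1,[28305,19034],[]),(1,[28305,19119],[]),(1,[27861],[]),(1,[28311,19350],[]),(1,[27867],[]),(1,[28315,19344],[]),(1,[887,28316],[]),(1,[27873,28276],[]),(1,[28321,17812],[]),(1,[14943,28322],[]),(1,[27887],[]),(1,[28327,4255],[]),(1,[293,28328],[]),(1,[27901,27990],[]),(1,[28333,14640],[]),(1,[3784,28334],[]),(1,[27906],[]),(1,[28339,3759],[]),(1,[680,28340],[]),(1,[28339,3760],[]),(1,[27927],[]),(1,[28347,3673],[]),(1,[28347,11707],[]),(1,[27945],[]),(1,[28353,26093],[]),(1,[27068,28354],[]),(1,[27950],[]),(1,[28359,15288],[]),(1,[28359,15261],[]),(1,[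28359,27473],[]),(1,[3689,28364],[]),(1,[27954],[]),(1,[28369,27876],[]),(1,[27966,28270],[]),(1,[28373,17260],[]),(1,[877,28374],[]),(1,[27976],[]),(1,[28379,1384],[]),(1,[28379,2932],[]),(1,[27982],[]),(1,[28385,13896],[]),(1,[28385,13899],[]),(1,[28385,8989],[]),(1,[15913,28390],[]),(1,[27989],[]),(1,[28395,28177],[]),(1,[22717,28396],[]),(1,[28395,27718],[]),(1,[28395,27720],[]),(1,[28003],[]),(1,[28405,17498],[]),(1,[28017,28406],[]),(1,[28405,27271],[]),(1,[6925,28410],[]),(1,[28009],[]),(1,[28415,15545],[]),(1,[15215,28416],[]),(1,[28013],[]),(1,[28421,16010],[]),(1,[13890,28422],[]),(1,[28277,28021],[]),(1,[28427,14942],[]),(1,[6927,28428],[]),(1,[28427,14790],[]),(1,[6924,28432],[]),(1,[28427,28278],[]),(1,[28427,14940],[]),(1,[28427,14945],[]),(1,[28027],[]),(1,[28443,20040],[]),(1,[24516,28444],[]),(1,[28038],[]),(1,[28449,28033],[]),(1,[28449,5102],[]),(1,[4417,28452],[]),(1,[28449,28217],[]),(1,[28449,27554],[]),(1,[28049],[]),(1,[28461,15524],[]),(1,[6750,28462],[]),(1,[28054],[]),(1,[28467,14620],[]),(1,[28061],[]),(1,[28471,14632],[]),(1,[15377,28472],[]),(1,[28069],[]),(1,[28477,27146],[]),(1,[17757,28478],[]),(1,[28477,28125],[]),(1,[19959,28482],[]),(1,[28072],[]),(1,[28487,19784],[]),(1,[28079],[]),(1,[28491,19832],[]),(1,[28085],[]),(1,[28495,19370],[]),(1,[28495,19419],[])]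

theorem ok56 : data.stepsOK st56 14000 = true := by decide +kernel

def st57 : List Step := [(1,[28090],[]),(1,[28501,25909],[]),(1,[28107],[]),(1,[28505,26923],[]),(1,[3961,28506],[]),(1,[28505,26931],[]),(1,[14664,28510],[]),(1,[28110],[]),(1,[28515,14696],[]),(1,[28115,28516],[]),(1,[28121],[]),(1,[28521,14491],[]),(1,[24567,28522],[]),(1,[28135],[]),(1,[28527,14984],[]),(1,[28527,15065],[]),(1,[28527,27194],[]),(1,[1228,28532],[]),(1,[28527,27196],[]),(1,[28142],[]),(1,[28539,27881],[]),(1,[28147],[]),(1,[28543,4696],[]),(1,[20906,28544],[]),(1,[28157],[]),(1,[28549,27394],[]),(1,[28549,27396],[]),(1,[28167],[]),(1,[28555,27529],[]),(1,[28551,28556],[]),(1,[28555,27281],[]),(1,[14508,28560],[]),(1,[28555,15354],[]),(1,[28555,15329],[]),(1,[28173],[]),(1,[28569,17921],[]),(1,[5638,28570],[]),(1,[28183],[]),(1,[28575,6141],[]),(1,[28202,28576],[]),(1,[28575,14975],[]),(1,[27821,28580],[]),(1,[28195],[]),(1,[28585,5562],[]),(1,[26724,28586]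,[]),(1,[28201],[]),(1,[28591,3684],[]),(1,[28313,28592],[]),(1,[28209],[]),(1,[28597,17362],[]),(1,[26886,28598],[]),(1,[28215],[]),(1,[28603,27069],[]),(1,[3668,28604],[]),(1,[28603,26598],[]),(1,[23841,28608],[]),(1,[28223],[]),(1,[28613,15092],[]),(1,[3947,28614],[]),(1,[28235],[]),(1,[28619,18182],[]),(1,[668,28620],[]),(1,[28241],[]),(1,[28625,18120],[]),(1,[23814,28626],[]),(1,[28247],[]),(1,[28631,28252],[]),(1,[13619,28632],[]),(1,[28631,24566],[]),(1,[17650,28636],[]),(1,[28631,4325],[]),(1,[3233,28640],[]),(1,[28257],[]),(1,[28645,17768],[]),(1,[28645,17729],[]),(1,[28263],[]),(1,[28651,17568],[]),(1,[26946,28652],[]),(1,[28275],[]),(1,[28657,17501],[]),(1,[28313,28658],[]),(1,[28291],[]),(1,[28663,14669],[]),(1,[883,28664],[]),(1,[28300],[]),(1,[28669,28131],[]),(1,[28669,28129],[]),(1,[28669,28503],[]),(1,[28669,28092],[]),(1,[3528,28676],[]),(1,[28669,28094],[]),(1,[28319],[]),(1,[28683,19346],[]),(1,[28325],[]),(1,[28687,17795],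[]),(1,[27960,28688],[]),(1,[28331],[]),(1,[28693,4253],[]),(1,[13846,28694],[]),(1,[28337],[]),(1,[28699,14642],[]),(1,[28188,28700],[]),(1,[28343],[]),(1,[28705,3757],[]),(1,[27908,28706],[]),(1,[28356],[]),(1,[28367],[]),(1,[28713,15286],[]),(1,[20696,28714],[]),(1,[28713,15258],[]),(1,[21688,28718],[]),(1,[28377],[]),(1,[28723,28306],[]),(1,[28723,28308],[]),(1,[28392],[]),(1,[28729,15887],[]),(1,[9132,28730],[]),(1,[28729,15828],[]),(1,[28729,15913],[]),(1,[28398],[]),(1,[28739,22719],[]),(1,[28739,22717],[]),(1,[28408],[]),(1,[28745,28017],[]),(1,[28413],[]),(1,[28749,15456],[]),(1,[28437,28750],[]),(1,[28419],[]),(1,[28755,15543],[]),(1,[27513,28756],[]),(1,[28425],[]),(1,[28761,16012],[]),(1,[13887,28762],[]),(1,[28431],[]),(1,[28767,27961],[]),(1,[28767,24815],[]),(1,[6929,28770],[]),(1,[28767,14924],[]),(1,[28767,14927],[]),(1,[28435],[]),(1,[28779,14792],[]),(1,[28746,28780],[]),(1,[28447],[]),(1,[28785,20042],[]),(1,[669,28786],[])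,(1,[28455],[]),(1,[28791,27318],[]),(1,[4419,28792],[]),(1,[28791,27821],[]),(1,[28791,27761],[]),(1,[28791,27759],[]),(1,[28465],[]),(1,[28803,15526],[]),(1,[7145,28804],[]),(1,[28474],[]),(1,[28809,15472],[]),(1,[28809,15377],[]),(1,[28809,27513],[]),(1,[28809,15378],[]),(1,[28809,15471],[]),(1,[28480],[]),(1,[28821,17754],[]),(1,[28493,28822],[]),(1,[28484],[]),(1,[28827,19838],[]),(1,[28509],[]),(1,[28831,28186],[]),(1,[3963,28832],[]),(1,[28831,5194],[]),(1,[28831,26924],[]),(1,[28831,26926],[]),(1,[28512],[]),(1,[28843,14664],[]),(1,[28518],[]),(1,[28847,28115],[]),(1,[28524],[]),(1,[28851,23404],[]),(1,[14523,28852],[]),(1,[28851,23408],[]),(1,[28535],[]),(1,[28859,15272],[]),(1,[28859,14698],[]),(1,[28859,14667],[]),(1,[28546],[]),(1,[28867,20904],[]),(1,[28867,20906],[]),(1,[28867,26097],[]),(1,[4464,28872],[]),(1,[28867,26958],[]),(1,[28867,27260],[]),(1,[28558],[]),(1,[28881,28553],[]),(1,[28562],[]),(1,[28885,14508],[]),(1,[28573]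,[]),(1,[28889,18066],[]),(1,[14340,28890],[]),(1,[28579],[]),(1,[28895,11784],[]),(1,[877,28896],[]),(1,[28895,6364],[]),(1,[28895,6139],[]),(1,[28583,28790],[]),(1,[28905,14973],[]),(1,[4416,28906],[]),(1,[28589],[]),(1,[28911,5185],[]),(1,[27228,28912],[]),(1,[28594],[]),(1,[28917,28313],[]),(1,[28601],[]),(1,[28921,17283],[]),(1,[14553,28922],[]),(1,[28711,28607],[]),(1,[28927,4202],[]),(1,[3857,28928],[]),(1,[28927,26090],[]),(1,[28610],[]),(1,[28935,23841],[]),(1,[28617],[]),(1,[28939,15094],[]),(1,[28493,28940],[]),(1,[28623],[]),(1,[28945,18184],[]),(1,[24515,28946],[]),(1,[28629],[]),(1,[28951,18122],[]),(1,[24048,28952],[]),(1,[28635],[]),(1,[28957,19978],[]),(1,[28249,28958],[]),(1,[28638,28850],[]),(1,[28963,19666],[]),(1,[28857,28964],[]),(1,[28963,17650],[]),(1,[28643],[]),(1,[28971,23255],[]),(1,[17759,28972],[]),(1,[28971,4323],[]),(1,[3235,28976],[]),(1,[28971,28646],[]),(1,[28971,28648],[]),(1,[28655],[]),(1,[28985,17509],[]),(1,[670,28986],[]),(1,[28661,28916],[]),(1,[28859,28667],[]),(1,[28993,28860],[]),(1,[885,28994],[]),(1,[28993,1228],[])]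

theorem ok57 : data.stepsOK st57 14250 = true := by decide +kernel

def st58 : List Step := [(1,[28993,1227],[]),(1,[882,29000],[]),(1,[28993,28862],[]),(1,[28993,28864],[]),(1,[28678],[]),(1,[29009,3616],[]),(1,[343,29010],[]),(1,[29009,3528],[]),(1,[28691],[]),(1,[29017,17810],[]),(1,[27563,29018],[]),(1,[28697],[]),(1,[29023,4618],[]),(1,[857,29024],[]),(1,[28703,28830],[]),(1,[29029,14644],[]),(1,[3960,29030],[]),(1,[28708],[]),(1,[29035,28345],[]),(1,[29035,27908],[]),(1,[28716],[]),(1,[29041,20702],[]),(1,[29041,20700],[]),(1,[28720],[]),(1,[29047,21687],[]),(1,[28360,29048],[]),(1,[28733],[]),(1,[29053,27938],[]),(1,[5180,29054],[]),(1,[28752,28808],[]),(1,[29059,17374],[]),(1,[28811,29060],[]),(1,[29059,28437],[]),(1,[14592,29064],[]),(1,[28759,28808],[]),(1,[29069,15541],[]),(1,[14592,29070],[]),(1,[28765],[]),(1,[29075,16014],[]),(1,[5181,29076],[]),(1,[28773],[]),(1,[29081,29042],[]),(1,[6931,29082],[]),(1,[29081,15255],[]),(1,[29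081,29044],[]),(1,[28783,28990],[]),(1,[29091,14794],[]),(1,[3687,29092],[]),(1,[28789],[]),(1,[29097,20044],[]),(1,[29097,20141],[]),(1,[29097,20132],[]),(1,[18443,29102],[]),(1,[28795],[]),(1,[29107,26494],[]),(1,[4421,29108],[]),(1,[29107,27970],[]),(1,[29107,26740],[]),(1,[29107,26742],[]),(1,[28807],[]),(1,[29119,15528],[]),(1,[6746,29120],[]),(1,[28824],[]),(1,[29125,28493],[]),(1,[28834],[]),(1,[29129,3964],[]),(1,[3785,29130],[]),(1,[28854],[]),(1,[29135,14488],[]),(1,[29135,14487],[]),(1,[4262,29138],[]),(1,[28875],[]),(1,[29143,27915],[]),(1,[29143,27913],[]),(1,[29143,27917],[]),(1,[4462,29148],[]),(1,[29143,27931],[]),(1,[28893],[]),(1,[29155,17917],[]),(1,[5289,29156],[]),(1,[28899],[]),(1,[29161,895],[]),(1,[879,29162],[]),(1,[29161,896],[]),(1,[28725,29166],[]),(1,[28909],[]),(1,[29171,15058],[]),(1,[28451,29172],[]),(1,[28915],[]),(1,[29177,5560],[]),(1,[27231,29178],[]),(1,[28925],[]),(1,[29183,17281],[]),(1,[20875,29184],[]),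(1,[28931],[]),(1,[29189,4204],[]),(1,[28932,29190],[]),(1,[28943,29124],[]),(1,[29195,15096],[]),(1,[694,29196],[]),(1,[28949],[]),(1,[29201,18186],[]),(1,[347,29202],[]),(1,[28955],[]),(1,[29207,18124],[]),(1,[21568,29208],[]),(1,[28961],[]),(1,[29213,19980],[]),(1,[12538,29214],[]),(1,[28967],[]),(1,[29219,19704],[]),(1,[27086,29220],[]),(1,[28974],[]),(1,[29225,17664],[]),(1,[28979],[]),(1,[29229,4656],[]),(1,[20125,29230],[]),(1,[29229,27076],[]),(1,[29229,27078],[]),(1,[28989],[]),(1,[29239,17554],[]),(1,[29099,29240],[]),(1,[29239,17564],[]),(1,[18443,29244],[]),(1,[28997],[]),(1,[29249,29087],[]),(1,[887,29250],[]),(1,[29249,26431],[]),(1,[29249,15276],[]),(1,[29249,15285],[]),(1,[29003],[]),(1,[29261,1752],[]),(1,[1137,29262],[]),(1,[29013],[]),(1,[29267,3525],[]),(1,[27127,29268],[]),(1,[29020],[]),(1,[29273,20076],[]),(1,[14340,29274],[]),(1,[29273,27565],[]),(1,[29273,27563],[]),(1,[29027],[]),(1,[29283,4249],[]),(1,[13859,29284],[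]),(1,[29033],[]),(1,[29289,14646],[]),(1,[4157,29290],[]),(1,[29051],[]),(1,[29295,21685],[]),(1,[3689,29296],[]),(1,[29057],[]),(1,[29301,15954],[]),(1,[9132,29302],[]),(1,[29063],[]),(1,[29307,17327],[]),(1,[27283,29308],[]),(1,[29066],[]),(1,[29313,14592],[]),(1,[29073,29312],[]),(1,[29317,15584],[]),(1,[28439,29318],[]),(1,[29079],[]),(1,[29323,16016],[]),(1,[9133,29324],[]),(1,[29084],[]),(1,[29329,6931],[]),(1,[29329,6932],[]),(1,[3688,29332],[]),(1,[29095],[]),(1,[29337,14796],[]),(1,[28361,29338],[]),(1,[29104],[]),(1,[29343,18413],[]),(1,[29343,18342],[]),(1,[29110],[]),(1,[29349,4422],[]),(1,[3768,29350],[]),(1,[29349,4421],[]),(1,[29123],[]),(1,[29357,15530],[]),(1,[7143,29358],[]),(1,[29133],[]),(1,[29363,3966],[]),(1,[27993,29364],[]),(1,[29141],[]),(1,[29369,14485],[]),(1,[4260,29370],[]),(1,[29151],[]),(1,[29375,29147],[]),(1,[29375,29145],[]),(1,[29375,29113],[]),(1,[4460,29380],[]),(1,[29375,27918],[]),(1,[29375,27920],[]),(1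,[29159],[]),(1,[29389,18064],[]),(1,[14378,29390],[]),(1,[29165],[]),(1,[29395,893],[]),(1,[28371,29396],[]),(1,[29168],[]),(1,[29401,28727],[]),(1,[29401,28725],[]),(1,[29175],[]),(1,[29407,14969],[]),(1,[4319,29408],[]),(1,[29180],[]),(1,[29413,7146],[]),(1,[9129,29414],[]),(1,[29413,27233],[]),(1,[29413,27231],[]),(1,[29187],[]),(1,[29423,17279],[]),(1,[4264,29424],[]),(1,[29193],[]),(1,[29429,4206],[]),(1,[3857,29430],[]),(1,[29199],[]),(1,[29435,15098],[]),(1,[28268,29436],[]),(1,[29205],[]),(1,[29441,18078],[]),(1,[12537,29442],[]),(1,[29211],[]),(1,[29447,18126],[]),(1,[3773,29448],[]),(1,[29217],[]),(1,[29453,19982],[]),(1,[349,29454],[]),(1,[29222],[]),(1,[29459,28042],[]),(1,[3239,29460],[]),(1,[29232],[]),(1,[29465,20002],[]),(1,[29465,20125],[]),(1,[29465,20027],[]),(1,[28768,29470],[]),(1,[29242],[]),(1,[29475,29101],[]),(1,[29475,29099],[]),(1,[29475,20138],[]),(1,[3889,29480],[]),(1,[29247,29342],[]),(1,[29485,14707],[]),(1,[4445,29486],[]),(1,[29485,14842],[]),(1,[29345,29490],[]),(1,[29253],[]),(1,[29495,29331],[]),(1,[889,29496],[])]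

theorem ok58 : data.stepsOK st58 14500 = true := by decide +kernel

def st59 : List Step := [(1,[29495,6929],[]),(1,[28685,29500],[]),(1,[29495,29088],[]),(1,[29265],[]),(1,[29507,1223],[]),(1,[28371,29508],[]),(1,[29270],[]),(1,[29513,4152],[]),(1,[3615,29514],[]),(1,[29513,27127],[]),(1,[29513,3952],[]),(1,[15116,29520],[]),(1,[29277],[]),(1,[29525,29237],[]),(1,[29525,29235],[]),(1,[29287],[]),(1,[29531,4616],[]),(1,[10945,29532],[]),(1,[29293],[]),(1,[29537,14648],[]),(1,[28849,29538],[]),(1,[29299],[]),(1,[29543,21683],[]),(1,[29305],[]),(1,[29547,15956],[]),(1,[9129,29548],[]),(1,[29311],[]),(1,[29553,17372],[]),(1,[687,29554],[]),(1,[29321],[]),(1,[29559,15537],[]),(1,[3750,29560],[]),(1,[29327],[]),(1,[29565,16018],[]),(1,[13888,29566],[]),(1,[29335],[]),(1,[29571,6934],[]),(1,[28361,29572],[]),(1,[29571,18086],[]),(1,[29571,18083],[]),(1,[29340],[]),(1,[29581,28363],[]),(1,[29581,28361],[]),(1,[29581,28371],[]),(1,[14799,29586],[]),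(1,[29353],[]),(1,[29591,4424],[]),(1,[28876,29592],[]),(1,[29361],[]),(1,[29597,15532],[]),(1,[6742,29598],[]),(1,[29366],[]),(1,[29603,27995],[]),(1,[29603,27993],[]),(1,[29603,28815],[]),(1,[3969,29608],[]),(1,[29603,15215],[]),(1,[29603,27514],[]),(1,[29603,27516],[]),(1,[29373],[]),(1,[29619,14483],[]),(1,[20901,29620],[]),(1,[29382],[]),(1,[29625,4460],[]),(1,[29393],[]),(1,[29629,17913],[]),(1,[293,29630],[]),(1,[29581,29398],[]),(1,[29635,29582],[]),(1,[29635,29584],[]),(1,[29635,14798],[]),(1,[29411],[]),(1,[29643,15056],[]),(1,[29467,29644],[]),(1,[29417],[]),(1,[29649,25495],[]),(1,[29649,25493],[]),(1,[29427],[]),(1,[29655,8367],[]),(1,[29137,29656],[]),(1,[29655,18035],[]),(1,[4262,29660],[]),(1,[29655,12585],[]),(1,[29433],[]),(1,[29667,4208],[]),(1,[28932,29668],[]),(1,[29439],[]),(1,[29673,15125],[]),(1,[3663,29674],[]),(1,[29445],[]),(1,[29679,17959],[]),(1,[24578,29680],[]),(1,[29679,17960],[]),(1,[28248,29684],[]),(1,[29451]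,[]),(1,[29689,18128],[]),(1,[26939,29690],[]),(1,[29457],[]),(1,[29695,17760],[]),(1,[12485,29696],[]),(1,[29462],[]),(1,[29701,3356],[]),(1,[29701,3239],[]),(1,[29701,3240],[]),(1,[1387,29706],[]),(1,[29473],[]),(1,[29711,20025],[]),(1,[29483],[]),(1,[29715,4442],[]),(1,[29715,4693],[]),(1,[29715,4441],[]),(1,[14366,29720],[]),(1,[29489],[]),(1,[29725,14898],[]),(1,[4447,29726],[]),(1,[29725,14900],[]),(1,[29492],[]),(1,[29733,29345],[]),(1,[29580,29634],[]),(1,[29499],[]),(1,[29739,29544],[]),(1,[888,29740],[]),(1,[29739,3689],[]),(1,[29739,13491],[]),(1,[29502],[]),(1,[29749,28685],[]),(1,[29713,29750],[]),(1,[29511,29736],[]),(1,[29755,1750],[]),(1,[29637,29756],[]),(1,[29517],[]),(1,[29761,3949],[]),(1,[3520,29762],[]),(1,[29761,26210],[]),(1,[15163,29766],[]),(1,[29522],[]),(1,[29771,15116],[]),(1,[29535],[]),(1,[29775,4245],[]),(1,[10466,29776],[]),(1,[29541],[]),(1,[29781,14650],[]),(1,[5383,29782],[]),(1,[29781,14908],[]),(1,[29781,1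4911],[]),(1,[29551],[]),(1,[29791,15958],[]),(1,[9122,29792],[]),(1,[29557],[]),(1,[29797,17323],[]),(1,[26643,29798],[]),(1,[29563],[]),(1,[29803,15535],[]),(1,[3748,29804],[]),(1,[29569],[]),(1,[29809,16020],[]),(1,[13891,29810],[]),(1,[29575,29736],[]),(1,[29815,18050],[]),(1,[29815,18049],[]),(1,[29588],[]),(1,[29821,29641],[]),(1,[29594],[]),(1,[29825,28868],[]),(1,[29825,28870],[]),(1,[29825,4465],[]),(1,[29825,28876],[]),(1,[29825,28878],[]),(1,[4427,29834],[]),(1,[29601],[]),(1,[29611],[]),(1,[29841,28810],[]),(1,[29841,28812],[]),(1,[29841,29315],[]),(1,[3971,29846],[]),(1,[29841,28816],[]),(1,[29841,28818],[]),(1,[29622],[]),(1,[29855,26884],[]),(1,[14631,29856],[]),(1,[29855,14552],[]),(1,[29855,20901],[]),(1,[29633],[]),(1,[29865,18062],[]),(1,[295,29866],[]),(1,[29865,18060],[]),(1,[29852,29870],[]),(1,[29647],[]),(1,[29875,15019],[]),(1,[3237,29876],[]),(1,[29658],[]),(1,[29881,28856],[]),(1,[8369,29882],[]),(1,[29881,28968],[])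,(1,[29663],[]),(1,[29889,18096],[]),(1,[28540,29890],[]),(1,[29671],[]),(1,[29895,4210],[]),(1,[3857,29896],[]),(1,[29677],[]),(1,[29901,15122],[]),(1,[29227,29902],[]),(1,[29901,15054],[]),(1,[29901,14947],[]),(1,[29683],[]),(1,[29911,18284],[]),(1,[22167,29912],[]),(1,[29911,18038],[]),(1,[29687],[]),(1,[29919,17962],[]),(1,[696,29920],[]),(1,[29693],[]),(1,[29925,18130],[]),(1,[11871,29926],[]),(1,[29698],[]),(1,[29931,12317],[]),(1,[29709],[]),(1,[29935,3242],[]),(1,[27725,29936],[]),(1,[29722],[]),(1,[29941,14379],[]),(1,[4691,29942],[]),(1,[29941,26487],[]),(1,[29941,26485],[]),(1,[29729],[]),(1,[29951,11011],[]),(1,[4449,29952],[]),(1,[29951,11173],[]),(1,[29951,21610],[]),(1,[29743],[]),(1,[29961,21681],[]),(1,[29752],[]),(1,[29965,29713],[]),(1,[29963,29966],[]),(1,[29758],[]),(1,[29971,29639],[]),(1,[29971,29637],[]),(1,[29971,29745],[]),(1,[29971,3687],[]),(1,[1218,29978],[]),(1,[29971,29576],[]),(1,[29971,29578],[]),(1,[29765],[]),(1,[29987,29127],[]),(1,[3613,29988],[]),(1,[29987,3947],[]),(1,[29987,27162],[]),(1,[29987,27164],[]),(1,[29768],[])]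

theorem ok59 : data.stepsOK st59 14750 = true := by decide +kernel

end

end T352
end HN
end H39
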