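import Cfsg.Agent.H39.HN.T352.Data

/-!
Steps of a derivation (generated data).
-/

set_option autoImplicit false
set_option maxRecDepth 100000
set_option linter.all false
set_option Elab.async false

namespace H39
namespace HN
namespace T352

open H93.CosetI

noncomputable section

def st60 : List Step := [(1,[29999,15163],[]),(1,[29999,15164],[]),(1,[329,30002],[]),(1,[29779],[]),(1,[30007,4614],[]),(1,[10463,30008],[]),(1,[29785],[]),(1,[30013,14912],[]),(1,[26573,30014],[]),(1,[29795],[]),(1,[30019,15960],[]),(1,[9120,30020],[]),(1,[29801],[]),(1,[30025,17368],[]),(1,[23670,30026],[]),(1,[30025,17366],[]),(1,[28497,30030],[]),(1,[29839,29807],[]),(1,[30035,6741],[]),(1,[3749,30036],[]),(1,[29813],[]),(1,[30041,16022],[]),(1,[8928,30042],[]),(1,[29837],[]),(1,[30047,11805],[]),(1,[30047,11092],[]),(1,[4429,30050],[]),(1,[29849],[]),(1,[30055,6926],[]),(1,[30055,7191],[]),(1,[30055,6925],[]),(1,[13830,30060],[]),(1,[30055,28438],[]),(1,[30055,2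8440],[]),(1,[29859],[]),(1,[30069,29255],[]),(1,[30069,26539],[]),(1,[29869],[]),(1,[30075,18040],[]),(1,[11837,30076],[]),(1,[29873],[]),(1,[30081,6719],[]),(1,[3971,30082],[]),(1,[29879],[]),(1,[30087,15048],[]),(1,[29704,30088],[]),(1,[30087,3508],[]),(1,[30087,11695],[]),(1,[30087,11693],[]),(1,[29884,29930],[]),(1,[30099,8369],[]),(1,[3511,30100],[]),(1,[29893],[]),(1,[30105,18031],[]),(1,[27669,30106],[]),(1,[29899],[]),(1,[30111,4212],[]),(1,[3664,30112],[]),(1,[29905],[]),(1,[30117,15126],[]),(1,[28981,30118],[]),(1,[29915],[]),(1,[30123,18276],[]),(1,[30123,18099],[]),(1,[29923],[]),(1,[30129,17964],[]),(1,[30129,18081],[]),(1,[29929],[]),(1,[30135,18132],[]),(1,[12828,30136],[]),(1,[29938],[]),(1,[30141,27727],[]),(1,[30141,27725],[]),(1,[30141,3782],[]),(1,[30141,27228],[]),(1,[3245,30148],[]),(1,[30141,29421],[]),(1,[30141,29419],[]),(1,[29944],[]),(1,[30157,4691],[]),(1,[29954],[]),(1,[30161,4449],[]),(1,[29968],[]),(1,[30165,29963]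,[]),(1,[29981],[]),(1,[30169,28918],[]),(1,[29990],[]),(1,[30173,3518],[]),(1,[30131,30174],[]),(1,[30005],[]),(1,[30179,15166],[]),(1,[26628,30180],[]),(1,[30011],[]),(1,[30185,4241],[]),(1,[9857,30186],[]),(1,[30016],[]),(1,[30191,16136],[]),(1,[11175,30192],[]),(1,[30191,26575],[]),(1,[30191,26573],[]),(1,[30023],[]),(1,[30201,15962],[]),(1,[10736,30202],[]),(1,[30029],[]),(1,[30207,17358],[]),(1,[30207,17361],[]),(1,[30032],[]),(1,[30213,28499],[]),(1,[30213,28497],[]),(1,[30039],[]),(1,[30219,6739],[]),(1,[3751,30220],[]),(1,[30045],[]),(1,[30225,16024],[]),(1,[10952,30226],[]),(1,[30053],[]),(1,[30231,9091],[]),(1,[4431,30232],[]),(1,[30231,28903],[]),(1,[30231,28901],[]),(1,[30063],[]),(1,[30241,6923],[]),(1,[1214,30242],[]),(1,[30079],[]),(1,[30247,6722],[]),(1,[28887,30248],[]),(1,[30085],[]),(1,[30253,7132],[]),(1,[30057,30254],[]),(1,[30091],[]),(1,[30259,15010],[]),(1,[30259,15013],[]),(1,[30103],[]),(1,[30265,29886],[]),(1,[3513,302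66],[]),(1,[30265,8370],[]),(1,[30109],[]),(1,[30273,18094],[]),(1,[675,30274],[]),(1,[30115],[]),(1,[30279,4214],[]),(1,[29227,30280],[]),(1,[30120],[]),(1,[30285,28983],[]),(1,[30285,28981],[]),(1,[30139],[]),(1,[30291,18134],[]),(1,[12831,30292],[]),(1,[30151],[]),(1,[30297,3777],[]),(1,[30176],[]),(1,[30301,30133],[]),(1,[30183],[]),(1,[30305,15168],[]),(1,[335,30306],[]),(1,[30189],[]),(1,[30311,4612],[]),(1,[9844,30312],[]),(1,[30195],[]),(1,[30317,16138],[]),(1,[3070,30318],[]),(1,[30205],[]),(1,[30323,15964],[]),(1,[4097,30324],[]),(1,[30223],[]),(1,[30329,7140],[]),(1,[30066,30330],[]),(1,[30229],[]),(1,[30335,16110],[]),(1,[10945,30336],[]),(1,[30335,15940],[]),(1,[17305,30340],[]),(1,[30235],[]),(1,[30345,12993],[]),(1,[30345,29909],[]),(1,[30345,29907],[]),(1,[30245],[]),(1,[30353,28882],[]),(1,[1743,30354],[]),(1,[30353,6921],[]),(1,[30353,27538],[]),(1,[30353,27540],[]),(1,[30250],[]),(1,[30365,14510],[]),(1,[30365,28887],[]),(1,[30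365,28564],[]),(1,[30365,28566],[]),(1,[30256],[]),(1,[30375,30059],[]),(1,[30375,30057],[]),(1,[30375,28768],[]),(1,[30375,30166],[]),(1,[30375,28774],[]),(1,[30375,28776],[]),(1,[30268],[]),(1,[30389,3513],[]),(1,[30277],[]),(1,[30393,18027],[]),(1,[28845,30394],[]),(1,[30283],[]),(1,[30399,4216],[]),(1,[3232,30400],[]),(1,[30295],[]),(1,[30405,18136],[]),(1,[4177,30406],[]),(1,[30309],[]),(1,[30411,15170],[]),(1,[27097,30412],[]),(1,[30315],[]),(1,[30417,4237],[]),(1,[9904,30418],[]),(1,[30321],[]),(1,[30423,16140],[]),(1,[13296,30424],[]),(1,[30327],[]),(1,[30429,16352],[]),(1,[28840,30430],[]),(1,[30333],[]),(1,[30435,6735],[]),(1,[3970,30436],[]),(1,[30339],[]),(1,[30441,16082],[]),(1,[30441,15937],[]),(1,[30342],[]),(1,[30447,17342],[]),(1,[30447,17305],[]),(1,[30365,30357],[]),(1,[30453,6724],[]),(1,[1213,30454],[]),(1,[30453,30366],[]),(1,[1210,30458],[]),(1,[30453,30368],[]),(1,[30453,30370],[]),(1,[30453,30372],[]),(1,[30397],[]),(1,[30469,18025],[]),(1,[3961,30470],[]),(1,[30403],[]),(1,[30475,4218],[]),(1,[13619,30476],[]),(1,[30409],[]),(1,[30481,18138],[]),(1,[12360,30482],[]),(1,[30415],[]),(1,[30487,15172],[]),(1,[5061,30488],[]),(1,[30421],[]),(1,[30493,4610],[]),(1,[2921,30494],[]),(1,[30427],[])]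

theorem ok60 : data.stepsOK st60 15000 = true := by decide +kernel

def st61 : List Step := [(1,[30499,16142],[]),(1,[13304,30500],[]),(1,[30433],[]),(1,[30505,16181],[]),(1,[28837,30506],[]),(1,[30439],[]),(1,[30511,6733],[]),(1,[3968,30512],[]),(1,[30457],[]),(1,[30517,6726],[]),(1,[30359,30518],[]),(1,[30461],[]),(1,[30523,28287],[]),(1,[1741,30524],[]),(1,[30523,28152],[]),(1,[30523,14512],[]),(1,[30523,14517],[]),(1,[30473],[]),(1,[30535,18023],[]),(1,[28837,30536],[]),(1,[30479],[]),(1,[30541,4220],[]),(1,[28249,30542],[]),(1,[30485],[]),(1,[30547,18140],[]),(1,[1079,30548],[]),(1,[30491],[]),(1,[30553,15174],[]),(1,[22852,30554],[]),(1,[30497],[]),(1,[30559,4233],[]),(1,[11174,30560],[]),(1,[30503],[]),(1,[30565,16144],[]),(1,[12202,30566],[]),(1,[30509],[]),(1,[30571,16362],[]),(1,[22850,30572],[]),(1,[30515],[]),(1,[30577,6731],[]),(1,[29613,30578],[]),(1,[30520],[]),(1,[30583,29613],[]),(1,[30583,30359],[]),(1,[30583,8933],[]),(1,[305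83,8931],[]),(1,[30527],[]),(1,[30593,12945],[]),(1,[1206,30594],[]),(1,[30593,3535],[]),(1,[30593,28292],[]),(1,[30593,28294],[]),(1,[30539],[]),(1,[30605,18092],[]),(1,[30605,18021],[]),(1,[30544],[]),(1,[30611,12539],[]),(1,[30611,12537],[]),(1,[30611,24579],[]),(1,[4223,30616],[]),(1,[30611,28249],[]),(1,[30611,24591],[]),(1,[30611,24589],[]),(1,[30551],[]),(1,[30627,18142],[]),(1,[13014,30628],[]),(1,[30557],[]),(1,[30633,15176],[]),(1,[30607,30634],[]),(1,[30563],[]),(1,[30639,4231],[]),(1,[29956,30640],[]),(1,[30569],[]),(1,[30645,16146],[]),(1,[395,30646],[]),(1,[30575],[]),(1,[30651,16177],[]),(1,[22853,30652],[]),(1,[30581,30582],[]),(1,[30657,6729],[]),(1,[30596],[]),(1,[30661,1206],[]),(1,[30619],[]),(1,[30665,22166],[]),(1,[30665,22168],[]),(1,[30665,27593],[]),(1,[4225,30670],[]),(1,[30665,29916],[]),(1,[30631],[]),(1,[30677,18144],[]),(1,[13011,30678],[]),(1,[30677,28537],[]),(1,[1201,30682],[]),(1,[30636],[]),(1,[30687,18019],[]),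(1,[9856,30688],[]),(1,[30687,30609],[]),(1,[30687,30607],[]),(1,[30642],[]),(1,[30697,4694],[]),(1,[30697,4447],[]),(1,[30697,30163],[]),(1,[4228,30702],[]),(1,[30697,29956],[]),(1,[30697,29958],[]),(1,[30649],[]),(1,[30711,16148],[]),(1,[12175,30712],[]),(1,[30655],[]),(1,[30717,16360],[]),(1,[5420,30718],[]),(1,[30672],[]),(1,[30723,4225],[]),(1,[30681],[]),(1,[30727,27695],[]),(1,[30727,27693],[]),(1,[30685],[]),(1,[30733,28528],[]),(1,[30733,28530],[]),(1,[30733,1230],[]),(1,[30733,28999],[]),(1,[30691],[]),(1,[30743,18017],[]),(1,[1361,30744],[]),(1,[30705],[]),(1,[30749,4670],[]),(1,[30749,4375],[]),(1,[30749,13299],[]),(1,[30749,21108],[]),(1,[30749,21110],[]),(1,[30715],[]),(1,[30761,16150],[]),(1,[11721,30762],[]),(1,[30721],[]),(1,[30767,16173],[]),(1,[27096,30768],[]),(1,[30747],[]),(1,[30773,18015],[]),(1,[12956,30774],[]),(1,[30765],[]),(1,[30779,16152],[]),(1,[3484,30780],[]),(1,[30771],[]),(1,[30785,16171],[]),(1,[337,30786],[]),(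1,[30777],[]),(1,[30791,18090],[]),(1,[1189,30792],[]),(1,[30783],[]),(1,[30797,16154],[]),(1,[12854,30798],[]),(1,[30789],[]),(1,[30803,16169],[]),(1,[24048,30804],[]),(1,[30795],[]),(1,[30809,18011],[]),(1,[12965,30810],[]),(1,[30801],[]),(1,[30815,16156],[]),(1,[13447,30816],[]),(1,[30807],[]),(1,[30821,16358],[]),(1,[30821,16167],[]),(1,[30813],[]),(1,[30827,18088],[]),(1,[30752,30828],[]),(1,[30819],[]),(1,[30833,16158],[]),(1,[13425,30834],[]),(1,[30831],[]),(1,[30839,18007],[]),(1,[4229,30840],[]),(1,[30837],[]),(1,[30845,16160],[]),(1,[3465,30846],[]),(1,[30843],[]),(1,[30851,18084],[]),(1,[30699,30852],[]),(1,[30851,29985],[]),(1,[30709,30856],[]),(1,[30851,29983],[]),(1,[30849],[]),(1,[30863,16162],[]),(1,[13528,30864],[]),(1,[30855],[]),(1,[30869,29819],[]),(1,[30869,29817],[]),(1,[30858],[]),(1,[30875,30709],[]),(1,[30867],[]),(1,[30879,16164],[]),(1,[3386,30880],[]),(1,[30883],[]),(1,[30885,30825],[]),(1,[30885,30823],[])]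

theorem ok61 : data.stepsOK st61 15250 = true := by decide +kernel

end

end T352
end HN
end H39
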