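import Cfsg.Agent.H39.HN.T352.Data

/-!
Steps of a derivation (generated data).
-/

set_option autoImplicit false
set_option maxRecDepth 100000
set_option linter.all false
set_option Elab.async false

namespace H39
namespace HN
namespace T352

open H93.CosetI

noncomputable section

def st8 : List Step := [(0,[],[]),(12,[37,3166,3326,3313,3169,3326,3313,3327,3474,3476,3990,3992,3994,3996,3998,4000],[3909]),(9,[],[3909]),(0,[],[]),(3,[3705,4006],[42,44,46]),(0,[],[]),(0,[],[]),(0,[],[]),(0,[],[]),(0,[],[]),(0,[],[]),(0,[],[]),(0,[],[]),(0,[],[]),(0,[],[]),(0,[],[]),(0,[],[]),(0,[],[]),(6,[3705,3868,3701,3866,3697,4028,4030,4032,4034],[3575,3571,3569,3567,3565,3563]),(0,[],[]),(0,[],[]),(0,[],[]),(0,[],[]),(0,[],[]),(0,[],[]),(0,[],[]),(0,[],[]),(0,[],[]),(0,[],[]),(0,[],[]),(0,[],[]),(0,[],[]),(0,[],[]),(0,[],[]),(0,[],[]),(0,[],[]),(0,[],[]),(0,[],[])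,(0,[],[]),(0,[],[]),(0,[],[]),(0,[],[]),(7,[3705,4006,4008,48,4038,4056,4058,4060,4062,4064,4066,4068,4070,4072,4074,4076,4078,4080,4082],[3575,3571,3569,3567]),(0,[],[]),(0,[],[]),(0,[],[]),(0,[],[]),(0,[],[]),(0,[],[]),(2,[4010],[]),(6,[47,4010,4012,4014,4016,4018],[145,50,147,54,151,2862,3097,3095,3093,3091]),(1,[4100],[]),(1,[4103,4019],[]),(1,[4103,4020],[]),(1,[3088,4106],[]),(1,[4109],[]),(1,[4111,4022],[]),(11,[2667,3910],[3135]),(9,[3910],[]),(11,[3105,4004],[3335]),(11,[],[3055,2665,4117]),(2,[],[4104]),(4,[3089,3162,3085,3160,3084,3086,3088,4122,4017],[4104,4017,4015]),(1,[4124],[]),(1,[4127,4015],[]),(1,[4127,4016],[]),(2,[3990],[]),(2,[],[4037]),(2,[4028],[]),(4,[3719,3878],[3833,44,4099,4012,4128,4013,4011,45,3721,3719]),(1,[4139],[]),(1,[4141,3717],[]),(1,[4141,3718],[]),(3,[3877,3712,3714,4144,4086],[]),(2,[3922],[]),(9,[3942],[]),(2,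[3950],[]),(2,[3954],[]),(2,[3958],[]),(9,[3974],[]),(2,[3982],[]),(2,[3986],[]),(2,[4000],[]),(2,[4024],[]),(2,[4056],[]),(2,[4050],[]),(2,[4068],[]),(2,[4076],[]),(2,[4096],[]),(0,[],[]),(0,[],[]),(11,[3832,4178,4180],[]),(0,[],[]),(0,[],[]),(0,[],[]),(0,[],[]),(0,[],[]),(0,[],[]),(0,[],[]),(0,[],[]),(0,[],[]),(0,[],[]),(0,[],[]),(0,[],[]),(0,[],[]),(0,[],[]),(0,[],[]),(0,[],[]),(0,[],[]),(0,[],[]),(0,[],[]),(0,[],[]),(0,[],[]),(0,[],[]),(0,[],[]),(0,[],[]),(0,[],[]),(0,[],[]),(0,[],[]),(0,[],[]),(0,[],[]),(0,[],[]),(0,[],[]),(0,[],[]),(0,[],[]),(0,[],[]),(0,[],[]),(0,[],[]),(0,[],[]),(0,[],[]),(0,[],[]),(0,[],[]),(0,[],[]),(0,[],[]),(0,[],[]),(0,[],[]),(13,[3832,4086,4088,4184,4186,4188,4190,4192,4194,4196,4198,4200,4202,4204,4206,4208,4210,4212,4214,4216,4218,4220,4222,4224,4226,4228,4230,4232,4234,4236,4238,4240,4242,4244,4246,4248,4250,4252,4254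,4256,4258,4260,4262,4264,4266,4268,4270],[4183]),(0,[],[]),(0,[],[]),(0,[],[]),(0,[],[]),(0,[],[]),(0,[],[]),(0,[],[]),(0,[],[]),(0,[],[]),(0,[],[]),(8,[44,46,48,4038,4056,4058,4274,4276,4278,4280,4282,4284,4286,4288,4290,4292],[3721,4145,3715]),(0,[],[]),(0,[],[]),(0,[],[]),(6,[43,3470,3553,3624,3549,3622,3545,4296,4298,4300],[3721,4145,4142,3715,4295]),(0,[],[]),(0,[],[]),(0,[],[]),(0,[],[]),(0,[],[]),(0,[],[]),(0,[],[]),(0,[],[]),(0,[],[]),(0,[],[]),(0,[],[]),(0,[],[]),(0,[],[]),(0,[],[]),(12,[44,4010,4304,4306,4308,4310,4312,4314,4316,4318,4320,4322,4324,4326,4328,4330],[4183]),(0,[],[]),(0,[],[]),(0,[],[]),(0,[],[]),(0,[],[]),(0,[],[]),(0,[],[]),(0,[],[]),(0,[],[]),(0,[],[]),(0,[],[]),(0,[],[]),(5,[43,3705,4006,4334,4336,4338,4340,4342,4344,4346,4348,4350,4352,4354,4356],[3721,4145,3715,4295,4303]),(9,[],[4183]),(0,[],[]),(0,[],[]),(0,[],[]),(0,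[],[]),(0,[],[]),(0,[],[]),(0,[],[]),(0,[],[]),(0,[],[]),(0,[],[]),(7,[43,3705,4006,4334,4336,4362,4364,4366,4368,4370,4372,4374,4376,4378,4380],[3721,4145,4142,3715,3713,3876,3807,3805]),(0,[],[]),(0,[],[]),(11,[4010,4384,4386],[]),(0,[],[]),(0,[],[]),(0,[],[]),(0,[],[]),(0,[],[]),(0,[],[]),(0,[],[]),(0,[],[]),(0,[],[]),(0,[],[]),(0,[],[]),(0,[],[]),(0,[],[]),(0,[],[]),(0,[],[]),(0,[],[]),(0,[],[]),(0,[],[]),(0,[],[]),(0,[],[]),(0,[],[]),(0,[],[]),(0,[],[]),(0,[],[]),(0,[],[]),(0,[],[]),(0,[],[]),(0,[],[]),(0,[],[]),(0,[],[]),(0,[],[]),(0,[],[]),(0,[],[]),(0,[],[]),(0,[],[]),(0,[],[]),(0,[],[]),(0,[],[]),(0,[],[]),(0,[],[]),(0,[],[]),(13,[4010,4012,4129,4130,4105,3090,4390,4392,4394,4396,4398,4400,4402,4404,4406,4408,4410,4412,4414,4416,4418,4420,4422,4424,4426,4428,4430,4432,4434,4436,4438,4440,4442,4444,4446,4448,4450,4452,4454,4456,4458,4460,4462,4464,4466,4468,4470],[4389]),(0,[],[]),(0,[],[]),(0,[],[]),(0,[],[]),(0,[],[]),(0,[],[]),(0,[],[]),(0,[],[]),(0,[],[]),(0,[],[]),(0,[],[]),(8,[46,4009,4334,4336,4362,4364,4474,4476,4478,4480,4482,4484,4486,4488,4490,4492,4494],[4099,4304]),(0,[],[])]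

theorem ok8 : data.stepsOK st8 2000 = true := by decide +kernel

def st9 : List Step := [(0,[],[]),(0,[],[]),(0,[],[]),(0,[],[]),(0,[],[]),(6,[45,3832,4086,4088,4184,4186,4188,4498,4500,4502,4504,4506,4508],[4099,4304]),(0,[],[]),(0,[],[]),(0,[],[]),(0,[],[]),(0,[],[]),(0,[],[]),(0,[],[]),(0,[],[]),(0,[],[]),(12,[46,48,50,52,54,3189,3340,4512,4514,4516,4518,4520,4522,4524,4526,4528],[4389]),(0,[],[]),(0,[],[]),(0,[],[]),(0,[],[]),(0,[],[]),(0,[],[]),(0,[],[]),(0,[],[]),(0,[],[]),(0,[],[]),(0,[],[]),(5,[45,43,3705,3868,3701,4532,4534,4536,4538,4540,4542,4544,4546,4548,4550,4552],[4099,4304,4497,4495]),(9,[],[4389]),(0,[],[]),(0,[],[]),(0,[],[]),(0,[],[]),(0,[],[]),(0,[],[]),(0,[],[]),(0,[],[]),(0,[],[]),(0,[],[]),(7,[45,43,3705,3868,3701,3866,3697,3695,3693,4558,4560,4562,4564,4566,4568,4570,4572,4574,4576],[4099,4304,4511,4509]),(0,[],[]),(0,[],[]),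(0,[],[]),(0,[],[]),(4,[46,48,4038,4056,4580,4582,4584,4586],[4099,4304,4511]),(3,[3088,3090,4390,4392],[4112]),(2,[],[4295]),(9,[4178],[]),(2,[],[4383]),(2,[4334],[]),(9,[4384],[]),(2,[4274],[]),(2,[4180],[]),(2,[4498],[]),(9,[4194],[]),(2,[4234],[]),(2,[4238],[]),(2,[4242],[]),(2,[4246],[]),(2,[4250],[]),(9,[4258],[]),(2,[4266],[]),(2,[4270],[]),(2,[4290],[]),(2,[4306],[4511]),(1,[4629],[]),(1,[4631,4510],[]),(1,[4631,4589],[]),(1,[4631,4509],[]),(1,[4309,4636],[]),(1,[4639],[]),(1,[4641,4507],[]),(1,[4641,4579],[]),(1,[4311,4644],[]),(1,[4647],[]),(1,[4649,4577],[]),(2,[],[4642]),(9,[4316],[]),(2,[4320],[]),(2,[4326],[]),(2,[4330],[]),(2,[4362],[]),(2,[4340],[]),(2,[4348],[]),(2,[4354],[]),(2,[4374],[]),(2,[4386],[]),(9,[4394],[]),(2,[4402],[]),(2,[4406],[]),(2,[4410],[]),(2,[4414],[]),(2,[4418],[]),(9,[4426],[]),(2,[4434],[]),(2,[4438],[]),(2,[444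2],[]),(2,[4446],[]),(2,[4466],[]),(2,[4470],[]),(2,[4490],[]),(2,[4494],[]),(2,[4518],[]),(2,[4524],[]),(2,[4570],[]),(2,[4574],[]),(0,[],[]),(0,[],[]),(11,[48,4712,4714],[]),(0,[],[]),(0,[],[]),(0,[],[]),(0,[],[]),(0,[],[]),(0,[],[]),(0,[],[]),(0,[],[]),(0,[],[]),(0,[],[]),(0,[],[]),(0,[],[]),(0,[],[]),(0,[],[]),(8,[4009,4007,3868,3701,3866,3697,4028,4726,4728,4730,4732,4734,4736,4738,4740,4742,4744],[145,50]),(0,[],[]),(0,[],[]),(0,[],[]),(0,[],[]),(0,[],[]),(0,[],[]),(0,[],[]),(0,[],[]),(0,[],[]),(0,[],[]),(0,[],[]),(0,[],[]),(0,[],[]),(0,[],[]),(0,[],[]),(0,[],[]),(5,[47,45,43,3470,3553,4758,4760,4762,4764,4766,4768,4770,4772,4774,4776,4778],[145,50,4747,4745]),(9,[],[4717]),(0,[],[]),(0,[],[]),(0,[],[]),(0,[],[]),(0,[],[]),(0,[],[]),(0,[],[]),(0,[],[]),(0,[],[]),(0,[],[]),(0,[],[]),(7,[47,45,43,3470,3553,3624,3549,4784,4786,4788,4790,4792,4794,4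796,4798,4800,4802,4804],[145,50,147,54,3189]),(0,[],[]),(0,[],[]),(0,[],[]),(0,[],[]),(4,[4009,4334,4336,4362,4808,4810,4812,4814],[145,50,147]),(0,[],[]),(11,[144,4782,4818],[]),(0,[],[]),(0,[],[]),(0,[],[]),(0,[],[]),(3,[4038,4040,4828],[50,4747]),(0,[],[]),(0,[],[]),(0,[],[]),(0,[],[]),(0,[],[]),(0,[],[]),(0,[],[]),(8,[50,4747,4832,4834,4836,4838,4840,4842,4844],[49,4009,4007,3703,3701,3699,3697,4137,4726,4728]),(0,[],[]),(0,[],[]),(0,[],[]),(0,[],[]),(0,[],[]),(0,[],[]),(6,[4038,4056,4058,4274,4718,4848,4850,4852,4854,4856,4858],[49,4009,4599,4748]),(0,[],[]),(0,[],[]),(0,[],[]),(0,[],[]),(0,[],[]),(0,[],[]),(0,[],[]),(0,[],[]),(0,[],[]),(0,[],[]),(0,[],[]),(0,[],[]),(0,[],[]),(0,[],[]),(0,[],[]),(5,[4038,4040,4828,4866,4868,4870,4872,4874,4876,4878,4880,4882,4884,4886,4888,4890],[49,4009,4007,3703]),(9,[4712],[4821]),(1,[4895],[]),(1,[4897,4820]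,[]),(0,[],[]),(0,[],[]),(0,[],[]),(0,[],[]),(0,[],[]),(0,[],[]),(0,[],[]),(0,[],[]),(0,[],[]),(0,[],[]),(0,[],[]),(0,[],[]),(0,[],[]),(0,[],[]),(7,[4038,4040,4828,4866,4868,4900,4902,4904,4906,4908,4910,4912,4914,4916,4918,4920,4922,4924,4926],[49,4009,4599,4748]),(0,[],[]),(0,[],[]),(4,[50,52,4817,4930,4932],[49,4009,4599,4336,4663,4808]),(2,[4862],[]),(3,[4532],[3700,4893,4891,4889]),(3,[4012,4130,4822,4824],[4304,4497]),(1,[4940],[]),(1,[4943,4825],[]),(1,[4943,4826],[]),(3,[4718,4720,4722],[4276,4278]),(3,[4336,4338],[4748,4929,4927]),(9,[4946],[]),(2,[4848],[]),(9,[4724],[]),(2,[4730],[4847]),(1,[4959],[]),(1,[4961,4846],[]),(1,[4961,4845],[]),(1,[4733,4964],[]),(1,[4967],[]),(1,[4969,4843],[]),(1,[4735,4970],[]),(1,[4973],[]),(1,[4975,4841],[]),(2,[4736],[4976]),(1,[4979],[]),(1,[4981,4977],[]),(1,[4981,4839],[]),(1,[4739,4984],[]),(1,[4987],[]),(1,[4989,4837],[]),(2,[4740],[4990]),(1,[4993],[]),(1,[4995,4991],[]),(1,[4995,4835],[])]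

theorem ok9 : data.stepsOK st9 2250 = true := by decide +kernel

def st10 : List Step := [(1,[4743,4998],[]),(1,[5001],[]),(1,[5003,4833],[]),(2,[4750],[4861]),(1,[5007],[]),(1,[5009,4859],[]),(1,[4753,5010],[]),(1,[5013],[]),(1,[5015,4857],[]),(2,[],[5016]),(2,[4760],[]),(2,[4768],[]),(2,[4774],[]),(2,[4800],[]),(2,[4804],[]),(2,[4810],[4935]),(1,[5031],[]),(1,[5033,4934],[]),(1,[5033,4933],[]),(1,[4813,5036],[]),(1,[5039],[]),(1,[5041,4931],[]),(2,[4866],[]),(2,[4852],[]),(2,[4900],[]),(2,[4886],[]),(2,[4912],[]),(2,[4920],[]),(2,[4924],[]),(0,[],[]),(0,[],[]),(11,[52,5058,5060],[]),(0,[],[]),(0,[],[]),(0,[],[]),(0,[],[]),(0,[],[]),(0,[],[]),(0,[],[]),(0,[],[]),(0,[],[]),(0,[],[]),(0,[],[]),(0,[],[]),(0,[],[]),(0,[],[]),(0,[],[]),(0,[],[]),(0,[],[]),(0,[],[]),(0,[],[]),(0,[],[]),(0,[],[]),(0,[],[]),(0,[],[]),(0,[],[]),(0,[],[]),(0,[],[]),(0,[],[])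,(0,[],[]),(0,[],[]),(0,[],[]),(0,[],[]),(0,[],[]),(0,[],[]),(0,[],[]),(0,[],[]),(0,[],[]),(0,[],[]),(0,[],[]),(0,[],[]),(0,[],[]),(0,[],[]),(0,[],[]),(0,[],[]),(0,[],[]),(13,[52,4817,5043,5064,5066,5068,5070,5072,5074,5076,5078,5080,5082,5084,5086,5088,5090,5092,5094,5096,5098,5100,5102,5104,5106,5108,5110,5112,5114,5116,5118,5120,5122,5124,5126,5128,5130,5132,5134,5136,5138,5140,5142,5144,5146,5148,5150],[5063]),(0,[],[]),(0,[],[]),(0,[],[]),(0,[],[]),(0,[],[]),(0,[],[]),(0,[],[]),(0,[],[]),(8,[4747,4831,4866,4868,4900,4902,5154,5156,5158,5160,5162,5164,5166,5168],[147,54,3189,3187,4512]),(0,[],[]),(0,[],[]),(0,[],[]),(0,[],[]),(0,[],[]),(0,[],[]),(0,[],[]),(0,[],[]),(0,[],[]),(0,[],[]),(0,[],[]),(0,[],[]),(0,[],[]),(12,[4747,5005,4781,5172,5174,5176,5178,5180,5182,5184,5186,5188,5190,5192,5194,5196],[5063]),(0,[],[]),(0,[],[]),(0,[],[]),(0,[],[]),(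0,[],[]),(0,[],[]),(0,[],[]),(0,[],[]),(0,[],[]),(5,[51,4038,4040,4042,4044,4046,5200,5202,5204,5206,5208,5210,5212,5214,5216],[147,54,3189,3187,3185]),(9,[],[5063]),(0,[],[]),(0,[],[]),(0,[],[]),(0,[],[]),(0,[],[]),(0,[],[]),(0,[],[]),(0,[],[]),(7,[51,4038,4040,4042,4044,5222,5224,5226,5228,5230,5232,5234,5236],[147,54,151,2862,1354,1356,2923,1360,2925,1364]),(0,[],[]),(0,[],[]),(4,[4747,5005,4743,4996,5240,5242],[147,54,151,58,155]),(0,[],[]),(11,[146,5220,5246],[]),(0,[],[]),(0,[],[]),(0,[],[]),(0,[],[]),(0,[],[]),(0,[],[]),(0,[],[]),(0,[],[]),(0,[],[]),(0,[],[]),(0,[],[]),(0,[],[]),(0,[],[]),(0,[],[]),(0,[],[]),(0,[],[]),(0,[],[]),(0,[],[]),(0,[],[]),(0,[],[]),(0,[],[]),(0,[],[]),(0,[],[]),(0,[],[]),(0,[],[]),(0,[],[]),(0,[],[]),(0,[],[]),(0,[],[]),(0,[],[]),(0,[],[]),(0,[],[]),(0,[],[]),(0,[],[]),(0,[],[]),(0,[],[]),(0,[],[]),(0,[],[]),(0,[],[]),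(13,[146,51,144,47,4010,4012,4130,4822,5250,5252,5254,5256,5258,5260,5262,5264,5266,5268,5270,5272,5274,5276,5278,5280,5282,5284,5286,5288,5290,5292,5294,5296,5298,5300,5302,5304,5306,5308,5310,5312,5314,5316,5318,5320,5322,5324,5326],[5249]),(0,[],[]),(3,[4817,5330],[54,3189,4807]),(0,[],[]),(0,[],[]),(0,[],[]),(0,[],[]),(0,[],[]),(0,[],[]),(0,[],[]),(0,[],[]),(8,[54,3189,3340,4512,5334,5336,5338,5340,5342,5344,5346,5348],[53,4747,4831,5045,4868,5049,4902]),(0,[],[]),(0,[],[]),(0,[],[]),(0,[],[]),(0,[],[]),(0,[],[]),(6,[4817,5043,5064,5066,5068,5352,5354,5356,5358,5360,5362],[53,4747,4745,4781]),(0,[],[]),(0,[],[]),(0,[],[]),(0,[],[]),(0,[],[]),(0,[],[]),(0,[],[]),(0,[],[]),(0,[],[]),(0,[],[]),(0,[],[]),(12,[54,56,2862,3138,3095,5366,5368,5370,5372,5374,5376,5378,5380,5382,5384,5386],[5249]),(0,[],[]),(0,[],[]),(0,[],[]),(0,[],[]),(0,[],[]),(0,[],[])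,(0,[],[]),(0,[],[]),(0,[],[]),(0,[],[]),(0,[],[]),(0,[],[]),(5,[4817,5330,5332,5028,5390,5392,5394,5396,5398,5400,5402,5404,5406,5408,5410,5412],[53,4747,4831,5045]),(9,[5058],[5249]),(1,[5417],[]),(1,[5419,5247],[]),(1,[5419,5329],[]),(1,[5419,5389],[]),(1,[5419,5248],[]),(0,[],[]),(0,[],[]),(0,[],[]),(0,[],[]),(0,[],[]),(0,[],[]),(0,[],[]),(0,[],[]),(0,[],[]),(0,[],[]),(7,[4817,5330,5332,5028,5390,5428,5430,5432,5434,5436,5438,5440,5442,5444,5446],[53,4747,4745,4781,4779,4777,4775,4773]),(4,[54,56,58,60,5245],[53,4747,4745,4743,4741,5240]),(2,[5334],[5171]),(1,[5452],[]),(1,[5455,5335],[]),(1,[5455,5336],[]),(1,[5168,5458],[]),(1,[5461],[]),(1,[5463,5338],[]),(2,[],[5449]),(2,[5172],[5365]),(1,[5469],[]),(1,[5471,5363],[]),(1,[5175,5472],[]),(1,[5475],[]),(1,[5477,5361],[]),(9,[5250],[]),(3,[4868,4870],[5415,5413,5411]),(2,[5154],[5351]),(1,[5485],[]),(1,[5487,5349],[]),(1,[5157,5488],[]),(1,[5491],[]),(1,[5493,5347],[]),(1,[5159,5494],[]),(1,[5497],[])]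

theorem ok10 : data.stepsOK st10 2500 = true := by decide +kernel

def st11 : List Step := [(1,[5499,5345],[]),(2,[5066],[]),(2,[5352],[]),(9,[5074],[]),(2,[5082],[]),(2,[5086],[]),(2,[5090],[]),(13,[5512,5089,5510,5085,5508,5081,5079,5077,5506,5073,5071,5069,5502,5065,4814,4816,146,51,144,47,4010,4012,4130,4822,5250,5252,5254,5256,5258,5260,5262,5264,5266,5268,5270,5272,5274,5276,5278,5280,5282,5284,5286,5288,5290,5292,5294,5296],[]),(2,[5094],[]),(2,[5098],[]),(9,[5106],[]),(2,[5114],[]),(2,[5118],[]),(2,[5122],[]),(13,[5526,5121,5524,5117,5522,5113,5111,5109,5520,5105,5103,5101,5518,5097,5516,5093,5512,5089,5510,5085,5508,5081,5079,5077,5506,5073,5071,5069,5502,5065,4814,4816,146,51,144,47,4010,4012,4130,4822,5250,5252,5254,5256,5258,5260,5262,5264],[]),(9,[],[5529]),(2,[5146],[]),(2,[5150],[]),(2,[5160],[5500]),(1,[5537],[]),(1,[5539,5501],[]),(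1,[5539,5343],[]),(1,[5163,5542],[]),(1,[5545],[]),(1,[5547,5341],[]),(1,[5165,5548],[]),(1,[5551],[]),(1,[5553,5465],[]),(2,[],[5478]),(2,[5178],[]),(9,[5182],[]),(2,[5186],[]),(2,[5192],[]),(2,[5196],[]),(2,[5208],[]),(2,[5214],[]),(2,[5230],[]),(2,[5234],[]),(11,[5266],[5531,5123]),(2,[5290],[]),(9,[5314],[]),(2,[5322],[]),(2,[5326],[]),(2,[5356],[]),(9,[5372],[]),(2,[5376],[]),(2,[5382],[]),(2,[5386],[]),(2,[5428],[]),(2,[5408],[]),(2,[5436],[]),(2,[5440],[]),(0,[],[]),(0,[],[]),(0,[],[]),(0,[],[]),(0,[],[]),(0,[],[]),(0,[],[]),(0,[],[]),(8,[3189,4807,5028,5390,5428,5430,5604,5606,5608,5610,5612,5614,5616,5618],[151,2862,1354,4937,4864]),(0,[],[]),(0,[],[]),(0,[],[]),(0,[],[]),(0,[],[]),(0,[],[]),(0,[],[]),(0,[],[]),(0,[],[]),(0,[],[]),(0,[],[]),(0,[],[]),(0,[],[]),(5,[55,4817,5330,5622,5624,5626,5628,5630,5632,5634,5636,5638,5640,5642,5644,5646],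[151,2862,1354,4937]),(0,[],[]),(0,[],[]),(0,[],[]),(0,[],[]),(0,[],[]),(0,[],[]),(0,[],[]),(0,[],[]),(0,[],[]),(0,[],[]),(0,[],[]),(0,[],[]),(0,[],[]),(7,[55,4817,5330,5622,5624,5650,5652,5654,5656,5658,5660,5662,5664,5666,5668,5670,5672,5674],[151,2862,3097,3095,5366]),(0,[],[]),(0,[],[]),(0,[],[]),(0,[],[]),(4,[3189,3340,4512,5457,5678,5680,5682,5684],[151,2862,3097]),(0,[],[]),(3,[58,5688],[2862,1354,1356]),(0,[],[]),(0,[],[]),(0,[],[]),(0,[],[]),(0,[],[]),(6,[58,60,62,64,66,5694,5696,5698,5700],[57,3189,3187,3185,3183,3181]),(0,[],[]),(0,[],[]),(0,[],[]),(0,[],[]),(0,[],[]),(0,[],[]),(0,[],[]),(0,[],[]),(0,[],[]),(0,[],[]),(0,[],[]),(5,[58,5688,5690,1358,5704,5706,5708,5710,5712,5714,5716,5718,5720,5722,5724],[57,3189,4807,4805,4803]),(0,[],[]),(0,[],[]),(0,[],[]),(0,[],[]),(0,[],[]),(0,[],[]),(0,[],[]),(0,[],[]),(0,[],[]),(0,[],[]),(7,[58,5688,5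690,1358,5704,5728,5730,5732,5734,5736,5738,5740,5742,5744,5746],[57,3189,3187,3185,5219,5217,5215,5213]),(0,[],[]),(0,[],[]),(4,[2862,3138,5687,5750,5752],[57,3189,3187,4512,5171,5678]),(2,[5694],[]),(2,[],[5703]),(4,[3179,3332,70,3132,71,3176,3178,5758,5701],[5703,5701,5699]),(1,[5760],[]),(1,[5763,5699],[]),(1,[5763,5700],[]),(3,[4802,5390,5392],[5727,5725]),(2,[5692],[5621]),(1,[5770],[]),(1,[5773,5693],[]),(2,[],[5749]),(2,[5622],[]),(2,[5650],[]),(2,[5628],[]),(2,[5636],[]),(2,[5642],[]),(2,[5662],[]),(2,[5670],[]),(2,[5674],[]),(2,[5680],[5755]),(1,[5795],[]),(1,[5797,5753],[]),(1,[5683,5798],[]),(1,[5801],[]),(1,[5803,5751],[]),(2,[5716],[]),(2,[5722],[]),(2,[5736],[]),(2,[5740],[]),(0,[],[]),(0,[],[]),(11,[60,5814,5816],[]),(0,[],[]),(0,[],[]),(0,[],[]),(0,[],[]),(0,[],[]),(0,[],[]),(0,[],[]),(0,[],[]),(0,[],[]),(0,[],[]),(0,[],[]),(0,[],[]),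(0,[],[]),(0,[],[]),(0,[],[]),(0,[],[]),(0,[],[]),(0,[],[]),(0,[],[]),(0,[],[]),(0,[],[]),(0,[],[]),(0,[],[]),(0,[],[]),(0,[],[]),(0,[],[]),(0,[],[]),(0,[],[]),(0,[],[]),(0,[],[]),(0,[],[]),(0,[],[]),(0,[],[]),(0,[],[]),(0,[],[]),(0,[],[]),(0,[],[]),(0,[],[]),(0,[],[]),(0,[],[]),(0,[],[]),(0,[],[]),(0,[],[]),(0,[],[]),(0,[],[]),(0,[],[]),(8,[59,2862,3138,5687,5805,5888,5890,5892,5894,5896,5898,5900,5902,5904,5906,5908,5910],[155,5245]),(0,[],[]),(0,[],[]),(0,[],[]),(0,[],[]),(0,[],[]),(0,[],[]),(0,[],[]),(0,[],[]),(0,[],[]),(0,[],[]),(0,[],[]),(6,[5688,5914,5916,5918,5920,5922,5924,5926,5928,5930,5932,5934],[155,5245,5243]),(0,[],[]),(0,[],[]),(0,[],[]),(0,[],[]),(0,[],[]),(0,[],[]),(0,[],[]),(0,[],[]),(0,[],[]),(0,[],[]),(12,[59,150,3189,3340,3185,5219,5938,5940,5942,5944,5946,5948,5950,5952,5954,5956],[5819]),(0,[],[]),(0,[],[]),(0,[],[]),(0,[],[]),(0,[],[]),(0,[],[]),(0,[],[]),(0,[],[]),(0,[],[]),(0,[],[]),(0,[],[]),(5,[5688,5690,1357,4862,4864,5960,5962,5964,5966,5968,5970,5972,5974,5976,5978,5980],[155,5245,5913,5911]),(9,[],[5819]),(0,[],[]),(0,[],[]),(0,[],[]),(0,[],[]),(0,[],[]),(0,[],[]),(0,[],[])]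

theorem ok11 : data.stepsOK st11 2750 = true := by decide +kernel

end

end T352
end HN
end H39
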