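import Cfsg.Agent.H39.HN.T352.Data

/-!
Steps of a derivation (generated data).
-/

set_option autoImplicit false
set_option maxRecDepth 100000
set_option linter.all false
set_option Elab.async false

namespace H39
namespace HN
namespace T352

open H93.CosetI

noncomputable section

def st12 : List Step := [(0,[],[]),(0,[],[]),(0,[],[]),(0,[],[]),(0,[],[]),(7,[5688,5690,1357,4862,4864,5775,5619,5986,5988,5990,5992,5994,5996,5998,6000,6002,6004,6006,6008],[155,5245,5243,5937]),(0,[],[]),(11,[154,5984,6012],[]),(0,[],[]),(0,[],[]),(0,[],[]),(0,[],[]),(0,[],[]),(0,[],[]),(0,[],[]),(0,[],[]),(0,[],[]),(0,[],[]),(0,[],[]),(0,[],[]),(0,[],[]),(0,[],[]),(0,[],[]),(0,[],[]),(0,[],[]),(0,[],[]),(0,[],[]),(0,[],[]),(0,[],[]),(0,[],[]),(0,[],[]),(0,[],[]),(0,[],[]),(0,[],[]),(0,[],[]),(0,[],[]),(0,[],[]),(0,[],[]),(0,[],[]),(0,[],[]),(0,[],[]),(0,[],[]),(0,[],[]),(0,[],[]),(0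,[],[]),(0,[],[]),(0,[],[]),(0,[],[]),(0,[],[]),(13,[154,5688,5914,5916,5918,5920,6016,6018,6020,6022,6024,6026,6028,6030,6032,6034,6036,6038,6040,6042,6044,6046,6048,6050,6052,6054,6056,6058,6060,6062,6064,6066,6068,6070,6072,6074,6076,6078,6080,6082,6084,6086,6088,6090,6092,6094,6096],[6015]),(0,[],[]),(0,[],[]),(3,[62,6100,6102],[5245,5913]),(0,[],[]),(0,[],[]),(0,[],[]),(0,[],[]),(0,[],[]),(0,[],[]),(0,[],[]),(0,[],[]),(0,[],[]),(0,[],[]),(8,[5245,5913,6106,6108,6110,6112,6114,6116,6118,6120,6122,6124],[61,59,2862,3097,5687,5685,5888]),(0,[],[]),(0,[],[]),(0,[],[]),(0,[],[]),(0,[],[]),(0,[],[]),(0,[],[]),(0,[],[]),(0,[],[]),(0,[],[]),(0,[],[]),(0,[],[]),(0,[],[]),(12,[5245,5450,5937,6128,6130,6132,6134,6136,6138,6140,6142,6144,6146,6148,6150,6152],[6015]),(0,[],[]),(0,[],[]),(0,[],[]),(0,[],[]),(0,[],[]),(0,[],[]),(0,[],[]),(0,[],[]),(5,[62,6100,6102,6156,6158,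6160,6162,6164,6166,6168,6170],[61,59,2862,3097,3095,5366,5677,5675,5673]),(9,[5814],[6015]),(1,[6175],[]),(1,[6177,6013],[]),(1,[6177,6099],[]),(1,[6177,6155],[]),(1,[6177,6014],[]),(0,[],[]),(0,[],[]),(0,[],[]),(0,[],[]),(0,[],[]),(0,[],[]),(0,[],[]),(0,[],[]),(0,[],[]),(0,[],[]),(0,[],[]),(7,[62,6100,6102,6156,6158,6186,6188,6190,6192,6194,6196,6198,6200,6202,6204,6206],[61,59,57,3189,4807,5333,5779]),(3,[],[4738,5240,5937,6011,6009]),(3,[4864,5960],[5649,5647,5645]),(2,[5914],[]),(9,[5822],[]),(2,[5830],[]),(2,[5834],[]),(2,[5838],[]),(13,[6222,5837,6220,5833,6218,5829,5827,5825,6216,5821,5767,5697,5756,67,156,63,154,5688,5914,5916,5918,5920,6016,6018,6020,6022,6024,6026,6028,6030,6032,6034,6036,6038,6040,6042,6044,6046,6048,6050,6052,6054,6056,6058,6060,6062,6064,6066],[]),(9,[],[6225]),(2,[5842],[]),(2,[5846],[]),(9,[5854],[]),(2,[5862],[]),(2,[5866],[]),(2,[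5870],[]),(13,[6238,5869,6236,5865,6234,5861,5859,5857,6232,5853,5851,5849,6230,5845,6228,5841,6222,5837,6220,5833,6218,5829,5827,5825,6216,5821,5767,5697,5756,67,156,63,154,5688,5914,5916,5918,5920,6016,6018,6020,6022,6024,6026,6028,6030,6032,6034],[]),(9,[],[6241]),(9,[5886],[]),(2,[5890],[6127]),(1,[6247],[]),(1,[6249,6125],[]),(1,[5893,6250],[]),(1,[6253],[]),(1,[6255,6123],[]),(1,[5895,6256],[]),(1,[6259],[]),(1,[6261,6121],[]),(2,[5896],[6262]),(1,[6265],[]),(1,[6267,6263],[]),(1,[6267,6119],[]),(1,[5899,6270],[]),(1,[6273],[]),(1,[6275,6117],[]),(1,[5901,6276],[]),(1,[6279],[]),(1,[6281,6115],[]),(2,[5902],[6282]),(1,[6285],[]),(1,[6287,6283],[]),(1,[6287,6113],[]),(1,[5905,6290],[]),(1,[6293],[]),(1,[6295,6111],[]),(2,[5906],[6296]),(1,[6299],[]),(1,[6301,6297],[]),(1,[6301,6109],[]),(1,[5909,6304],[]),(1,[6307],[]),(1,[6309,6107],[]),(2,[5918],[]),(2,[5922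],[]),(2,[5926],[]),(2,[5930],[]),(2,[5934,6128],[]),(1,[6320],[]),(1,[6323,6129],[]),(1,[6323,6130],[]),(1,[5932,6326],[]),(1,[6329],[]),(1,[6331,6132],[]),(9,[5942],[]),(2,[5946],[]),(2,[5952],[]),(2,[5962],[]),(2,[5970],[]),(2,[5976],[]),(2,[5990],[]),(2,[5994],[]),(2,[6002],[]),(2,[6006],[]),(9,[6020],[]),(11,[6036],[6243,5871]),(9,[6052],[]),(11,[6068],[6227,5839]),(2,[6134],[]),(9,[6138],[]),(2,[6142],[]),(2,[6148],[]),(2,[6152],[]),(2,[6170],[]),(2,[6194],[]),(2,[6198],[]),(2,[6206],[]),(0,[],[]),(0,[],[]),(11,[64,6380,6382],[]),(0,[],[]),(0,[],[]),(0,[],[]),(0,[],[]),(0,[],[]),(0,[],[]),(0,[],[]),(0,[],[]),(0,[],[]),(0,[],[]),(0,[],[]),(0,[],[]),(0,[],[]),(0,[],[]),(8,[63,5245,5450,5241,4740,6388,6390,6392,6394,6396,6398,6400,6402,6404,6406,6408,6410,6412],[157]),(0,[],[]),(0,[],[]),(0,[],[]),(0,[],[]),(0,[],[]),(0,[],[]),(0,[],[]),(0,[],[]),(0,[],[]),(0,[]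,[]),(0,[],[]),(0,[],[]),(6,[6100,6416,6418,6420,6422,6424,6426,6428,6430,6432,6434,6436,6438],[157,6415]),(0,[],[]),(0,[],[]),(0,[],[]),(0,[],[]),(0,[],[]),(0,[],[]),(0,[],[]),(0,[],[]),(0,[],[]),(0,[],[]),(0,[],[]),(5,[6100,6102,6104,6311,5909,6442,6444,6446,6448,6450,6452,6454,6456,6458,6460,6462],[157,6415,6413,6411]),(9,[],[6385]),(0,[],[]),(0,[],[]),(0,[],[]),(0,[],[]),(0,[],[]),(0,[],[]),(0,[],[]),(0,[],[]),(0,[],[]),(0,[],[]),(0,[],[]),(0,[],[]),(7,[6100,6102,6104,6311,5909,6302,5905,6468,6470,6472,6474,6476,6478,6480,6482,6484,6486,6488,6490],[157,6415,6441,6439]),(0,[],[]),(0,[],[]),(0,[],[])]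

theorem ok12 : data.stepsOK st12 3000 = true := by decide +kernel

def st13 : List Step := [(0,[],[]),(4,[63,154,5688,5914,6494,6496,6498,6500],[157,6415,6441]),(3,[66,68,70],[6415,6413]),(0,[],[]),(0,[],[]),(0,[],[]),(0,[],[]),(0,[],[]),(0,[],[]),(0,[],[]),(0,[],[]),(0,[],[]),(0,[],[]),(8,[6415,6413,6506,6508,6510,6512,6514,6516,6518,6520,6522,6524],[65,63,5245,5243,5241,4997,6388]),(0,[],[]),(0,[],[]),(0,[],[]),(0,[],[]),(0,[],[]),(5,[66,68,70,3132,6504,6412,6528,6530,6532,6534,6536],[65,63,5245,5243,5937,6011,6009,6007,6005]),(0,[],[]),(0,[],[]),(0,[],[]),(0,[],[]),(0,[],[]),(0,[],[]),(0,[],[]),(0,[],[]),(7,[66,68,70,3132,6504,6506,6508,6540,6542,6544,6546,6548,6550,6552,6554],[65,63,61,59,2862,1354,4937,5649]),(0,[],[]),(0,[],[]),(4,[6415,6528,6530,6558,6560],[65,63,61,5688,6215,6494]),(3,[6388],[4742,4781,4779,4777]),(2,[],[6557]),(3,[6442],[5908,5983,5981,5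979]),(2,[6390],[6527]),(1,[6571],[]),(1,[6573,6525],[]),(1,[6393,6574],[]),(1,[6577],[]),(1,[6579,6523],[]),(1,[6395,6580],[]),(1,[6583],[]),(1,[6585,6521],[]),(2,[6396],[6586]),(1,[6589],[]),(1,[6591,6519],[]),(1,[6399,6592],[]),(1,[6595],[]),(1,[6597,6517],[]),(1,[6401,6598],[]),(1,[6601],[]),(1,[6603,6515],[]),(2,[6402],[6604]),(1,[6607],[]),(1,[6609,6605],[]),(1,[6609,6513],[]),(1,[6405,6612],[]),(1,[6615],[]),(1,[6617,6511],[]),(2,[6406],[6618]),(1,[6621],[]),(1,[6623,6619],[]),(1,[6623,6540],[]),(1,[6623,6509],[]),(1,[6409,6628],[]),(1,[6631],[]),(1,[6633,6507],[]),(3,[6626,6542],[6408,6465,6463,6461]),(1,[6636],[]),(1,[6639,6544],[]),(1,[6639,6543],[]),(2,[6528],[6441]),(1,[6644],[]),(1,[6647,6529],[]),(1,[6647,6530],[]),(1,[6502,6650],[]),(1,[6653],[]),(1,[6655,6558],[]),(1,[6655,6532],[]),(3,[6438,6503,6658,6534],[6493,6491]),(1,[6660],[]),(1,[6663,6536],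[]),(2,[6458,6640],[]),(1,[6666],[]),(1,[6669,6546],[]),(2,[6472],[]),(2,[6484],[]),(2,[6488,6664],[]),(1,[6676],[]),(1,[6679,6538],[]),(2,[6496],[6563]),(1,[6683],[]),(1,[6685,6561],[]),(1,[6499,6686],[]),(1,[6689],[]),(1,[6691,6657],[]),(0,[],[]),(0,[],[]),(11,[5694,6694,6696],[]),(0,[],[]),(0,[],[]),(0,[],[]),(0,[],[]),(0,[],[]),(0,[],[]),(0,[],[]),(0,[],[]),(0,[],[]),(0,[],[]),(0,[],[]),(0,[],[]),(0,[],[]),(0,[],[]),(0,[],[]),(0,[],[]),(0,[],[]),(0,[],[]),(0,[],[]),(0,[],[]),(0,[],[]),(0,[],[]),(0,[],[]),(0,[],[]),(0,[],[]),(0,[],[]),(0,[],[]),(0,[],[]),(0,[],[]),(0,[],[]),(0,[],[]),(0,[],[]),(0,[],[]),(0,[],[]),(0,[],[]),(0,[],[]),(0,[],[]),(0,[],[]),(0,[],[]),(0,[],[]),(0,[],[]),(13,[5694,5696,5765,5766,5702,3180,6700,6702,6704,6706,6708,6710,6712,6714,6716,6718,6720,6722,6724,6726,6728,6730,6732,6734,6736,6738,6740,6742,6744,6746,6748,6750,6752,6754,6756,675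8,6760,6762,6764,6766,6768,6770,6772,6774,6776,6778,6780],[6699]),(0,[],[]),(0,[],[]),(0,[],[]),(0,[],[]),(0,[],[]),(0,[],[]),(0,[],[]),(0,[],[]),(0,[],[]),(0,[],[]),(0,[],[]),(0,[],[]),(0,[],[]),(8,[67,6415,6649,6503,6693,6784,6786,6788,6790,6792,6794,6796,6798,6800,6802,6804,6806,6808],[5757]),(0,[],[]),(0,[],[]),(0,[],[]),(0,[],[]),(0,[],[]),(0,[],[]),(0,[],[]),(0,[],[]),(6,[68,3176,3178,5758,5820,6812,6814,6816,6818,6820,6822,6824,6826],[5757,6811]),(0,[],[]),(0,[],[]),(0,[],[]),(0,[],[]),(0,[],[]),(0,[],[]),(0,[],[]),(0,[],[]),(12,[67,156,63,154,59,2862,3138,5687,6830,6832,6834,6836,6838,6840,6842,6844],[6699]),(0,[],[]),(0,[],[]),(0,[],[]),(0,[],[]),(0,[],[]),(0,[],[]),(0,[],[]),(0,[],[]),(0,[],[]),(0,[],[]),(5,[68,70,6504,6635,6409,6626,6848,6850,6852,6854,6856,6858,6860,6862,6864,6866],[5757,6811,6809,6807]),(9,[],[6699]),(0,[],[]),(0,[],[]),(0,[],[]),(0,[]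,[]),(0,[],[]),(0,[],[]),(0,[],[]),(0,[],[]),(0,[],[]),(0,[],[]),(0,[],[]),(0,[],[]),(7,[68,70,6504,6635,6409,6624,6405,6872,6874,6876,6878,6880,6882,6884,6886,6888,6890,6892,6894],[5757,6811,6829,6827]),(0,[],[]),(0,[],[]),(0,[],[]),(0,[],[]),(4,[67,156,6100,6416,6898,6900,6902,6904],[5757,6811,6829]),(0,[],[]),(0,[],[]),(11,[3176,6908,6910],[]),(0,[],[]),(0,[],[]),(0,[],[]),(0,[],[]),(0,[],[]),(0,[],[]),(0,[],[]),(0,[],[]),(0,[],[]),(0,[],[]),(0,[],[]),(0,[],[]),(0,[],[]),(0,[],[]),(0,[],[]),(0,[],[]),(0,[],[]),(0,[],[]),(0,[],[]),(0,[],[]),(0,[],[]),(0,[],[]),(0,[],[]),(0,[],[]),(0,[],[]),(0,[],[]),(0,[],[]),(0,[],[]),(0,[],[]),(0,[],[]),(0,[],[]),(0,[],[]),(0,[],[]),(0,[],[]),(0,[],[]),(0,[],[]),(0,[],[]),(0,[],[]),(0,[],[]),(0,[],[]),(0,[],[]),(13,[3176,3178,5758,5820,6812,6814,6914,6916,6918,6920,6922,6924,6926,6928,6930,6932,6934,6936,6938,6940,6942,6944,6946,6948,6950,6952,6954,6956,6958,6960,6962,6964,6966,6968,6970,6972,6974,6976,6978,6980,6982,6984,6986,6988,6990,6992,6994],[6913]),(0,[],[])]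

theorem ok13 : data.stepsOK st13 3250 = true := by decide +kernel

def st14 : List Step := [(0,[],[]),(0,[],[]),(0,[],[]),(0,[],[]),(0,[],[]),(0,[],[]),(0,[],[]),(0,[],[]),(0,[],[]),(0,[],[]),(8,[69,67,156,6100,6416,6418,6420,6998,7000,7002,7004,7006,7008,7010,7012,7014,7016,7018],[3333]),(0,[],[]),(0,[],[]),(0,[],[]),(0,[],[]),(0,[],[]),(6,[70,3132,6504,6635,6409,6624,6405,6610,7022,7024,7026,7028,7030],[3333,7021]),(0,[],[]),(0,[],[]),(0,[],[]),(0,[],[]),(0,[],[]),(0,[],[]),(0,[],[]),(0,[],[]),(0,[],[]),(0,[],[]),(0,[],[]),(0,[],[]),(0,[],[]),(0,[],[]),(0,[],[]),(0,[],[]),(5,[70,6504,6412,6649,6503,6658,7046,7048,7050,7052,7054,7056,7058,7060,7062,7064],[3333,7021,7019,7017]),(9,[],[6913]),(4,[69,5694,5696,5765,5697,5756,68,3176,7021],[3333,7021,7033]),(1,[7071],[]),(1,[7073,7032],[]),(1,[7073,7031],[]),(1,[7018,7076],[]),(1,[7079],[]),(1,[7081,7029],[]),(1,[70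16,7082],[]),(1,[7085],[]),(1,[7087,7027],[]),(1,[7066,7088],[]),(1,[7090],[]),(1,[7093,7066],[]),(1,[7093,7065],[]),(3,[3178,3180,6700,6702],[7021,7019]),(1,[7099],[]),(1,[7101,7017],[]),(1,[7101,7018],[]),(9,[6908],[]),(7,[3188,55,4817,5043,5064,5066,5068,5070,5072],[3187,3185,3183,3181,3179,7021,7075,7105,7102,7095,7096,7063,7061,7059]),(2,[7108],[]),(3,[5696,5766,5820,6386],[6811,6809]),(1,[7113],[]),(1,[7115,6807],[]),(1,[7115,6808],[]),(9,[6694],[]),(2,[6812],[]),(2,[],[7116]),(2,[6696],[]),(2,[],[7102]),(2,[6712],[]),(2,[6716],[]),(2,[6720],[]),(2,[6724],[]),(2,[6728],[]),(9,[6736],[]),(2,[6744],[]),(2,[6748],[]),(2,[6752],[]),(9,[6768],[]),(2,[6776],[]),(2,[6780],[]),(2,[6798],[]),(2,[6802],[]),(2,[7034],[6829]),(1,[7158],[]),(1,[7161,7035],[]),(1,[7161,7036],[]),(1,[6826,7164],[]),(1,[7167],[]),(1,[7169,7038],[]),(1,[6896,7170],[]),(1,[7173],[]),(1,[7175,7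040],[]),(2,[6820],[]),(2,[6824],[]),(2,[6840],[]),(2,[6844],[]),(2,[6910],[]),(9,[6918],[]),(2,[6926],[]),(2,[6930],[]),(2,[6934],[]),(2,[7008],[]),(2,[7012],[]),(9,[7044],[]),(2,[7060],[]),(0,[],[]),(0,[],[]),(0,[],[]),(0,[],[]),(0,[],[]),(0,[],[]),(0,[],[]),(0,[],[]),(0,[],[]),(0,[],[]),(0,[],[]),(0,[],[]),(0,[],[]),(0,[],[]),(0,[],[]),(0,[],[]),(0,[],[]),(0,[],[]),(0,[],[]),(0,[],[]),(0,[],[]),(0,[],[]),(0,[],[]),(0,[],[]),(0,[],[]),(0,[],[]),(0,[],[]),(0,[],[]),(0,[],[]),(0,[],[]),(13,[3132,6504,6635,6409,6624,6405,6872,6874,7204,7206,7208,7210,7212,7214,7216,7218,7220,7222,7224,7226,7228,7230,7232,7234,7236,7238,7240,7242,7244,7246,7248,7250,7252,7254,7256,7258,7260,7262],[159,2232,2347,11,106,108,166,168,825,969]),(0,[],[]),(0,[],[]),(12,[71,3176,7021,7074,7105,6703,7266,7268],[159,74,2243,109,106,10,12,453,172]),(0,[],[]),(0,[],[]),(0,[],[]),(5,[6504,6412,6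414,156,6100,6102,6156,6158,6160,7272,7274,7276],[3133,71,69,5757,6811,7119,6387,7123]),(0,[],[]),(0,[],[]),(0,[],[]),(0,[],[]),(0,[],[]),(0,[],[]),(0,[],[]),(0,[],[]),(0,[],[]),(0,[],[]),(7,[6504,6412,6414,156,6100,6416,6418,7280,7282,7284,7286,7288,7290,7292,7294,7296,7298],[3133,71,3333,7021,7105,6703]),(0,[],[]),(12,[74,2245,109,107,10,12,170,172,7302],[73,71,3333,7021,7075,7105,6703,7301]),(11,[2445,7302],[7271]),(12,[173,452,14,16,18,2462,236,2583,136,3189,3340,4512],[7271,7269,7267,6701,3339,5219]),(1,[7309],[]),(1,[7311,5938],[]),(1,[5456,7312],[]),(1,[7311,5218],[]),(1,[7311,5217],[]),(1,[4512,7318],[]),(1,[7315],[]),(1,[7323,5940],[]),(1,[5168,7324],[]),(1,[7321],[]),(1,[7329,5570],[]),(1,[3187,7330],[]),(1,[7327],[]),(1,[7335,5942],[]),(1,[7335,6335],[]),(1,[7333],[]),(1,[7341,5213],[]),(1,[4806,7342],[]),(1,[7345],[]),(1,[7347,5776],[]),(1,[5029,7348],[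]),(1,[7347,5211],[]),(1,[5332,7352],[]),(1,[7351],[]),(1,[7357,5747],[]),(1,[4802,7358],[]),(1,[7354],[]),(1,[7363,5622],[]),(1,[5569,7364],[]),(1,[7363,5332],[]),(1,[7363,5331],[]),(1,[7361],[]),(1,[7373,5745],[]),(1,[5726,7374],[]),(1,[7367],[]),(1,[7379,5624],[]),(1,[7379,6209],[]),(1,[5206,7382],[]),(1,[7377],[]),(1,[7387,5743],[]),(1,[5724,7388],[]),(1,[7385],[]),(1,[7393,6378],[]),(1,[7391],[]),(1,[7397,5812],[]),(1,[5809,7398],[]),(1,[7401],[]),(1,[7403,5739],[]),(1,[5720,7404],[]),(1,[7407],[]),(1,[7409,5810],[]),(1,[7409,5737],[]),(9,[7302],[7271]),(1,[7414],[]),(1,[7417,7306],[]),(1,[7417,7304],[]),(1,[7268,7420],[]),(1,[7417,7303],[]),(1,[7423],[]),(1,[7427,7299],[]),(8,[3181,3179,3332,70,3132,6504,6635,6465,6463],[3339,7317,4513,3341,3188,151,58,155,5245,5913,5911]),(1,[7430],[]),(1,[7433,6462],[]),(1,[5908,7434],[]),(1,[7433,6461],[]),(1,[5982,7438],[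]),(1,[7437],[]),(1,[7443,6464],[]),(1,[6443,7444],[]),(1,[7441],[]),(1,[7449,6459],[]),(1,[7449,6642],[]),(1,[5980,7452],[]),(1,[7446],[]),(1,[7457,6444],[]),(1,[6411,7458],[]),(1,[7457,6568],[]),(1,[6408,7462],[]),(1,[7457,6443],[]),(1,[7455],[]),(1,[7469,6848],[]),(1,[7461],[]),(1,[7473,6446],[]),(1,[6413,7474],[]),(1,[7464],[]),(1,[7479,6624],[]),(1,[6345,7480],[]),(1,[7479,6408],[]),(1,[7477],[]),(1,[7487,6448],[]),(1,[6415,7488],[]),(1,[7483],[]),(1,[7493,6405],[]),(1,[7491],[]),(1,[7497,6450],[])]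

theorem ok14 : data.stepsOK st14 3500 = true := by decide +kernel

def st15 : List Step := [(1,[67,7498],[]),(1,[7501],[]),(1,[7503,6452],[]),(1,[5695,7504],[]),(1,[7507],[]),(1,[7509,6454],[]),(1,[5697,7510],[]),(1,[7513],[]),(1,[7515,6456],[]),(1,[5767,7516],[]),(1,[7519],[]),(1,[7521,7451],[]),(1,[5703,7522],[]),(1,[7521,6670],[]),(1,[5821,7526],[]),(1,[7525],[]),(1,[7531,5982],[]),(1,[3181,7532],[]),(1,[7531,5981],[]),(1,[3178,7536],[]),(1,[7529],[]),(1,[7541,6548],[]),(1,[6813,7542],[]),(1,[7535],[]),(1,[7547,5910],[]),(1,[3183,7548],[]),(1,[7547,5909],[]),(1,[6701,7552],[]),(1,[7539],[]),(1,[7557,7470],[]),(1,[3333,7558],[]),(1,[7557,5979],[]),(1,[7020,7562],[]),(1,[7544],[]),(1,[7567,6813],[]),(1,[7567,6814],[]),(1,[6551,7570],[]),(1,[7567,7279],[]),(1,[7551],[]),(1,[7577,5912],[]),(1,[3185,7578],[]),(1,[7577,6105],[]),(1,[7316,7582],[]),(1,[7554],[]),(1,[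7587,7266],[]),(1,[6303,7588],[]),(1,[7587,6702],[]),(1,[7466,7592],[]),(1,[7587,6701],[]),(1,[7561],[]),(1,[7599,6850],[]),(1,[71,7600],[]),(1,[7564],[]),(1,[7605,7074,7604],[]),(1,[6345,7606],[]),(1,[7605,7020],[]),(1,[7573],[]),(1,[7613,6816],[]),(1,[7613,6914],[]),(1,[6553,7616],[]),(1,[7581],[]),(1,[7621,5450],[]),(1,[3187,7622],[]),(1,[7621,5244],[]),(1,[4513,7626],[]),(1,[7585],[]),(1,[7631,6156],[]),(1,[5456,7632],[]),(1,[7631,6103],[]),(1,[4512,7636],[]),(1,[7591],[]),(1,[7641,7268],[]),(1,[5904,7642],[]),(1,[7641,7428],[]),(1,[7595],[]),(1,[7649,7128],[]),(1,[6411,7650],[]),(1,[7649,6704],[]),(1,[7603],[]),(1,[7657,6852],[]),(1,[6505,7658],[]),(1,[7609],[]),(1,[7663,7610],[]),(1,[7495,7664],[]),(1,[7663,7484],[]),(1,[5974,7668],[]),(1,[7619],[]),(1,[7673,6916],[]),(1,[6555,7674],[]),(1,[7625],[]),(1,[7679,5241],[]),(1,[3189,7680],[]),(1,[7679,5937],[]),(1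,[4806,7684],[]),(1,[7628],[]),(1,[7689,5457],[]),(1,[155,7690],[]),(1,[7689,7316],[]),(1,[63,7694],[]),(1,[7689,4513],[]),(1,[7689,4514],[]),(1,[5815,7700],[]),(1,[7635],[]),(1,[7705,6158],[]),(1,[5168,7706],[]),(1,[7639],[]),(1,[7711,6416],[]),(1,[3187,7712],[]),(1,[7645],[]),(1,[7717,7418,7716],[]),(1,[6289,7718],[]),(1,[7717,7270],[]),(1,[7717,7424],[]),(1,[7653],[]),(1,[7727,7015],[]),(1,[6413,7728],[]),(1,[7727,7095],[]),(1,[6504,7732],[]),(1,[7661],[]),(1,[7737,6854],[]),(1,[6413,7738],[]),(1,[7666],[]),(1,[7743,7495],[]),(1,[7671],[]),(1,[7747,7466],[]),(1,[5972,7748],[]),(1,[7747,7654],[]),(1,[7677],[]),(1,[7755,6918],[]),(1,[7755,7189],[]),(1,[7683],[]),(1,[7761,4740],[]),(1,[57,7762],[]),(1,[7761,4739],[]),(1,[54,7766],[]),(1,[7687],[]),(1,[7771,6325],[]),(1,[5029,7772],[]),(1,[7693],[]),(1,[7777,5169],[]),(1,[5689,7778],[]),(1,[7777,5678],[]),(1,[58,778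2],[]),(1,[7697],[]),(1,[7787,3338],[]),(1,[65,7788],[]),(1,[7787,3184],[]),(1,[7702],[]),(1,[7795,5816],[]),(1,[7795,6178],[]),(1,[7795,6180],[]),(1,[7795,6182],[]),(1,[4517,7802],[]),(1,[7795,6184],[]),(1,[7795,5815],[]),(1,[7709],[]),(1,[7811,6186],[]),(1,[5554,7812],[]),(1,[7811,6160],[]),(1,[7715],[]),(1,[7819,6418],[]),(1,[3189,7820],[]),(1,[7819,6898],[]),(1,[4806,7824],[]),(1,[7721],[]),(1,[7829,6468],[]),(1,[7829,5904],[]),(1,[5900,7832],[]),(1,[7829,7722],[]),(1,[7829,7724],[]),(1,[7731],[]),(1,[7841,7198],[]),(1,[6648,7842],[]),(1,[7735],[]),(1,[7847,7096],[]),(1,[70,7848],[]),(1,[7741],[]),(1,[7853,6856],[]),(1,[6648,7854],[]),(1,[7750],[]),(1,[7859,6342],[]),(1,[6303,7860],[]),(1,[7859,5972],[]),(1,[7765],[]),(1,[7867,6388],[]),(1,[59,7868],[]),(1,[7867,4742],[]),(1,[2863,7872],[]),(1,[7769],[]),(1,[7877,4982],[]),(1,[147,7878],[]),(1,[7877,6210],[]),(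1,[4816,7882],[]),(1,[7775],[]),(1,[7887,5933],[]),(1,[4802,7888],[]),(1,[7780],[]),(1,[7893,5914],[]),(1,[5554,7894],[]),(1,[7893,5690],[]),(1,[7817,7898],[]),(1,[7893,5689],[]),(1,[7785],[]),(1,[7905,5680],[]),(1,[151,7906],[]),(1,[7791],[]),(1,[7911,7597],[]),(1,[67,7912],[]),(1,[7911,3181],[]),(1,[6414,7916],[]),(1,[7805],[]),(1,[7921,6370],[]),(1,[4519,7922],[]),(1,[7815],[]),(1,[7927,6188],[]),(1,[7823],[]),(1,[7931,6420],[]),(1,[57,7932],[]),(1,[7931,7280],[]),(1,[54,7936],[]),(1,[7827],[]),(1,[7941,6900],[]),(1,[5029,7942],[]),(1,[7835],[]),(1,[7947,6303],[]),(1,[7947,7646],[]),(1,[5898,7950],[]),(1,[7845],[]),(1,[7955,7011],[]),(1,[6502,7956],[]),(1,[7851],[]),(1,[7961,7063],[]),(1,[68,7962],[]),(1,[7857],[]),(1,[7967,6858],[]),(1,[6502,7968],[]),(1,[7863,7946],[]),(1,[7973,5969],[]),(1,[5898,7974],[]),(1,[7871],[]),(1,[7979,6564],[]),(1,[7902,7980],[]),(1,[7875],[]),(1,[7985,4744],[]),(1,[3139,7986],[]),(1,[7985,4781],[]),(1,[1355,7990],[]),(1,[7881],[]),(1,[7995,4735],[]),(1,[4746,7996],[])]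

theorem ok15 : data.stepsOK st15 3750 = true := by decide +kernel

end

end T352
end HN
end H39
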