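import Cfsg.Agent.H39.HN.T352.Data

/-!
Steps of a derivation (generated data).
-/

set_option autoImplicit false
set_option maxRecDepth 100000
set_option linter.all false
set_option Elab.async false

namespace H39
namespace HN
namespace T352

open H93.CosetI

noncomputable section

def st16 : List Step := [(1,[7885],[]),(1,[8001,6352],[]),(1,[5042,8002],[]),(1,[7891],[]),(1,[8007,6318],[]),(1,[5027,8008],[]),(1,[8007,6332],[]),(1,[5726,8012],[]),(1,[7897],[]),(1,[8017,5916],[]),(1,[7929,8018],[]),(1,[8017,6494],[]),(1,[5164,8022],[]),(1,[7900],[]),(1,[8027,6162],[]),(1,[1359,8028],[]),(1,[8027,7272],[]),(1,[1356,8032],[]),(1,[8027,7817],[]),(1,[7909],[]),(1,[8039,5682],[]),(1,[54,8040],[]),(1,[7915],[]),(1,[8045,7949],[]),(1,[5695,8046],[]),(1,[8045,7864],[]),(1,[69,8050],[]),(1,[7918],[]),(1,[8055,6649],[]),(1,[5759,8056],[]),(1,[8055,6414],[]),(1,[7925],[]),(1,[8063,615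1],[]),(1,[7935],[]),(1,[8067,6998],[]),(1,[2863,8068],[]),(1,[7939],[]),(1,[8073,7282],[]),(1,[4816,8074],[]),(1,[7945],[]),(1,[8079,6902],[]),(1,[5391,8080],[]),(1,[7953],[]),(1,[8085,7297],[]),(1,[5896,8086],[]),(1,[7959],[]),(1,[8091,7196],[]),(1,[6692,8092],[]),(1,[7965],[]),(1,[8097,7202],[]),(1,[5695,8098],[]),(1,[7971],[]),(1,[8103,6860],[]),(1,[6659,8104],[]),(1,[7977],[]),(1,[8109,5967],[]),(1,[7982],[]),(1,[8113,5555],[]),(1,[5025,8114],[]),(1,[8113,8037],[]),(1,[4777,8118],[]),(1,[8113,7902],[]),(1,[8113,7336],[]),(1,[8113,7338],[]),(1,[7989],[]),(1,[8129,4746],[]),(1,[5686,8130],[]),(1,[8129,4831],[]),(1,[3094,8134],[]),(1,[7993],[]),(1,[8139,5172],[]),(1,[4863,8140],[]),(1,[7999,8128],[]),(1,[8145,4733],[]),(1,[3094,8146],[]),(1,[8005],[]),(1,[8151,6005],[]),(1,[4812,8152],[]),(1,[8011],[]),(1,[8157,5929],[]),(1,[4798,8158],[]),(1,[8015],[]),(1,[8163,6134],[]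),(1,[8163,6363],[]),(1,[8020],[]),(1,[8169,6190],[]),(1,[8169,7929],[]),(1,[8025],[]),(1,[8175,6496],[]),(1,[8031],[]),(1,[8179,6164],[]),(1,[5705,8180],[]),(1,[8035],[]),(1,[8185,7274],[]),(1,[4863,8186],[]),(1,[8043],[]),(1,[8191,5888],[]),(1,[4816,8192],[]),(1,[8049],[]),(1,[8197,5900],[]),(1,[5697,8198],[]),(1,[8197,5899],[]),(1,[6810,8202],[]),(1,[8053],[]),(1,[8207,5974],[]),(1,[71,8208],[]),(1,[8207,7752],[]),(1,[7069,8212],[]),(1,[8059],[]),(1,[8217,6503],[]),(1,[5821,8218],[]),(1,[8071],[]),(1,[8223,7000],[]),(1,[1355,8224],[]),(1,[8077],[]),(1,[8229,7284],[]),(1,[5042,8230],[]),(1,[8083],[]),(1,[8235,6904],[]),(1,[5429,8236],[]),(1,[8089],[]),(1,[8241,7295],[]),(1,[8095],[]),(1,[8245,7007],[]),(1,[6498,8246],[]),(1,[8101],[]),(1,[8251,7059],[]),(1,[6810,8252],[]),(1,[8107],[]),(1,[8257,6862],[]),(1,[7047,8258],[]),(1,[8117],[]),(1,[8263,8173],[]),(1,[8263,5165],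[]),(1,[4772,8266],[]),(1,[8120],[]),(1,[8271,4777],[]),(1,[8132],[]),(1,[8275,5686],[]),(1,[8275,6830],[]),(1,[5221,8278],[]),(1,[8137],[]),(1,[8283,4866],[]),(1,[3165,8284],[]),(1,[8283,4829],[]),(1,[5367,8288],[]),(1,[8143],[]),(1,[8293,5174],[]),(1,[5648,8294],[]),(1,[8149],[]),(1,[8299,4962],[]),(1,[3165,8300],[]),(1,[8155],[]),(1,[8305,6350],[]),(1,[5035,8306],[]),(1,[8305,6681],[]),(1,[8161],[]),(1,[8313,6316],[]),(1,[8313,5927],[]),(1,[8183],[]),(1,[8319,6166],[]),(1,[5707,8320],[]),(1,[8189],[]),(1,[8325,7276],[]),(1,[4865,8326],[]),(1,[8195],[]),(1,[8331,5890],[]),(1,[5042,8332],[]),(1,[8201],[]),(1,[8337,7830],[]),(1,[5767,8338],[]),(1,[8337,7836],[]),(1,[8337,7838],[]),(1,[8204],[]),(1,[8347,7163],[]),(1,[6269,8348],[]),(1,[8347,6810],[]),(1,[8347,7119],[]),(1,[8111,8354],[]),(1,[8211],[]),(1,[8359,7745],[]),(1,[8214],[]),(1,[8363,7186],[]),(1,[8363,6911],[]),(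1,[8363,6997],[]),(1,[8363,6912],[]),(1,[8221],[]),(1,[8373,6693],[]),(1,[7568,8374],[]),(1,[8373,6658],[]),(1,[6387,8378],[]),(1,[8227],[]),(1,[8383,7002],[]),(1,[4863,8384],[]),(1,[8233],[]),(1,[8389,7286],[]),(1,[5065,8390],[]),(1,[8239],[]),(1,[8395,6906],[]),(1,[8249],[]),(1,[8399,7005],[]),(1,[8255,8346],[]),(1,[8403,7110],[]),(1,[6269,8404],[]),(1,[8260],[]),(1,[8409,7047],[]),(1,[8269],[]),(1,[8413,8176],[]),(1,[5467,8414],[]),(1,[8413,5163],[]),(1,[4770,8418],[]),(1,[8281],[]),(1,[8423,6832],[]),(1,[5198,8424],[]),(1,[8287],[]),(1,[8429,4868],[]),(1,[4391,8430],[]),(1,[8290],[]),(1,[8435,5368],[]),(1,[4043,8436],[]),(1,[8435,5367],[]),(1,[8435,5677],[]),(1,[4040,8442],[]),(1,[8296],[]),(1,[8447,6566],[]),(1,[5557,8448],[]),(1,[8447,5648],[]),(1,[8447,5647],[]),(1,[5177,8454],[]),(1,[8303],[]),(1,[8459,4729],[]),(1,[4391,8460],[]),(1,[8309],[]),(1,[8465,6001],[]),(1,[8323],[]),(1,[8469,6168],[]),(1,[8329],[]),(1,[8473,7575],[]),(1,[5961,8474],[]),(1,[8335],[]),(1,[8479,5892],[]),(1,[4812,8480],[]),(1,[8341],[]),(1,[8485,6470],[]),(1,[5821,8486],[]),(1,[8351],[]),(1,[8491,8397],[]),(1,[5894,8492],[]),(1,[8491,6827],[]),(1,[8243,8496],[])]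

theorem ok16 : data.stepsOK st16 4000 = true := by decide +kernel

def st17 : List Step := [(1,[8357],[]),(1,[8501,7124],[]),(1,[8501,7116],[]),(1,[8501,6387],[]),(1,[5964,8506],[]),(1,[8376],[]),(1,[8511,6550],[]),(1,[6785,8512],[]),(1,[8381,8500],[]),(1,[8517,8411],[]),(1,[8503,8518],[]),(1,[8387],[]),(1,[8523,8401],[]),(1,[4865,8524],[]),(1,[8393],[]),(1,[8529,7288],[]),(1,[5067,8530],[]),(1,[8406],[]),(1,[8535,5895],[]),(1,[8535,8242],[]),(1,[5072,8538],[]),(1,[8417],[]),(1,[8421],[]),(1,[8545,5540],[]),(1,[5023,8546],[]),(1,[8427],[]),(1,[8551,6834],[]),(1,[5567,8552],[]),(1,[8433],[]),(1,[8557,4900],[]),(1,[8557,5049],[]),(1,[8557,4870],[]),(1,[4393,8562],[]),(1,[8439],[]),(1,[8567,5370],[]),(1,[4045,8568],[]),(1,[8445],[]),(1,[8573,5792],[]),(1,[4057,8574],[]),(1,[8451],[]),(1,[8579,6555],[]),(1,[5358,8580],[]),(1,[8579,7756],[]),(1,[8579,7758],[]),(1,[8457],[]),(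1,[8589,5645],[]),(1,[8463],[]),(1,[8593,4727],[]),(1,[4393,8594],[]),(1,[8511,8477],[]),(1,[8599,6784],[]),(1,[6213,8600],[]),(1,[8483],[]),(1,[8605,8537],[]),(1,[8311,8606],[]),(1,[8489],[]),(1,[8611,6472],[]),(1,[8611,6673],[]),(1,[8495,8604],[]),(1,[8617,5596],[]),(1,[5035,8618],[]),(1,[8617,5430],[]),(1,[4813,8622],[]),(1,[8498],[]),(1,[8627,7293],[]),(1,[6896,8628],[]),(1,[8508],[]),(1,[8633,6340],[]),(1,[8613,8634],[]),(1,[8633,5964],[]),(1,[8514],[]),(1,[8641,6786],[]),(1,[7615,8642],[]),(1,[8521],[]),(1,[8647,6864],[]),(1,[6804,8648],[]),(1,[8543,8527],[]),(1,[8653,5448],[]),(1,[5774,8654],[]),(1,[8653,5447],[]),(1,[4864,8658],[]),(1,[8533],[]),(1,[8663,7290],[]),(1,[5069,8664],[]),(1,[8627,8541],[]),(1,[8669,7180],[]),(1,[8669,6825],[]),(1,[8549],[]),(1,[8675,5159],[]),(1,[8555],[]),(1,[8679,6836],[]),(1,[8565],[]),(1,[8683,4872],[]),(1,[8683,5482],[]),(1,[4591,8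686],[]),(1,[8571],[]),(1,[8691,5372],[]),(1,[8691,5589],[]),(1,[8577],[]),(1,[8697,5673],[]),(1,[4581,8698],[]),(1,[8583],[]),(1,[8703,6553],[]),(1,[8596],[]),(1,[8707,8684],[]),(1,[4137,8708],[]),(1,[8707,4590],[]),(1,[4031,8712],[]),(1,[8707,4393],[]),(1,[8707,4394],[]),(1,[8707,4675],[]),(1,[8641,8603],[]),(1,[8723,7614],[]),(1,[5787,8724],[]),(1,[8723,8705],[]),(1,[8590,8728],[]),(1,[8608],[]),(1,[8733,8311],[]),(1,[8733,6487],[]),(1,[5072,8736],[]),(1,[8621],[]),(1,[8741,5392],[]),(1,[4808,8742],[]),(1,[8741,5391],[]),(1,[8467,8746],[]),(1,[8625],[]),(1,[8751,5432],[]),(1,[5065,8752],[]),(1,[8631],[]),(1,[8636],[]),(1,[8759,8615],[]),(1,[8759,8613],[]),(1,[8759,6474],[]),(1,[6213,8764],[]),(1,[8644],[]),(1,[8769,6818],[]),(1,[8651],[]),(1,[8773,6866],[]),(1,[8656],[]),(1,[8777,5620],[]),(1,[8777,5774],[]),(1,[8777,5619],[]),(1,[4773,8782],[]),(1,[8661],[]),(1,[8787,5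445],[]),(1,[8452,8788],[]),(1,[8757,8667],[]),(1,[8793,7176],[]),(1,[5353,8794],[]),(1,[8689],[]),(1,[8799,5598],[]),(1,[4025,8800],[]),(1,[8701],[]),(1,[8805,5790],[]),(1,[4583,8806],[]),(1,[8805,6173],[]),(1,[8711],[]),(1,[8813,4874],[]),(1,[3694,8814],[]),(1,[8714],[]),(1,[8819,4032],[]),(1,[4025,8820],[]),(1,[8819,4031],[]),(1,[8769,8727],[]),(1,[8827,8770],[]),(1,[8827,6788],[]),(1,[5640,8830],[]),(1,[8731],[]),(1,[8835,5586],[]),(1,[5179,8836],[]),(1,[8835,5358],[]),(1,[5176,8840],[]),(1,[8739],[]),(1,[8845,6674],[]),(1,[8671,8846],[]),(1,[8745],[]),(1,[8851,5394],[]),(1,[4663,8852],[]),(1,[8851,5768],[]),(1,[4365,8856],[]),(1,[8748],[]),(1,[8861,8467],[]),(1,[8861,5999],[]),(1,[4802,8864],[]),(1,[8755],[]),(1,[8869,5434],[]),(1,[8767],[]),(1,[8873,6476],[]),(1,[5787,8874],[]),(1,[8785],[]),(1,[8879,5986],[]),(1,[8265,8880],[]),(1,[8791],[]),(1,[8885,5443],[]),(1,[5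177,8886],[]),(1,[8797],[]),(1,[8891,7042],[]),(1,[5355,8892],[]),(1,[8803],[]),(1,[8897,5407],[]),(1,[8809],[]),(1,[8901,5669],[]),(1,[8817],[]),(1,[8905,4876],[]),(1,[3692,8906],[]),(1,[8823],[]),(1,[8911,4034],[]),(1,[4027,8912],[]),(1,[8833],[]),(1,[8917,6790],[]),(1,[5638,8918],[]),(1,[8839],[]),(1,[8923,5355],[]),(1,[8843],[]),(1,[8927,5557],[]),(1,[8927,8584],[]),(1,[8927,8586],[]),(1,[8848],[]),(1,[8935,8673],[]),(1,[8935,8671],[]),(1,[8935,6823],[]),(1,[6482,8940],[]),(1,[8855],[]),(1,[8945,5396],[]),(1,[4339,8946],[]),(1,[8859],[]),(1,[8951,5808],[]),(1,[4475,8952],[]),(1,[8951,5724],[]),(1,[4367,8956],[]),(1,[8867],[]),(1,[8961,5997],[]),(1,[5726,8962],[]),(1,[8877],[]),(1,[8967,6478],[]),(1,[8829,8968],[]),(1,[8883],[]),(1,[8973,5988],[]),(1,[8171,8974],[]),(1,[8889],[]),(1,[8979,5602],[]),(1,[5179,8980],[]),(1,[8895,8922],[]),(1,[8985,7044],[]),(1,[8985,7201],[]),(1,[8909],[]),(1,[8991,4878],[]),(1,[8915],[]),(1,[8995,4036],[]),(1,[8995,4135],[])]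

theorem ok17 : data.stepsOK st17 4250 = true := by decide +kernel

def st18 : List Step := [(1,[8921],[]),(1,[9001,6792],[]),(1,[5785,9002],[]),(1,[8943],[]),(1,[9007,7178],[]),(1,[9007,6821],[]),(1,[8949],[]),(1,[9013,5398],[]),(1,[4951,9014],[]),(1,[8955],[]),(1,[9019,5721],[]),(1,[4477,9020],[]),(1,[8959],[]),(1,[9025,8164],[]),(1,[9025,8166],[]),(1,[9025,5726],[]),(1,[4369,9030],[]),(1,[8965,9024],[]),(1,[9035,6348],[]),(1,[9027,9036],[]),(1,[8970],[]),(1,[9041,9011],[]),(1,[9041,9009],[]),(1,[9041,8829],[]),(1,[8976],[]),(1,[9049,6192],[]),(1,[9049,8171],[]),(1,[8983],[]),(1,[9055,5439],[]),(1,[8925,9056],[]),(1,[9005],[]),(1,[9061,6794],[]),(1,[9017],[]),(1,[9065,5400],[]),(1,[4927,9066],[]),(1,[9023],[]),(1,[9071,7410],[]),(1,[9071,7412],[]),(1,[9071,5719],[]),(1,[4479,9076],[]),(1,[9033],[]),(1,[9081,4802],[]),(1,[9038],[]),(1,[9085,9029],[]),(1,[9085,9027],[]),(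1,[9085,6136],[]),(1,[9059],[]),(1,[9093,5600],[]),(1,[5505,9094],[]),(1,[9069],[]),(1,[9099,5402],[]),(1,[9079],[]),(1,[9103,5806],[]),(1,[4481,9104],[]),(1,[9097],[]),(1,[9109,8871],[]),(1,[5068,9110],[]),(1,[9107],[]),(1,[9115,5715],[]),(1,[9112],[]),(1,[9119,5067],[]),(1,[9119,5068],[]),(5,[3188,55,4817,5043,5064,9122,5352,8925,5180],[3187,7793,63,61,59,2862,1354,4937,8453,5176,5559,8924]),(1,[9125],[]),(1,[9127,5504],[]),(1,[9127,5353],[]),(1,[9127,8925],[]),(12,[3200],[3331,3169,3167,35,33,31,1990,2673,2676,149,2862,3097,8277,51,49,47,4099]),(1,[9135],[]),(1,[9137,4098],[]),(1,[9137,4011],[]),(1,[9137,4012],[]),(1,[3200,9142],[]),(1,[9137,4304],[]),(1,[3203,9146],[]),(1,[9137,4384],[]),(1,[9137,4601],[]),(1,[9145],[]),(1,[9155,4130],[]),(1,[9149],[]),(1,[9159,4633],[]),(1,[9159,4497],[]),(1,[3205,9162],[]),(1,[9165],[]),(1,[9167,4702],[]),(1,[3207,9168],[]),(1,[9167,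4944],[]),(1,[9167,4946],[]),(1,[9167,4953],[]),(1,[9171],[]),(1,[9179,4493],[]),(1,[9179,4555],[]),(1,[3209,9182],[]),(1,[9185],[]),(1,[9187,4553],[]),(12,[3548,3550,3552,3574,42,44,9141,3201,3336,3169,3320,36,2967,140,2914,2959,2960],[]),(9,[],[9191]),(8,[3696],[4137,8716,4391,3165,3094,3139,2863,57,3189,4807,4805,8862,4809,4363,4337,4335,4007,3703,3701]),(1,[9195],[]),(1,[9197,3699],[]),(1,[9197,4532],[]),(1,[3696,9200],[]),(1,[9197,3700],[]),(1,[9203],[]),(1,[9207,4534],[]),(1,[4029,9208],[]),(1,[9207,4938],[]),(1,[3694,9212],[]),(1,[9211],[]),(1,[9217,4536],[]),(1,[8824,9218],[]),(1,[9215],[]),(1,[9223,5050],[]),(1,[9223,4887],[]),(1,[9223,4888],[]),(1,[3692,9228],[]),(1,[9221],[]),(1,[9233,4538],[]),(1,[4112,9234],[]),(1,[9231],[]),(1,[9239,4890],[]),(1,[8993,9240],[]),(1,[9237],[]),(1,[9245,4540],[]),(1,[3089,9246],[]),(1,[9243],[]),(1,[9251,4892],[]),(1,[9249],[]),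(1,[9255,4542],[]),(1,[4123,9256],[]),(1,[9259],[]),(1,[9261,4544],[]),(1,[4823,9262],[]),(1,[9264],[]),(1,[9267,9173],[]),(1,[4547,9268],[]),(1,[9267,4823],[]),(1,[9267,5250],[]),(1,[9267,5481],[]),(1,[9270],[]),(1,[9279,4548],[]),(1,[3207,9280],[]),(1,[9279,4547],[]),(1,[9283],[]),(1,[9287,4550],[]),(1,[9181,9288],[]),(1,[9291],[]),(1,[9293,9189],[]),(4,[3696,9199,3697,4028,8716,8558,4902,5154,5156],[4137,8716,8560]),(1,[9296],[]),(1,[9299,5157],[]),(1,[4903,9300],[]),(1,[9299,8677],[]),(1,[9303],[]),(1,[9307,5155],[]),(4,[9204,3702,4006,4334,4748,4750],[9198,9204,3869,4006,4599,4748]),(1,[9310],[]),(1,[9313,4751],[]),(1,[9313,4752],[]),(1,[4928,9316],[]),(1,[9318],[]),(1,[9321,9100],[]),(1,[5019,9322],[]),(1,[9321,4928],[]),(1,[9321,4927],[]),(1,[4755,9328],[]),(1,[9325],[]),(1,[9333,5404],[]),(1,[9331],[]),(1,[9337,5056],[]),(1,[4757,9338],[]),(1,[9337,4951],[]),(1,[93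41],[]),(1,[9345,4923],[]),(8,[9157,3200,9138,45,3832,4086,4088,4090],[4123,3089,4112,4167,4026,8998,3562,3629,4085,4083,4081]),(8,[8824,8716,8558,4902,9309,4904],[4167,8898,9335,5019,9326,9314,4749,4335,4007,3704,3575,3553,4758,5021]),(1,[9350],[]),(1,[9353,4906],[]),(1,[4763,9354],[]),(1,[9353,4905],[]),(1,[9357],[]),(1,[9361,4908],[]),(8,[4039,50,52,4817,5043,5064,9121,5065,4813,5034,4809,4364,4474,4476,9072,5735],[4169,4580,8810,6171]),(1,[9365],[]),(1,[9367,6373],[]),(1,[9367,8471],[]),(1,[5732,9370],[]),(1,[9372],[]),(1,[9375,5732],[]),(1,[9375,5731],[]),(1,[5706,9378],[]),(1,[9381],[]),(1,[9383,5729],[]),(3,[4058,4060,4062],[4580,8810]),(7,[4338,9343,4755,5018,9334],[4663,4808,5035,8735,5073,5071,9129,5181,5179,8590,6213,5961,8779,4771,4769,4767,4765,4763,4761]),(1,[9388],[]),(1,[9391,8899],[]),(1,[9391,9335],[]),(1,[4758,9394],[]),(1,[9397],[]),(1,[9399,5017],[]),(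1,[3625,9400],[]),(1,[9399,4855],[]),(1,[3553,9404],[]),(1,[9403],[]),(1,[9409,9326],[]),(1,[3548,9410],[]),(1,[9409,4754],[]),(1,[9407],[]),(1,[9417,5046],[]),(1,[3575,9418],[]),(1,[9413],[]),(1,[9423,9315,9422],[]),(1,[3623,9424],[]),(1,[9423,4749],[]),(1,[4785,9428],[]),(1,[9421],[]),(1,[9433,4851],[]),(1,[43,9434],[]),(1,[9427],[]),(1,[9439,3547],[]),(1,[9439,4784],[]),(1,[3544,9442],[]),(1,[9439,3548],[]),(1,[9439,9192],[]),(1,[9439,9191],[]),(1,[9430],[]),(1,[9453,4786],[]),(1,[4337,9454],[]),(1,[9437],[]),(1,[9459,4954],[]),(1,[3833,9460],[]),(1,[9453,9445],[]),(1,[9465,4598],[]),(1,[4297,9466],[]),(1,[9465,4336],[]),(1,[3542,9470],[]),(1,[9457],[]),(1,[9475,4788],[]),(1,[4363,9476],[]),(1,[9463],[]),(1,[9481,4720],[]),(1,[4087,9482],[]),(1,[9481,4719],[]),(1,[4144,9486],[]),(1,[9468],[]),(1,[9491,4297],[]),(1,[9491,4298],[]),(1,[4009,9494],[]),(1,[9473],[])]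

theorem ok18 : data.stepsOK st18 4500 = true := by decide +kernel

def st19 : List Step := [(1,[9499,4362],[]),(1,[9499,4663],[]),(1,[9499,4338],[]),(1,[3540,9504],[]),(1,[9479],[]),(1,[9509,4790],[]),(1,[4365,9510],[]),(1,[9485],[]),(1,[9515,4722],[]),(1,[4147,9516],[]),(1,[9489],[]),(1,[9521,4602],[]),(1,[4142,9522],[]),(1,[9497],[]),(1,[9527,4300],[]),(1,[49,9528],[]),(1,[9507],[]),(1,[9533,4665],[]),(1,[9533,9343],[]),(1,[9513],[]),(1,[9539,4792],[]),(1,[4475,9540],[]),(1,[9519],[]),(1,[9545,4948],[]),(1,[3876,9546],[]),(1,[9545,4724],[]),(1,[9545,4957],[]),(1,[9525],[]),(1,[9555,4060],[]),(1,[4145,9556],[]),(1,[9555,4059],[]),(1,[3714,9560],[]),(1,[9531],[]),(1,[9565,4302],[]),(1,[4039,9566],[]),(1,[9565,4359],[]),(1,[51,9570],[]),(1,[9543],[]),(1,[9575,4794],[]),(1,[9549],[]),(1,[9579,4280],[]),(1,[3875,9580],[]),(1,[9559],[]),(1,[9585,4062],[]),(1,[4087,9586],[]),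(1,[9563],[]),(1,[9591,4580],[]),(1,[3712,9592],[]),(1,[9569],[]),(1,[9597,4593],[]),(1,[9597,4293],[]),(1,[4041,9600],[]),(1,[9573],[]),(1,[9605,4357],[]),(1,[8277,9606],[]),(1,[9583],[]),(1,[9611,4282],[]),(1,[3708,9612],[]),(1,[9588],[]),(1,[9617,4088],[]),(1,[4065,9618],[]),(1,[9617,4146],[]),(1,[9387,9622],[]),(1,[9617,4087],[]),(1,[9595],[]),(1,[9629,4582],[]),(1,[3875,9630],[]),(1,[9603],[]),(1,[9635,4626],[]),(1,[4043,9636],[]),(1,[9609],[]),(1,[9641,4668],[]),(1,[3097,9642],[]),(1,[9615],[]),(1,[9647,4284],[]),(1,[3821,9648],[]),(1,[9621],[]),(1,[9653,4184],[]),(1,[4067,9654],[]),(1,[9653,4090],[]),(1,[9624],[]),(1,[9661,9369],[]),(1,[3905,9662],[]),(1,[9661,9387],[]),(1,[9633],[]),(1,[9669,4584],[]),(1,[3708,9670],[]),(1,[9669,8902],[]),(1,[3727,9674],[]),(1,[9639],[]),(1,[9679,4289],[]),(1,[4045,9680],[]),(1,[9645],[]),(1,[9685,4353],[]),(1,[1355,9686],[]),(1,[9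651],[]),(1,[9691,4286],[]),(1,[3903,9692],[]),(1,[9657],[]),(1,[9697,4186],[]),(1,[4069,9698],[]),(1,[9665],[]),(1,[9703,5734],[]),(1,[9703,9377],[]),(1,[3804,9706],[]),(1,[9673],[]),(1,[9711,4586],[]),(1,[3835,9712],[]),(1,[9677],[]),(1,[9717,5667],[]),(1,[3729,9718],[]),(1,[9683],[]),(1,[9689],[]),(1,[9725,4351],[]),(1,[1357,9726],[]),(1,[9723,9695],[]),(1,[9731,5222],[]),(1,[3799,9732],[]),(1,[9731,4046],[]),(1,[3796,9736],[]),(1,[9731,4045],[]),(1,[9731,8692],[]),(1,[9731,8694],[]),(1,[9701],[]),(1,[9747,4188],[]),(1,[4071,9748],[]),(1,[9709],[]),(1,[9753,5708],[]),(1,[4597,9754],[]),(1,[9753,5707],[]),(1,[3802,9758],[]),(1,[9715],[]),(1,[9763,4635],[]),(1,[3477,9764],[]),(1,[9721],[]),(1,[9769,5665],[]),(1,[9729],[]),(1,[9773,4666],[]),(1,[1359,9774],[]),(1,[9735],[]),(1,[9779,5224],[]),(1,[9739],[]),(1,[9783,5200],[]),(1,[3901,9784],[]),(1,[9783,4048],[]),(1,[9751],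[]),(1,[9791,4498],[]),(1,[9791,4607],[]),(1,[9791,4190],[]),(1,[4073,9796],[]),(1,[9757],[]),(1,[9801,5710],[]),(1,[9761],[]),(1,[9805,9385,9804],[]),(1,[1471,9806],[]),(1,[9805,5705],[]),(1,[1468,9810],[]),(1,[9767],[]),(1,[9815,9161],[]),(1,[3991,9816],[]),(1,[9815,4308],[]),(1,[3479,9820],[]),(1,[9777],[]),(1,[9825,4347],[]),(1,[1361,9826],[]),(1,[9787],[]),(1,[9831,5202],[]),(1,[3792,9832],[]),(1,[9799],[]),(1,[9837,4192],[]),(1,[4075,9838],[]),(1,[9808],[]),(1,[9843,1471],[]),(1,[9843,1472],[]),(1,[3803,9846],[]),(1,[9812],[]),(1,[9851,2950],[]),(1,[2923,9852],[]),(1,[9851,1468],[]),(1,[9818],[]),(1,[9859,4132],[]),(1,[9859,3991],[]),(1,[9859,3992],[]),(1,[3202,9864],[]),(1,[9823],[]),(1,[9869,4652],[]),(1,[9869,4642],[]),(1,[9869,4310],[]),(1,[3481,9874],[]),(1,[9829],[]),(1,[9879,4345],[]),(1,[9835],[]),(1,[9883,5204],[]),(1,[3790,9884],[]),(1,[9841],[]),(1,[9889,4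194],[]),(1,[9889,4609],[]),(1,[9848],[]),(1,[9895,4596],[]),(1,[2921,9896],[]),(1,[9895,3804],[]),(1,[1428,9900],[]),(1,[9895,3803],[]),(1,[9855],[]),(1,[9907,1465],[]),(1,[8273,9908],[]),(1,[9867],[]),(1,[9913,3994],[]),(1,[3200,9914],[]),(1,[9877],[]),(1,[9919,4312],[]),(1,[3483,9920],[]),(1,[9919,4650],[]),(1,[9887],[]),(1,[9927,7394],[]),(1,[9927,5206],[]),(1,[3788,9930],[]),(1,[9899],[]),(1,[9935,9802],[]),(1,[3052,9936],[]),(1,[9935,4381],[]),(1,[3070,9940],[]),(1,[9903],[]),(1,[9945,3806],[]),(1,[2949,9946],[]),(1,[9945,9704],[]),(1,[9910],[]),(1,[9953,4775],[]),(1,[9953,8273],[]),(1,[9953,8122],[]),(1,[2918,9958],[]),(1,[9953,8124],[]),(1,[9953,8126],[]),(1,[9917],[]),(1,[9967,3996],[]),(1,[3343,9968],[]),(1,[9923],[]),(1,[9973,4314],[]),(1,[9933],[]),(1,[9977,5208],[]),(1,[9977,5569],[]),(1,[9977,7380],[]),(1,[9939],[]),(1,[9985,5712],[]),(1,[9943],[]),(1,[9989,4379],[]),(1,[9949],[]),(1,[9993,3877],[]),(1,[1424,9994],[]),(1,[9993,9666],[])]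

theorem ok19 : data.stepsOK st19 4750 = true := by decide +kernel

end

end T352
end HN
end H39
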