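import Cfsg.Agent.H39.HN.T352.Data

/-!
Steps of a derivation (generated data).
-/

set_option autoImplicit false
set_option maxRecDepth 100000
set_option linter.all false
set_option Elab.async false

namespace H39
namespace HN
namespace T352

open H93.CosetI

noncomputable section

def st20 : List Step := [(1,[9993,9550],[]),(1,[9993,9552],[]),(1,[9960],[]),(1,[10005,1282],[]),(1,[61,10006],[]),(1,[10005,2918],[]),(1,[10005,1281],[]),(1,[58,10012],[]),(1,[9971],[]),(1,[10017,3998],[]),(1,[9157,10018],[]),(1,[9997],[]),(1,[10023,3874],[]),(1,[2947,10024],[]),(1,[10023,3712],[]),(1,[10009],[]),(1,[10031,1284],[]),(1,[63,10032],[]),(1,[10015],[]),(1,[10037,2194],[]),(1,[151,10038],[]),(1,[10020],[]),(1,[10043,4105],[]),(1,[4001,10044],[]),(1,[10043,9273],[]),(1,[10043,9157],[]),(1,[10027],[]),(1,[10053,3709],[]),(1,[1420,10054],[]),(1,[10053,3726],[]),(1,[10035],[]),(1,[10061,822],[]),(1,[65,10062],[]),(1,[10061,1247],[]),(1,[7793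,10066],[]),(1,[10061,1020],[]),(1,[6467,10070],[]),(1,[10041],[]),(1,[10075,1277],[]),(1,[3188,10076],[]),(1,[10046],[]),(1,[10081,4164],[]),(1,[10081,4001],[]),(1,[10081,4002],[]),(1,[3091,10086],[]),(1,[10057],[]),(1,[10091,3834],[]),(1,[10091,3818],[]),(1,[10091,3820],[]),(1,[1418,10096],[]),(1,[10091,3826],[]),(1,[10091,3707],[]),(1,[10065],[]),(1,[10105,911],[]),(1,[67,10106],[]),(1,[10105,969],[]),(1,[8060,10110],[]),(1,[10105,824],[]),(1,[6381,10114],[]),(1,[10068],[]),(1,[10119,3186],[]),(1,[1759,10120],[]),(1,[10119,7699],[]),(1,[10119,7793],[]),(1,[10072],[]),(1,[10129,6467],[]),(1,[10078],[]),(1,[10133,3188],[]),(1,[10133,4807],[]),(1,[1274,10136],[]),(1,[10089],[]),(1,[10141,4118],[]),(1,[3093,10142],[]),(1,[10141,3989],[]),(1,[4391,10146],[]),(1,[10141,3908],[]),(1,[10141,4005],[]),(1,[10099],[]),(1,[10155,3902],[]),(1,[10155,3799],[]),(1,[10155,9780],[]),(1,[1416,10160],[]),(1,[10109],[]),(1,[10165,1142],[]),(1,[5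695,10166],[]),(1,[10112],[]),(1,[10171,5758],[]),(1,[1161,10172],[]),(1,[10171,8060],[]),(1,[10171,3179],[]),(1,[7264,10178],[]),(1,[10116],[]),(1,[10183,6381],[]),(1,[10133,10123],[]),(1,[10187,10134],[]),(1,[1242,10188],[]),(1,[10187,1275],[]),(1,[10139],[]),(1,[10195,5028],[]),(1,[2193,10196],[]),(1,[10195,7369],[]),(1,[10145],[]),(1,[10203,3280],[]),(1,[8440,10204],[]),(1,[10203,3334],[]),(1,[10203,3279],[]),(1,[10148],[]),(1,[10213,8558],[]),(1,[4163,10214],[]),(1,[10213,4391],[]),(1,[10163],[]),(1,[10221,5226],[]),(1,[10168],[]),(1,[10225,5756],[]),(1,[10225,5695],[]),(1,[10225,5696],[]),(1,[906,10230],[]),(1,[10225,8353],[]),(1,[10225,6694],[]),(1,[10225,7121],[]),(1,[10175],[]),(1,[10241,5820],[]),(1,[10241,5767],[]),(1,[964,10244],[]),(1,[10180],[]),(1,[10249,7264],[]),(1,[10190],[]),(1,[10253,1756],[]),(1,[57,10254],[]),(1,[10253,1242],[]),(1,[10199],[]),(1,[10261,8862],[]),(1,[1270,10262],[]),(1,[10261,9083],[]),(1,[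10206],[]),(1,[10269,4042],[]),(1,[3283,10270],[]),(1,[10269,8440],[]),(1,[10269,4041],[]),(1,[10217],[]),(1,[10279,4902],[]),(1,[3984,10280],[]),(1,[10279,9304],[]),(1,[10233],[]),(1,[10287,5765,10286],[]),(1,[1141,10288],[]),(1,[10287,8342],[]),(1,[10287,8344],[]),(1,[10246,10286],[]),(1,[10297,1158],[]),(1,[1141,10298],[]),(1,[10297,964],[]),(1,[10257],[]),(1,[10305,1239],[]),(1,[59,10306],[]),(1,[10265],[]),(1,[10311,4810],[]),(1,[2191,10312],[]),(1,[10311,4809],[]),(1,[10273],[]),(1,[10319,9741],[]),(1,[3285,10320],[]),(1,[10283],[]),(1,[10325,9309,10324],[]),(1,[4161,10326],[]),(1,[10325,9359],[]),(1,[10291],[]),(1,[10333,905],[]),(1,[10333,10302],[]),(1,[902,10336],[]),(1,[10333,906],[]),(1,[10333,10292],[]),(1,[10333,10294],[]),(1,[10301],[]),(1,[10347,961],[]),(1,[10341,10348],[]),(1,[10309],[]),(1,[10353,1237],[]),(1,[10011,10354],[]),(1,[10315],[]),(1,[10359,4812],[]),(1,[10359,8735],[]),(1,[955,10362],[]),(1,[10323],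[]),(1,[10367,10159],[]),(1,[10367,10157],[]),(1,[10367,3797],[]),(1,[3287,10372],[]),(1,[10367,9742],[]),(1,[10367,9744],[]),(1,[10329],[]),(1,[10381,10330],[]),(1,[3980,10382],[]),(1,[10381,3984],[]),(1,[10339],[]),(1,[10389,966],[]),(1,[10389,1161],[]),(1,[10389,10242],[]),(1,[900,10394],[]),(1,[10351],[]),(1,[10399,959],[]),(1,[10235,10400],[]),(1,[10356],[]),(1,[10405,9954],[]),(1,[10405,9956],[]),(1,[1234,10408],[]),(1,[10405,10011],[]),(1,[10405,9962],[]),(1,[10405,9964],[]),(1,[10365],[]),(1,[10419,5073],[]),(1,[10419,5074],[]),(1,[10419,5507],[]),(1,[10375],[]),(1,[10427,3900],[]),(1,[3289,10428],[]),(1,[10427,9788],[]),(1,[10385],[]),(1,[10435,4761],[]),(1,[10435,4762],[]),(1,[3978,10438],[]),(1,[10397],[]),(1,[10443,8763],[]),(1,[10443,8761],[]),(1,[10443,8638],[]),(1,[898,10448],[]),(1,[10443,6217],[]),(1,[10402],[]),(1,[10455,10235],[]),(1,[10455,8110],[]),(1,[10411],[]),(1,[10461,1358],[]),(1,[10461,2923],[]),(1,[10461,1357],[]),(1,[10431],[]),(1,[10469,3793],[]),(1,[3291,10470],[]),(1,[10441],[]),(1,[10475,9362],[]),(1,[10475,4764],[]),(1,[3976,10478],[]),(1,[10451],[]),(1,[10483,8502],[]),(1,[10483,8504],[]),(1,[10483,10459],[]),(1,[10473],[]),(1,[10491,3791],[]),(1,[10481],[]),(1,[10495,4766],[]),(3,[4342,9881,1361,9856,9905,1429],[])]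

theorem ok20 : data.stepsOK st20 5000 = true := by decide +kernel

def st21 : List Step := [(1,[10499],[]),(1,[10501,9535],[]),(1,[2949,10502],[]),(1,[10501,4342],[]),(1,[9951,10506],[]),(1,[10505],[]),(1,[10511,9536],[]),(1,[1424,10512],[]),(1,[10511,3540],[]),(1,[9999,10516],[]),(1,[10511,3620],[]),(1,[10001,10520],[]),(1,[10508],[]),(1,[10525,9075],[]),(1,[10525,9073],[]),(1,[10525,9951],[]),(1,[10515],[]),(1,[10533,4756],[]),(1,[2947,10534],[]),(1,[10533,9415],[]),(1,[10029,10538],[]),(1,[10518],[]),(1,[10543,4064],[]),(1,[9501,10544],[]),(1,[10543,9999],[]),(1,[10543,9626],[]),(1,[3543,10550],[]),(1,[10522],[]),(1,[10555,10003],[]),(1,[10555,10001],[]),(1,[10537],[]),(1,[10561,9346],[]),(1,[10059,10562],[]),(1,[10540],[]),(1,[10567,9599],[]),(1,[3551,10568],[]),(1,[10567,10029],[]),(1,[10546],[]),(1,[10575,9503],[]),(1,[10575,9501],[]),(1,[10575,4364],[]),(1,[4067,10580],[]),(1,[10575,10317],[]),(1,[9659,10584],[]),(1,[10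553],[]),(1,[10589,3720],[]),(1,[9492,10590],[]),(1,[10589,4178],[]),(1,[10589,4595],[]),(1,[10565],[]),(1,[10599,5054],[]),(1,[10599,4921],[]),(1,[10571],[]),(1,[10605,10277],[]),(1,[4759,10606],[]),(1,[10605,4039],[]),(1,[3553,10610],[]),(1,[10583],[]),(1,[10615,4474],[]),(1,[4069,10616],[]),(1,[10615,4366],[]),(1,[10586],[]),(1,[10623,4092],[]),(1,[2191,10624],[]),(1,[10623,9659],[]),(1,[10623,9348],[]),(1,[1271,10630],[]),(1,[10592],[]),(1,[10635,9492],[]),(1,[10635,4008],[]),(1,[42,10638],[]),(1,[10635,4007],[]),(1,[45,10642],[]),(1,[10608],[]),(1,[10647,10437],[]),(1,[3283,10648],[]),(1,[10647,9392],[]),(1,[10275,10652],[]),(1,[10647,4759],[]),(1,[10612],[]),(1,[10659,3553],[]),(1,[10659,3472],[]),(1,[4713,10662],[]),(1,[10619],[]),(1,[10667,9576],[]),(1,[4071,10668],[]),(1,[10667,4476],[]),(1,[10627],[]),(1,[10675,4094],[]),(1,[10361,10676],[]),(1,[10633],[]),(1,[10681,4079],[]),(1,[10267,10682],[]),(1,[10641],[]),(1,[106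87,48],[]),(1,[10687,145],[]),(1,[10645],[]),(1,[10693,3868],[]),(1,[9140,10694],[]),(1,[10693,3704],[]),(1,[10651],[]),(1,[10701,3979],[]),(1,[3285,10702],[]),(1,[10701,3980],[]),(1,[10655],[]),(1,[10709,4166],[]),(1,[3165,10710],[]),(1,[10709,4026],[]),(1,[3095,10714],[]),(1,[10664],[]),(1,[10719,4898],[]),(1,[10719,4713],[]),(1,[10671],[]),(1,[10725,4796],[]),(1,[4073,10726],[]),(1,[10678],[]),(1,[10731,4814],[]),(1,[4097,10732],[]),(1,[10731,5064],[]),(1,[10731,10361],[]),(1,[10684],[]),(1,[10741,4370],[]),(1,[4175,10742],[]),(1,[10741,10267],[]),(1,[10741,4369],[]),(1,[10697],[]),(1,[10751,9205],[]),(1,[3200,10752],[]),(1,[10751,9253],[]),(1,[3203,10756],[]),(1,[10705],[]),(1,[10761,10476],[]),(1,[10369,10762],[]),(1,[10761,3977],[]),(1,[3287,10766],[]),(1,[10713],[]),(1,[10771,4113],[]),(1,[10218,10772],[]),(1,[10771,8824],[]),(1,[3090,10776],[]),(1,[10717],[]),(1,[10781,8996],[]),(1,[3097,10782],[]),(1,[10729],[]),(1,[107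87,8314],[]),(1,[10787,8316],[]),(1,[10735],[]),(1,[10793,7371],[]),(1,[10793,4816],[]),(1,[10745],[]),(1,[10799,4372],[]),(1,[10755],[]),(1,[10803,3697],[]),(1,[10050,10804],[]),(1,[10759],[]),(1,[10809,4880],[]),(1,[9861,10810],[]),(1,[10809,8993],[]),(1,[3205,10814],[]),(1,[10765],[]),(1,[10819,4910],[]),(1,[1416,10820],[]),(1,[10769],[]),(1,[10825,10496],[]),(1,[10433,10826],[]),(1,[10825,4158],[]),(1,[10774],[]),(1,[10833,4162],[]),(1,[3163,10834],[]),(1,[10833,10218],[]),(1,[10779],[]),(1,[10841,8718],[]),(1,[10841,8720],[]),(1,[10785],[]),(1,[10847,3561],[]),(1,[1355,10848],[]),(1,[10806],[]),(1,[10853,10085],[]),(1,[10853,10083],[]),(1,[10853,10048],[]),(1,[3694,10858],[]),(1,[10853,10050],[]),(1,[10813],[]),(1,[10865,4882],[]),(1,[3476,10866],[]),(1,[10817],[]),(1,[10871,4558],[]),(1,[3207,10872],[]),(1,[10871,3864],[]),(1,[9175,10876],[]),(1,[10823],[]),(1,[10881,4912],[]),(1,[10881,5053],[]),(1,[10829],[]),(1,[10887,4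768],[]),(1,[4051,10888],[]),(1,[10887,10285],[]),(1,[10837],[]),(1,[10895,10387],[]),(1,[3084,10896],[]),(1,[10895,10893],[]),(1,[10851],[]),(1,[10903,3626],[]),(1,[4863,10904],[]),(1,[10861],[]),(1,[10909,9285],[]),(1,[10909,9274],[]),(1,[10909,9276],[]),(1,[10869],[]),(1,[10917,4884],[]),(1,[10875],[]),(1,[10921,4560],[]),(1,[9181,10922],[]),(1,[10878],[]),(1,[10927,9177],[]),(1,[10927,9175],[]),(1,[10891],[]),(1,[10933,4770],[]),(1,[4053,10934],[]),(1,[10899],[]),(1,[10939,10707],[]),(1,[10906],[]),(1,[10943,4936],[]),(1,[10943,4863],[]),(1,[10943,4864],[]),(1,[3556,10948],[]),(1,[10943,8453],[]),(1,[10925],[]),(1,[10955,4562],[]),(1,[4701,10956],[]),(1,[10937],[]),(1,[10961,8778],[]),(1,[10961,8780],[]),(1,[10961,4772],[]),(1,[4055,10966],[]),(1,[10951],[]),(1,[10971,10965],[]),(1,[10971,10963],[]),(1,[10971,5960],[]),(1,[10959],[]),(1,[10979,4564],[]),(1,[4488,10980],[]),(1,[10969],[]),(1,[10985,10407],[]),(1,[10985,8264],[]),(1,[10983],[]),(1,[10991,4566],[]),(5,[9881,1361,9856,9845,9905,1429,2948,1425,10573,9447,9441,3545,3543,10579,4066,10620,10749,4174,10800],[10528,4478]),(1,[10995],[]),(1,[10997,4480],[])]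

theorem ok21 : data.stepsOK st21 5250 = true := by decide +kernel

def st22 : List Step := [(1,[4375,10998],[]),(1,[10997,4479],[]),(1,[11001],[]),(1,[11005,4482],[]),(1,[4377,11006],[]),(1,[11005,9116],[]),(1,[11009],[]),(1,[11013,4484],[]),(1,[9990,11014],[]),(1,[11017],[]),(1,[11019,4486],[]),(1,[3159,11020],[]),(1,[11023],[]),(1,[11025,10992],[]),(1,[11025,4488],[]),(1,[3066,11028],[]),(1,[11031],[]),(1,[11033,4490],[]),(1,[3157,11034],[]),(1,[11037],[]),(1,[11039,9294],[]),(1,[11039,9181],[]),(1,[3062,11042],[]),(1,[11045],[]),(1,[11047,3207],[]),(1,[11047,3208],[]),(1,[3060,11050],[]),(1,[11053],[]),(1,[11055,3210],[]),(1,[3155,11056],[]),(1,[11055,11041],[]),(1,[11059],[]),(1,[11063,3212],[]),(8,[10621,4067,10576,10548,1426,10531,10526,11003,10801,4076,10746,1271,2190,954,956,10489,10484,6805,8774],[9087]),(1,[11066],[]),(1,[11069,6868],[]),(1,[9091,11070],[]),(1,[11069,8775],[]),(1,[5992,11074],[]),(1,[11073],[]),(1,[1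1079,10487],[]),(1,[11079,10485],[]),(1,[11079,6805],[]),(1,[11077],[]),(1,[11087,7156],[]),(1,[6347,11088],[]),(1,[11087,11085],[]),(1,[11091],[]),(1,[11095,6801],[]),(1,[9051,11096],[]),(1,[11099],[]),(1,[11101,7154],[]),(1,[6195,11102],[]),(1,[11105],[]),(1,[11107,6797],[]),(8,[11003,10801,4076,10746,1272,10193,1244,10126,63,154,10413,1235,10462,1360,1362,1364,1366,1368],[10527,10530]),(1,[11111],[]),(1,[11113,2948],[]),(1,[1371,11114],[]),(1,[11113,10531],[]),(1,[11113,1428],[]),(1,[1368,11120],[]),(1,[11117],[]),(1,[11125,1425],[]),(1,[1373,11126],[]),(1,[11125,10549],[]),(1,[11125,10559],[]),(1,[11125,10557],[]),(1,[11122],[]),(1,[11137,2926],[]),(1,[2921,11138],[]),(1,[11137,1368],[]),(1,[11129],[]),(1,[11145,2946],[]),(1,[1375,11146],[]),(1,[11145,10573],[]),(1,[11141],[]),(1,[11153,1365],[]),(1,[3052,11154],[]),(1,[11153,5239],[]),(1,[3070,11158],[]),(1,[11149],[]),(1,[11163,1421],[]),(1,[1377,11164],[]),(1,[11163,10058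],[]),(1,[11156],[]),(1,[11171,9986],[]),(1,[11171,3052],[]),(1,[11161],[]),(1,[11177,5237],[]),(1,[9991,11178],[]),(1,[11167],[]),(1,[11183,10092],[]),(1,[11183,10094],[]),(1,[11183,1419],[]),(1,[1379,11188],[]),(1,[11183,10100],[]),(1,[11183,10102],[]),(1,[11181],[]),(1,[11197,5574],[]),(1,[11197,5235],[]),(1,[11191],[]),(1,[11203,10371],[]),(1,[11203,10369],[]),(1,[11203,1417],[]),(1,[1381,11208],[]),(1,[11211],[]),(1,[11213,10882],[]),(1,[11213,10884],[]),(1,[11213,10222],[]),(1,[11213,2944],[]),(1,[1383,11220],[]),(1,[11223],[]),(1,[11225,1413],[]),(1,[1385,11226],[]),(1,[11229],[]),(1,[11231,1411],[]),(1,[1387,11232],[]),(1,[11235],[]),(1,[11237,1409],[]),(1,[1389,11238],[]),(1,[11241],[]),(1,[11243,2942],[]),(1,[1391,11244],[]),(1,[11247],[]),(1,[11249,1405],[]),(1,[1393,11250],[]),(1,[11253],[]),(1,[11255,2940],[]),(1,[1395,11256],[]),(1,[11259],[]),(1,[11261,1401],[]),(1,[1397,11262],[]),(1,[11265],[]),(1,[11267,3142],[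]),(1,[3153,11268],[]),(1,[11270],[]),(1,[11273,2991],[]),(1,[11273,3148],[]),(1,[11273,3153],[]),(7,[10673,4070,4072,10788],[10527,11119,2929,11130,3542,3544,9440,9446,3625,10661,50,8276,3139,1354,10945,10952,5176,8590,5643,5641]),(1,[11280],[]),(1,[11283,10791],[]),(1,[11283,10789],[]),(1,[11283,5925],[]),(1,[5638,11288],[]),(1,[11291],[]),(1,[11293,6314],[]),(1,[5785,11294],[]),(1,[11297],[]),(1,[11299,6016],[]),(1,[9063,11300],[]),(1,[11299,5921],[]),(1,[5634,11304],[]),(1,[11302],[]),(1,[11309,11109],[]),(1,[6019,11310],[]),(1,[11309,9063],[]),(1,[11307],[]),(1,[11317,6312],[]),(1,[11317,5919],[]),(1,[11313],[]),(1,[11323,6374],[]),(1,[11323,6195],[]),(1,[11323,6196],[]),(4,[11003,4374,4376,11198,5233,5572],[10527,11119,2929,1372,2931,11168]),(1,[11330],[]),(1,[11333,5230],[]),(1,[10601,11334],[]),(1,[11333,5229],[]),(1,[3729,11338],[]),(1,[11337],[]),(1,[11343,5232],[]),(1,[11341],[]),(1,[11347,11219],[]),(1,[9771,11348],[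]),(1,[11350],[]),(1,[11353,5788],[]),(1,[11215,11354],[]),(1,[11353,9771],[]),(1,[11357],[]),(1,[11361,5661],[]),(4,[11027,3068,3070,1338,9904,9845,9905,2920,3071,3158,11026],[]),(6,[4572,4574,9925,3482,9974],[4571,4569,11365,11027,3159,9990,11200,11345,10601,3728,3881]),(1,[11366],[]),(1,[11369,9975],[]),(1,[3733,11370],[]),(1,[11369,4316],[]),(1,[11369,4655],[]),(1,[11372],[]),(1,[11379,3734],[]),(1,[3599,11380],[]),(1,[11379,3733],[]),(1,[11383],[]),(1,[11387,3736],[]),(1,[9925,11388],[]),(1,[11390],[]),(1,[11393,4710],[]),(1,[3739,11394],[]),(1,[11393,9925],[]),(1,[11397],[]),(1,[11401,4573],[]),(3,[],[10919,3476,3478,3480,11399]),(3,[4914,4916,4918,11344],[11362]),(5,[4914,4916,4918,10603,11169,1376,11184,10918,11404,11398,3482,11384],[11215,1381,1379,11186,3476,3478,3480,3599,3484]),(1,[11408],[]),(1,[11411,3880],[]),(1,[3487,11412],[]),(1,[11411,11385],[]),(1,[11411,11374],[]),(1,[11411,11376],[]),(1,[11415],[]),(1,[1142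3,3729],[]),(1,[11423,11359],[]),(1,[3489,11426],[]),(1,[11428],[]),(1,[11431,3490],[]),(1,[11215,11432],[]),(1,[11431,3489],[]),(1,[11431,3862],[]),(1,[1383,11438],[]),(1,[11434],[]),(1,[11443,11217],[]),(1,[11443,11215],[]),(1,[11443,4914],[]),(1,[3493,11448],[]),(1,[11443,11362],[]),(1,[11441],[]),(1,[11455,3860],[]),(1,[11455,3675],[]),(1,[11455,3676],[]),(1,[11451],[]),(1,[11463,4916],[]),(6,[4918,10603,11169,2930,11150,3550,10657,3282,3284,11207,1380,11447,3492,3494,3496,3498],[]),(1,[11467],[]),(1,[11469,4918],[]),(1,[3501,11470],[]),(1,[11469,11465],[]),(1,[11473],[]),(1,[11477,10601],[]),(1,[11477,11344],[]),(1,[3503,11480],[]),(1,[11483],[]),(1,[11485,11199],[]),(1,[11485,11406],[]),(1,[3505,11488],[]),(1,[11491],[]),(1,[11493,5659],[]),(1,[11493,11453],[]),(4,[10737,4096,10794,9981,3788,9928],[9120,10737,4177,10794,9979,3788])]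

theorem ok22 : data.stepsOK st22 5500 = true := by decide +kernel

def st23 : List Step := [(1,[11498],[]),(1,[11501,9929],[]),(1,[11501,6205],[]),(1,[10492,11504],[]),(1,[11507],[]),(1,[11509,6203],[]),(1,[3290,11510],[]),(1,[11513],[]),(1,[11515,6201],[]),(7,[10421,955,10739,4096,10794,9981,9982,5626],[8937,6483,9043,9046,5641,5639,5637,5635,11320,10989,4055,4053,4051,10433,3375,11516]),(1,[11519],[]),(1,[11521,6376],[]),(1,[5629,11522],[]),(1,[11521,11517],[]),(1,[11525],[]),(1,[11529,11329],[]),(11,[8929,8930],[8932]),(5,[10953,3557,10976,10447,899,10488,1156,955,10739,10736,9121,9122,5070,8939],[8928,5176,8590,5643,5641,5639]),(5,[5177,10953,3557,10972,4054,10988,11321,5634,11315,6018,11324],[5559,9133,5181,5179,8590,6213,10977,10974,4053]),(8,[10795,10796,146,51,10691,10699,9141,3202,3204,11049,3062,11061,3154,11064,3214],[9979,3788,10493,3377,3294]),(1,[11538],[]),(1,[11541,3348],[]),(1,[3299,11542],[]),(1,[11541,3216],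[]),(1,[3276,11546],[]),(1,[11545],[]),(1,[11551,11065],[]),(1,[3454,11552],[]),(1,[11548],[]),(1,[11557,3370],[]),(1,[3219,11558],[]),(1,[11557,3276],[]),(1,[11554],[]),(1,[11565,3454],[]),(1,[11561],[]),(1,[11569,3273],[]),(1,[3221,11570],[]),(1,[11573],[]),(1,[11575,3368],[]),(1,[3223,11576],[]),(1,[11579],[]),(1,[11581,3269],[]),(1,[3225,11582],[]),(1,[11585],[]),(1,[11587,3267],[]),(1,[3227,11588],[]),(1,[11591],[]),(1,[11593,3265],[]),(1,[3229,11594],[]),(1,[11597],[]),(1,[11599,3366],[]),(1,[3231,11600],[]),(1,[11603],[]),(1,[11605,3261],[]),(1,[3233,11606],[]),(1,[11609],[]),(1,[11611,3259],[]),(1,[3235,11612],[]),(1,[11615],[]),(1,[11617,3257],[]),(1,[3237,11618],[]),(1,[11621],[]),(1,[11623,3364],[]),(1,[3239,11624],[]),(1,[11627],[]),(1,[11629,3253],[]),(1,[3241,11630],[]),(1,[11633],[]),(1,[11635,3362],[]),(1,[3243,11636],[]),(1,[11639],[]),(1,[11641,3249],[]),(1,[3245,11642],[]),(1,[11645],[]),(1,[11647,3247],[]),(1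,[11647,3584],[]),(1,[3593,11650],[]),(1,[11652],[]),(1,[11655,3393],[]),(1,[11655,3588],[]),(1,[11655,3593],[]),(6,[10201,2192,1271,2190,10739,4096,10794,9981,9982,5650,5652],[9979,3788,11502,10493,3377]),(1,[11662],[]),(1,[11665,5654],[]),(1,[3295,11666],[]),(1,[11665,5653],[]),(1,[11669],[]),(1,[11673,5656],[]),(1,[11562,11674],[]),(1,[11677],[]),(1,[11679,11495],[]),(1,[3219,11680],[]),(1,[11683],[]),(1,[11685,11496],[]),(1,[3221,11686],[]),(1,[11685,3505],[]),(1,[11685,3506],[]),(1,[11685,3609],[]),(1,[11689],[]),(1,[11697,11444],[]),(1,[3223,11698],[]),(1,[11697,3492],[]),(1,[11697,3838],[]),(1,[11697,3837],[]),(1,[11700],[]),(1,[11709,3352],[]),(1,[11709,3223],[]),(1,[11709,3224],[]),(1,[11437,11714],[]),(1,[11716],[]),(1,[11719,3600],[]),(1,[11719,3487],[]),(1,[11719,11424],[]),(1,[3227,11724],[]),(1,[11719,11437],[]),(1,[11727],[]),(1,[11731,11479],[]),(1,[11731,11169],[]),(1,[3229,11734],[]),(1,[11736],[]),(1,[11739,32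29],[]),(1,[11739,3230],[]),(1,[11739,3355],[]),(6,[6018,11324,11536,4170,10901,3086,3088,10857,3695,9224,11404,3738,3740,3742,3744,3746],[]),(1,[11747],[]),(1,[11749,6018],[]),(1,[3749,11750],[]),(1,[11749,11314],[]),(1,[11753],[]),(1,[11757,11324],[]),(1,[11757,11326],[]),(1,[11757,11531],[]),(1,[3751,11762],[]),(1,[11757,6020],[]),(1,[11757,6355],[]),(1,[11765],[]),(1,[11771,5782],[]),(1,[11771,5629],[]),(1,[11771,5630],[]),(1,[3753,11776],[]),(1,[11779],[]),(1,[11781,5632],[]),(11,[],[6139,11082,897]),(12,[9051,5990,11092,11080,898,900,10390,10176,10185,169,2325,2711,230,2766,2487,2769,232,2544],[]),(1,[11787],[]),(1,[11789,11761],[]),(1,[11789,11759],[]),(1,[11789,11536],[]),(1,[11789,9051],[]),(1,[289,11796],[]),(1,[11799],[]),(1,[11801,5990],[]),(1,[11801,6347],[]),(1,[11801,9052],[]),(1,[291,11806],[]),(1,[11809],[]),(1,[11811,11321],[]),(1,[11811,11319],[]),(1,[11811,10989],[]),(1,[293,11816],[]),(1,[11819],[]),(1,[1182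1,10986],[]),(1,[295,11822],[]),(1,[11821,4055],[]),(1,[11825],[]),(1,[11829,1235],[]),(1,[11829,10412],[]),(1,[297,11832],[]),(1,[11829,10414],[]),(1,[11829,10416],[]),(1,[11834],[]),(1,[11841,298],[]),(1,[61,11842],[]),(1,[11841,297],[]),(1,[11845],[]),(1,[11849,300],[]),(1,[10124,11850],[]),(1,[11852],[]),(1,[11855,1758],[]),(1,[303,11856],[]),(1,[11855,10124],[]),(1,[11855,10126],[]),(1,[11859],[]),(1,[11865,10259],[]),(1,[305,11866],[]),(1,[11865,10192],[]),(1,[11868],[]),(1,[11873,306],[]),(1,[57,11874],[]),(1,[11873,305],[]),(1,[11877],[]),(1,[11881,308],[]),(1,[59,11882],[]),(1,[11885],[]),(1,[11887,310],[]),(1,[61,11888],[]),(1,[11891],[]),(1,[11893,312],[]),(1,[63,11894],[]),(1,[11897],[]),(1,[11899,314],[]),(1,[11862,11900],[]),(1,[11903],[]),(1,[11905,316],[]),(1,[11861,11906],[]),(1,[11909],[]),(1,[11911,318],[]),(1,[7808,11912],[]),(1,[11914],[]),(1,[11917,7796],[]),(1,[11917,7798],[]),(1,[11917,7800],[]),(1,[11917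,4516],[]),(1,[321,11924],[]),(1,[11917,7806],[]),(1,[11917,7808],[]),(1,[11927],[]),(1,[11933,4518],[]),(1,[11933,4705],[]),(6,[11534,5784,11755,3886],[8938,5071,9129,5181,5179,8590,5643,5641,11286,4073,9794]),(0,[],[]),(0,[],[]),(11,[2245,11940,11942],[]),(0,[],[]),(0,[],[]),(0,[],[]),(0,[],[]),(0,[],[]),(0,[],[]),(0,[],[]),(0,[],[]),(0,[],[]),(0,[],[]),(0,[],[]),(0,[],[]),(0,[],[]),(0,[],[]),(0,[],[]),(0,[],[]),(0,[],[]),(0,[],[]),(0,[],[]),(0,[],[]),(0,[],[]),(0,[],[]),(0,[],[]),(0,[],[]),(0,[],[]),(0,[],[]),(0,[],[])]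

theorem ok23 : data.stepsOK st23 5750 = true := by decide +kernel

end

end T352
end HN
end H39
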