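import Cfsg.Agent.H39.HN.T352.Data

/-!
Steps of a derivation (generated data).
-/

set_option autoImplicit false
set_option maxRecDepth 100000
set_option linter.all false
set_option Elab.async false

namespace H39
namespace HN
namespace T352

open H93.CosetI

noncomputable section

def st32 : List Step := [(0,[],[]),(0,[],[]),(0,[],[]),(0,[],[]),(0,[],[]),(0,[],[]),(0,[],[]),(0,[],[]),(0,[],[]),(0,[],[]),(0,[],[]),(0,[],[]),(12,[15615,15746,15996,15998,16000,16002,16004,16006,16008,16010,16012,16014,16016,16018,16020,16022],[15941]),(0,[],[]),(0,[],[]),(0,[],[]),(0,[],[]),(0,[],[]),(0,[],[]),(0,[],[]),(0,[],[]),(0,[],[]),(0,[],[]),(0,[],[]),(5,[325,323,321,14434,5092,16026,16028,16030,16032,16034,16036,16038,16040,16042,16044,16046],[589,328,15987,15985]),(0,[],[]),(0,[],[]),(0,[],[]),(0,[],[]),(0,[],[]),(0,[],[]),(0,[],[]),(0,[],[]),(0,[],[]),(0,[],[]),(7,[325,323,321,14434,5092,5094,5096,16050,16052,16054,16056,16058,16060,16062,16064,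16066,16068],[589,328,591,332,14444,3946]),(0,[],[]),(0,[],[]),(0,[],[]),(0,[],[]),(4,[15615,15746,15748,15760,16072,16074,16076,16078],[589,328,591]),(9,[15936],[]),(3,[16081],[332,14444,3946,3948]),(12,[1354,10947,10952,8929,13891,863,13876,9047,15474,15476],[13259,15995,15993,15991,15989,15831,15626]),(2,[15866],[]),(2,[],[16071]),(2,[16086],[]),(2,[15856],[]),(2,[],[15865]),(2,[15988],[]),(2,[15852],[]),(2,[15860],[]),(2,[15890],[]),(2,[15928],[]),(2,[15932],[]),(2,[15938],[]),(9,[15948],[]),(2,[15956],[]),(2,[15960],[]),(2,[15964],[]),(2,[15980],[]),(2,[15984],[]),(2,[15992],[]),(2,[15998],[]),(2,[16042],[]),(0,[],[]),(0,[],[]),(0,[],[]),(0,[],[]),(0,[],[]),(0,[],[]),(0,[],[]),(0,[],[]),(0,[],[]),(0,[],[]),(0,[],[]),(0,[],[]),(0,[],[]),(0,[],[]),(0,[],[]),(0,[],[]),(0,[],[]),(0,[],[]),(0,[],[]),(0,[],[]),(0,[],[]),(0,[],[]),(0,[],[]),(0,[],[]),(0,[],[]),(0,[],[]),(0,[],[]),(3,[15658,15660,16182],[328,15987]),(0,[],[]),(0,[],[]),(0,[]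,[]),(0,[],[]),(6,[15658,15668,15670,15698,15942,16186,16188,16190,16192],[327,15615,15801,15996,16127,16000]),(0,[],[]),(0,[],[]),(0,[],[]),(0,[],[]),(0,[],[]),(0,[],[]),(0,[],[]),(0,[],[]),(0,[],[]),(0,[],[]),(0,[],[]),(0,[],[]),(0,[],[]),(0,[],[]),(0,[],[]),(0,[],[]),(5,[15658,15660,16182,16202,16204,16206,16208,16210,16212,16214,16216,16218,16220,16222,16224,16226],[327,15615,15613,5087]),(0,[],[]),(0,[],[]),(0,[],[]),(0,[],[]),(0,[],[]),(0,[],[]),(0,[],[]),(0,[],[]),(0,[],[]),(0,[],[]),(0,[],[]),(0,[],[]),(0,[],[]),(0,[],[]),(7,[15658,15660,16182,16202,16204,16230,16232,16234,16236,16238,16240,16242,16244,16246,16248,16250,16252,16254,16256],[327,15615,15801,15996]),(0,[],[]),(0,[],[]),(11,[330,16260,16262],[]),(0,[],[]),(0,[],[]),(0,[],[]),(0,[],[]),(0,[],[]),(0,[],[]),(0,[],[]),(0,[],[]),(8,[15987,16185,16202,16204,16230,16232,16266,16268,16270,16272,16274,16276,16278,16280],[591,332,14444,16089,15868]),(0,[],[]),(0,[],[]),(0,[],[]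),(0,[],[]),(0,[],[]),(0,[],[]),(0,[],[]),(0,[],[]),(0,[],[]),(0,[],[]),(5,[329,15658,15660,15662,15664,15666,16284,16286,16288,16290,16292,16294,16296,16298,16300,16302],[591,332,14444,16089]),(9,[],[16265]),(0,[],[]),(0,[],[]),(0,[],[]),(0,[],[]),(0,[],[]),(0,[],[]),(0,[],[]),(0,[],[]),(0,[],[]),(0,[],[]),(0,[],[]),(0,[],[]),(0,[],[]),(7,[329,15658,15660,15662,15664,16308,16310,16312,16314,16316,16318,16320,16322,16324,16326,16328,16330,16332],[591,332,593,15995,16196]),(0,[],[]),(0,[],[]),(4,[15987,16122,15983,16120,16336,16338],[591,332,593,336,595]),(4,[332,334,336,338,16341],[331,15987,15985,15983,15981,16336]),(3,[15888],[5084,16229,16227,16225]),(3,[15748,15750],[15996,16259,16257]),(2,[],[16283]),(13,[16118,15963,16116,15959,16114,15955,15953,15951,16112,15947,15945,15943,15814,15671,15810,15659,588,325,15616,15618,15620,15622,16130,16132,16134,16136,16138,16140,16142,16144,16146,16148,16150,16152,16154,16156,16158,16160,16162,16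164,16166,16168,16170,16172,16174,16176,16178,16180],[]),(9,[],[16351]),(2,[],[16195]),(9,[16134],[]),(9,[16166],[]),(2,[16174],[]),(2,[16178],[]),(2,[16198],[]),(2,[16208],[]),(2,[16216],[]),(2,[16222],[]),(2,[16266],[]),(2,[16254],[]),(2,[16272],[]),(2,[16278],[]),(2,[16328],[]),(2,[16332],[]),(0,[],[]),(0,[],[]),(0,[],[]),(0,[],[]),(0,[],[]),(0,[],[]),(0,[],[]),(0,[],[]),(0,[],[]),(0,[],[]),(0,[],[]),(0,[],[]),(0,[],[]),(8,[14444,3946,16090,16388,16390,16392,16394,16396,16398,16400,16402,16404,16406,16408],[593,15995,16196,16365,16200]),(0,[],[]),(0,[],[]),(12,[14444,15866,16305,16412,16414],[14448,3095,3093,3091,10855,10862,13475,13507,45,12495,349,12538]),(0,[],[]),(0,[],[]),(0,[],[]),(0,[],[]),(0,[],[]),(0,[],[]),(0,[],[]),(0,[],[]),(0,[],[]),(0,[],[]),(0,[],[]),(0,[],[]),(5,[333,16081,16084,3950,16418,16420,16422,16424,16426,16428,16430,16432,16434,16436,16438,16440],[593,15995,16196,16365]),(0,[],[]),(0,[],[]),(0,[],[]),(0,[],[]),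(0,[],[]),(0,[],[]),(0,[],[]),(0,[],[]),(0,[],[]),(0,[],[]),(0,[],[]),(0,[],[]),(0,[],[]),(7,[333,16081,16084,3950,16418,16444,16446,16448,16450,16452,16454,16456,16458,16460,16462,16464,16466,16468],[593,15995,15993,15991,16386]),(0,[],[]),(0,[],[]),(0,[],[]),(0,[],[]),(4,[14444,15866,15868,16348,16472,16474,16476,16478],[593,15995,15993]),(12,[3095,3164,3091,10857,10862,13475,13509,45,12497,349,12536,16417,16415],[14447,14444,16089,16305]),(2,[],[16411]),(2,[16406],[]),(2,[16474],[]),(2,[16478],[]),(0,[],[]),(3,[336,16492],[15995,16196,16335]),(0,[],[]),(0,[],[])]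

theorem ok32 : data.stepsOK st32 8000 = true := by decide +kernel

def st33 : List Step := [(0,[],[]),(0,[],[]),(6,[336,338,340,342,344,16496,16498,16500,16502],[335,14444,16089,16305,16483,16414]),(0,[],[]),(0,[],[]),(11,[338,16506,16508],[]),(0,[],[]),(0,[],[]),(0,[],[]),(0,[],[]),(0,[],[]),(0,[],[]),(0,[],[]),(0,[],[]),(0,[],[]),(0,[],[]),(0,[],[]),(0,[],[]),(0,[],[]),(0,[],[]),(8,[337,15995,16124,16481,16490,16516,16518,16520,16522,16524,16526,16528,16530,16532,16534,16536,16538],[595,16341]),(0,[],[]),(0,[],[]),(0,[],[]),(0,[],[]),(0,[],[]),(0,[],[]),(0,[],[]),(0,[],[]),(0,[],[]),(0,[],[]),(0,[],[]),(6,[16492,16542,16544,16546,16548,16550,16552,16554,16556,16558,16560,16562],[595,16341,16339]),(0,[],[]),(0,[],[]),(0,[],[]),(0,[],[]),(0,[],[]),(0,[],[]),(0,[],[]),(0,[],[]),(0,[],[]),(0,[],[]),(0,[],[]),(5,[16492,16494,16334,16198,16200,16566,16568,16570,16572,16574,16576,16578,16580,16582,16584,16586],[595,16341,16541,16539]),(9,[],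[16511]),(0,[],[]),(0,[],[]),(0,[],[]),(0,[],[]),(0,[],[]),(0,[],[]),(0,[],[]),(0,[],[]),(0,[],[]),(0,[],[]),(0,[],[]),(0,[],[]),(7,[16492,16494,16334,16198,16200,16484,16409,16592,16594,16596,16598,16600,16602,16604,16606,16608,16610,16612,16614],[595,16341,16339,16565]),(2,[16496],[]),(3,[],[15978,16336,16565,16617,16615]),(2,[],[16505]),(2,[16500],[]),(2,[16518],[]),(2,[16524],[]),(2,[16530],[]),(2,[16534],[]),(2,[16538],[]),(2,[16582],[]),(2,[16612],[]),(0,[],[]),(0,[],[]),(3,[340,16640,16642],[16341,16541]),(0,[],[]),(0,[],[]),(0,[],[]),(0,[],[]),(0,[],[]),(0,[],[]),(0,[],[]),(0,[],[]),(5,[340,16640,16642,16646,16648,16650,16652,16654,16656,16658,16660],[339,337,15995,15993,15991,16386,16471,16469,16467]),(0,[],[]),(0,[],[]),(11,[342,16664,16666],[]),(0,[],[]),(0,[],[]),(0,[],[]),(0,[],[]),(0,[],[]),(0,[],[]),(0,[],[]),(0,[],[]),(0,[],[]),(0,[],[]),(0,[],[]),(0,[],[]),(0,[],[]),(0,[],[]),(8,[341,16341,16342,16337,15980,16672,16674,16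676,16678,16680,16682,16684,16686,16688,16690,16692,16694,16696],[597]),(0,[],[]),(0,[],[]),(0,[],[]),(0,[],[]),(0,[],[]),(0,[],[]),(0,[],[]),(0,[],[]),(0,[],[]),(0,[],[]),(0,[],[]),(0,[],[]),(6,[16640,16700,16702,16704,16706,16708,16710,16712,16714,16716,16718,16720,16722],[597,16699]),(0,[],[]),(0,[],[]),(0,[],[]),(0,[],[]),(0,[],[]),(0,[],[]),(0,[],[]),(0,[],[]),(0,[],[]),(0,[],[]),(0,[],[]),(5,[16640,16642,16644,16634,16537,16726,16728,16730,16732,16734,16736,16738,16740,16742,16744,16746],[597,16699,16697,16695]),(9,[],[16669]),(0,[],[]),(0,[],[]),(0,[],[]),(0,[],[]),(0,[],[]),(0,[],[]),(0,[],[]),(0,[],[]),(0,[],[]),(0,[],[]),(0,[],[]),(0,[],[]),(7,[16640,16642,16644,16634,16537,16632,16533,16752,16754,16756,16758,16760,16762,16764,16766,16768,16770,16772,16774],[597,16699,16725,16723]),(0,[],[]),(0,[],[]),(0,[],[]),(0,[],[]),(4,[341,594,16492,16542,16778,16780,16782,16784],[597,16699,16725]),(3,[344,346,348,12488],[16699,16697]),(1,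[16789],[]),(1,[16791,16695],[]),(1,[4270,16792],[]),(1,[16791,16696],[]),(1,[16795],[]),(1,[16799,16693],[]),(1,[4268,16800],[]),(1,[16799,16749],[]),(1,[16803],[]),(1,[16807,16691],[]),(1,[4266,16808],[]),(1,[16811],[]),(1,[16813,16689],[]),(1,[4264,16814],[]),(1,[16817],[]),(1,[16819,16687],[]),(9,[16664],[]),(2,[],[16820]),(3,[16672],[15982,16049,16047,16045]),(3,[16726],[16536,16589,16587,16585]),(2,[16700],[]),(2,[16646],[]),(2,[16652],[]),(2,[16680],[]),(2,[],[16725]),(2,[16716],[]),(2,[16720],[]),(2,[16728],[]),(2,[16736],[]),(2,[16742],[]),(2,[16756],[]),(2,[16772],[]),(2,[16784],[]),(0,[],[]),(0,[],[]),(0,[],[]),(0,[],[]),(0,[],[]),(0,[],[]),(0,[],[]),(0,[],[]),(0,[],[]),(5,[344,346,348,12484,16860,16862,16864,16866,16868,16870,16872],[343,341,16341,16339,16565,16617,16615,16613,16611]),(0,[],[]),(0,[],[]),(0,[],[]),(0,[],[]),(11,[16496,16880,16882],[]),(0,[],[]),(0,[],[]),(0,[],[]),(0,[],[]),(0,[],[]),(0,[],[]),(0,[],[]),(0,[],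[]),(0,[],[]),(0,[],[]),(0,[],[]),(0,[],[]),(0,[],[]),(0,[],[]),(0,[],[]),(8,[345,16699,16838,16787,16854,16890,16892,16894,16896,16898,16900,16902,16904,16906,16908,16910,16912,16914],[16619]),(0,[],[]),(0,[],[]),(0,[],[]),(0,[],[]),(0,[],[]),(0,[],[]),(0,[],[]),(0,[],[]),(6,[346,12536,16417,16622,16670,16918,16920,16922,16924,16926,16928,16930,16932],[16619,16917]),(0,[],[]),(0,[],[]),(0,[],[]),(0,[],[]),(0,[],[]),(0,[],[]),(0,[],[]),(0,[],[]),(0,[],[]),(0,[],[]),(0,[],[]),(0,[],[]),(5,[346,348,12488,4624,4269,16938,16940,16942,16944,16946,16948,16950,16952,16954,16956,16958],[16619,16917,16915,16913]),(9,[],[16885]),(0,[],[]),(0,[],[]),(0,[],[]),(0,[],[]),(0,[],[]),(0,[],[]),(0,[],[]),(0,[],[]),(0,[],[]),(0,[],[]),(7,[346,348,12488,4624,4269,4622,4265,4263,4261,16964,16966,16968,16970,16972,16974,16976,16978,16980,16982],[16619,16917,16935,16933]),(0,[],[]),(0,[],[]),(0,[],[]),(0,[],[]),(4,[345,596,16640,16700,16986,16988,16990,16992],[16619,16917,16935]),(2,[16964],[]),(3,[16938],[4268,16804,16747,16745])]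

theorem ok33 : data.stepsOK st33 8250 = true := by decide +kernel

def st34 : List Step := [(3,[4328,16417,16415,16886,16888],[]),(3,[16498,16512,16514],[16917,16915]),(2,[16876],[]),(2,[16898],[]),(2,[16904],[]),(2,[16908],[]),(2,[16912],[]),(2,[],[16935]),(2,[16922],[]),(2,[16926],[]),(2,[16930],[]),(2,[16948],[]),(2,[16954],[]),(2,[16992],[]),(0,[],[]),(0,[],[]),(11,[12536,17028,17030],[]),(0,[],[]),(0,[],[]),(0,[],[]),(0,[],[]),(0,[],[]),(0,[],[]),(0,[],[]),(0,[],[]),(0,[],[]),(0,[],[]),(0,[],[]),(8,[347,345,596,16640,16700,16702,16704,17038,17040,17042,17044,17046,17048,17050,17052,17054],[12538,4329,17001]),(0,[],[]),(0,[],[]),(0,[],[]),(0,[],[]),(0,[],[]),(0,[],[]),(6,[348,12484,16860,16876,16878,17058,17060,17062,17064,17066,17068],[12538,4329,4327,4325]),(0,[],[]),(0,[],[]),(0,[],[]),(0,[],[]),(0,[],[]),(0,[],[]),(0,[],[]),(0,[],[]),(0,[],[]),(0,[],[]),(12,[347,16496,16917,17014,16933,16985,17072,17074,17076,17078,17080,17082,1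7084,17086,17088,17090],[17033]),(0,[],[]),(9,[],[17033]),(0,[],[]),(0,[],[]),(0,[],[]),(0,[],[]),(0,[],[]),(0,[],[]),(0,[],[]),(0,[],[]),(0,[],[]),(0,[],[]),(0,[],[]),(7,[348,12488,16796,16838,16787,16854,16890,17098,17100,17102,17104,17106,17108,17110,17112,17114,17116,17118],[12538,4329,4327,4325,4323]),(0,[],[]),(0,[],[]),(0,[],[]),(0,[],[]),(4,[347,16496,16498,16500,17122,17124,17126,17128],[12538,4329,4327]),(0,[],[]),(0,[],[]),(0,[],[]),(0,[],[]),(0,[],[]),(0,[],[]),(0,[],[]),(0,[],[]),(0,[],[]),(0,[],[]),(8,[349,347,16496,16498,16500,16502,16504,16416,4329,4658,17131,17138,17140,17142,17144,17146,17148,17150],[12486]),(0,[],[]),(0,[],[]),(0,[],[]),(0,[],[]),(0,[],[]),(0,[],[]),(0,[],[]),(6,[12488,4624,4269,4622,4265,16824,17154,17156,17158,17160,17162,17164,17166],[12486,17153]),(0,[],[]),(0,[],[]),(0,[],[]),(0,[],[]),(0,[],[]),(0,[],[]),(0,[],[]),(5,[12488,16796,16698,596,16640,16642,16646,16648,16650,17170,17172,17174,17176,1717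8,17180,17182],[12486,17153,17151,17149]),(0,[],[]),(0,[],[]),(0,[],[]),(0,[],[]),(0,[],[]),(0,[],[]),(0,[],[]),(0,[],[]),(0,[],[]),(0,[],[]),(0,[],[]),(0,[],[]),(7,[12488,16796,16698,596,16640,16700,16702,17186,17188,17190,17192,17194,17196,17198,17200,17202,17204,17206,17208],[12486,17153,17169,17167]),(0,[],[]),(4,[349,12536,16417,16622,16503,16624,16512,17212],[12486,17153,17169]),(3,[4322,4324,17131,17138],[17121]),(2,[],[17071]),(9,[17028],[]),(2,[17212],[]),(4,[16513,16500,16502,16504,16416,12539,348,12484,17153],[17223,17214]),(3,[16706,16856,16858],[17038,17040]),(3,[16722,16787,17094],[16777,16775]),(2,[],[17057]),(2,[17062],[]),(2,[17080],[]),(2,[17086],[]),(2,[17090],[]),(2,[17118],[]),(2,[17124],[]),(2,[17128],[]),(9,[17136],[]),(2,[17140],[]),(2,[17144],[]),(2,[17148],[]),(2,[17164],[]),(2,[17172],[]),(2,[17178],[]),(2,[17194],[]),(2,[17202],[]),(2,[17206],[]),(0,[],[]),(0,[],[]),(0,[],[]),(12,[360,12267,12272,580,12263,50,5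2,10797,17266,17268,17270],[12316,17153,17169,17167,17165,17163]),(9,[17266],[]),(12,[17153,17224,17167,17254,17163,17273],[12315,360,12266,12272,273,12263,50,147,10797,17275,17268]),(0,[],[]),(0,[],[]),(0,[],[]),(0,[],[]),(0,[],[]),(0,[],[]),(0,[],[]),(0,[],[]),(0,[],[]),(0,[],[]),(0,[],[]),(0,[],[]),(13,[2851,2852,604,379,2851,2852,382,2852,13381,13376,13394,11939,3746,14343,14338,11535,8936,12403,650,652,12503,68,70,12581,12582,17278,17280,17282,17284,17286,17288,17290,17292,17294,17296,17298,17300],[13365,392,611,396,613,400,12273,361,12316,17153,17151]),(0,[],[]),(0,[],[]),(0,[],[]),(0,[],[]),(0,[],[]),(0,[],[]),(0,[],[]),(0,[],[]),(0,[],[]),(0,[],[]),(0,[],[]),(0,[],[]),(0,[],[]),(0,[],[]),(0,[],[]),(0,[],[]),(13,[380,382,2848,377,572,470,172,2446,13384,1174,13443,3378,13424,3463,3594,13394,9795,4072,11287,5640,13879,862,13890,10953,17304,17306,17308,17310,17312,17314,17316,17318,17320,17322,17324,17326,17328,17330,17332,17334],[133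69,390,12373,13250,3743,13382,3462,3464]),(11,[3466,15328],[17337]),(9,[],[17337]),(9,[17304],[]),(13,[3746,3748,11793,13839,1126,13822,3085,10940,12554,109,10,12,170,471,468,376,2851,2852,604,379,2851,2852,382,2852,13381,13376,13394,11939,3746,14343,14338,11535,8936,12403,650,652,12503,68,70,12581,12582,17278,17280,17282,17284,17286,17288,17290],[]),(9,[],[17345]),(11,[3886,17346,17292],[14919]),(1,[17348],[]),(1,[17351,17293],[]),(1,[17351,17294],[]),(3,[16860,16862],[17153,17151,17303]),(13,[13879,862,13886,5180,9128,5070,12403,649,12366,2782,376,378,380,2853,2848,378,380,382,2848,377,572,470,172,2446,13384,1174,13443,3378,13424,3463,3594,13394,9795,4072,11287,5640,13879,862,13890,10953,17304,17306,17308,17310,17312,17314,17316,17318],[]),(9,[],[17359]),(2,[17284],[]),(2,[17288],[]),(11,[17320],[17361,13877]),(2,[17320],[]),(11,[17368,17358,13879],[]),(2,[17324],[]),(2,[17328],[]),(0,[],[]),(0,[],[]),(0,[],[]),(0,[],[]),(0,[],[]),(0,[]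,[]),(0,[],[]),(0,[],[]),(0,[],[]),(0,[],[]),(0,[],[]),(0,[],[]),(0,[],[]),(0,[],[]),(0,[],[]),(0,[],[]),(13,[604,379,2851,2852,604,379,377,2783,12369,648,12402,5071,9131,5181,13889,863,13876,9047,9042,6482,8936,12403,649,12360,17376,17378,17380,17382,17384,17386,17388,17390,17392,17394,17396,17398,17400,17402,17404,17406],[13379,387,12374,392,611,396,12912,12896]),(0,[],[]),(0,[],[]),(0,[],[]),(0,[],[]),(0,[],[]),(0,[],[]),(0,[],[]),(0,[],[]),(0,[],[]),(0,[],[]),(0,[],[]),(0,[],[]),(0,[],[]),(0,[],[]),(0,[],[]),(0,[],[]),(13,[2848,377,572,470,452,13,11,108,12557,10941,3084,13823,852,13838,11790,3749,3886,11938,9795,4072,11287,5640,9047,6480,17410,17412,17414,17416,17418,17420,17422,17424,17426,17428,17430,17432,17434,17436,17438,17440],[607,13250,3743,13382,3461,13377,387,13250]),(11,[11204,14297],[17409]),(9,[],[17409]),(11,[11207,17446],[14295]),(9,[],[17443]),(13,[9792,13395,3460,3462,13427,3379,13442,1175,13408,2447,173,471,468,376,2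851,383,604,379,2851,2852,604,379,377,2783,12369,648,12402,5071,9131,5181,13889,863,13876,9047,9042,6482,8936,12403,649,12360,17376,17378,17380,17382,17384,17386,17388,17390],[]),(9,[],[17453]),(9,[17376],[]),(11,[4176,17376],[17275]),(11,[9795,17454,17392],[]),(13,[8939,11534,14341,14342,3886,11938,13395,13377,13378,2853,383,2853,2848,378,380,2853,2848,377,572,470,452,13,11,108,12557,10941,3084,13823,852,13838,11790,3749,3886,11938,9795,4072,11287,5640,9047,6480,17410,17412,17414,17416,17418,17420,17422,17424],[14469]),(1,[17462],[]),(1,[17465,17426],[]),(1,[17465,17425],[]),(9,[17410],[]),(11,[8936,12774,17466],[]),(9,[],[17473]),(2,[17466],[]),(11,[],[17267,4097,17457]),(2,[17384],[]),(2,[17396],[]),(2,[17400],[]),(2,[17418],[]),(2,[17422],[]),(0,[],[]),(0,[],[]),(0,[],[]),(0,[],[]),(0,[],[])]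

theorem ok34 : data.stepsOK st34 8500 = true := by decide +kernel

def st35 : List Step := [(0,[],[]),(0,[],[]),(13,[394,396,398,400,580,12255,10274,3094,14449,14444,3946,3948,3950,3952,3954,3956,3958,3960,3962,3964,3966,3968,3970,13831,1564,13810,3285,10941,3160,3084,3086,10838,3092,3094,3096,2863,150,55,10797,12831,17490,17492,17494,17496,17498,17500,17502],[14321]),(0,[],[]),(0,[],[]),(0,[],[]),(0,[],[]),(0,[],[]),(0,[],[]),(0,[],[]),(12,[393,12375,386,388,12292,3221,3350,14843,17506,17508,17510,17512,17514,17516,17518],[14321,5105]),(0,[],[]),(0,[],[]),(0,[],[]),(0,[],[]),(0,[],[]),(0,[],[]),(13,[610,12202,13302,13296,3158,13569,3391,13635,13636,2575,2655,27,132,2677,2672,1495,3105,2967,140,2914,2959,2960,1492,1494,13622,3067,13611,3636,13735,13745,762,13542,3064,3066,3068,3070,1338,12941,1186,12956,14910,17522,17524,17526,17528,17530,17532],[12466]),(0,[],[]),(0,[],[]),(0,[],[]),(0,[],[]),(0,[],[]),(12,[12174,11720,11416,12855,1170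,1172,12874,13487,13488,3689,17536,17538,17540,17542,17544],[12466,12105]),(9,[17490],[]),(11,[3146,17490],[12842]),(2,[17536],[]),(11,[14896,17506],[3889]),(2,[],[17555]),(2,[],[17521]),(2,[],[17547]),(12,[12105,17560,17545],[13415,12174,11722,11416,12853,1170,1172,12876,13487,13490,3689,17553,17538,17540]),(11,[14840,3754,17556],[]),(2,[17502],[]),(2,[17510],[]),(2,[17516],[]),(2,[17532],[]),(0,[],[]),(0,[],[]),(0,[],[]),(0,[],[]),(0,[],[]),(0,[],[]),(0,[],[]),(0,[],[]),(0,[],[]),(0,[],[]),(0,[],[]),(0,[],[]),(0,[],[]),(0,[],[]),(0,[],[]),(0,[],[]),(0,[],[]),(0,[],[]),(0,[],[]),(0,[],[]),(0,[],[]),(0,[],[]),(0,[],[]),(0,[],[]),(0,[],[]),(0,[],[]),(0,[],[]),(0,[],[]),(0,[],[]),(0,[],[]),(0,[],[]),(0,[],[]),(0,[],[]),(0,[],[]),(0,[],[]),(0,[],[]),(0,[],[]),(0,[],[]),(13,[398,400,580,12255,3282,3284,13811,850,13824,17574,17576,17578,17580,17582,17584,17586,17588,17590,17592,17594,17596,17598,17600,17602,17604,17606,17608,17610,17612,17614,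17616,17618,17620,17622,17624,17626,17628,17630,17632,17634,17636,17638,17640,17642,17644,17646,17648],[12156]),(0,[],[]),(0,[],[]),(0,[],[]),(0,[],[]),(0,[],[]),(0,[],[]),(12,[397,610,393,12375,386,13376,3460,3462,14462,17652,17654,17656,17658,17660,17662],[12156,3232]),(0,[],[]),(0,[],[]),(0,[],[]),(0,[],[]),(0,[],[]),(0,[],[]),(0,[],[]),(0,[],[]),(0,[],[]),(0,[],[]),(0,[],[]),(0,[],[]),(0,[],[]),(0,[],[]),(0,[],[]),(0,[],[]),(0,[],[]),(0,[],[]),(0,[],[]),(0,[],[]),(0,[],[]),(0,[],[]),(0,[],[]),(0,[],[]),(0,[],[]),(0,[],[]),(0,[],[]),(0,[],[]),(0,[],[]),(0,[],[]),(0,[],[]),(0,[],[]),(0,[],[]),(0,[],[]),(0,[],[]),(0,[],[]),(0,[],[]),(0,[],[]),(13,[612,12912,1726,1175,12874,13487,768,713,13476,17666,17668,17670,17672,17674,17676,17678,17680,17682,17684,17686,17688,17690,17692,17694,17696,17698,17700,17702,17704,17706,17708,17710,17712,17714,17716,17718,17720,17722,17724,17726,17728,17730,17732,17734,17736,17738,17740],[13602]),(0,[],[]),(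0,[],[]),(0,[],[]),(0,[],[]),(0,[],[]),(12,[2478,12935,12940,2920,3071,13297,13305,11691,11692,3508,17744,17746,17748,17750,17752],[13602,697]),(2,[],[17755]),(2,[],[17665]),(2,[17744],[]),(2,[17580],[]),(2,[17648],[]),(2,[17654],[]),(9,[17728],[]),(2,[17736],[]),(2,[17740],[]),(0,[],[]),(0,[],[]),(0,[],[]),(0,[],[]),(0,[],[]),(0,[],[]),(13,[2769,232,468,2783,568,1710,2676,23,1336,3071,13297,13298,4670,10801,13003,1197,12990,9090,11080,12433,1080,649,12360,10736,15052,15296,15298,15300,15302,15304,15306,15308,15364,17774,17776,17778,17780,17782,17784],[13417,11417,11721,12175,395,12202,11691,3220,11706]),(2,[17776],[]),(2,[17780],[]),(0,[],[]),(0,[],[]),(0,[],[]),(0,[],[]),(0,[],[]),(0,[],[]),(0,[],[]),(12,[640,642,644,646,648,12402,8939,11534,17792,17794,17796,17798,17800,17802,17804],[12947,12944]),(2,[],[17807]),(9,[17792],[]),(2,[17796],[]),(2,[17802],[]),(0,[],[]),(0,[],[]),(0,[],[]),(0,[],[]),(0,[],[]),(0,[],[]),(0,[],[]),(12,[644,6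46,648,650,12432,898,13869,860,17370,17816,17818,17820,17822,17824,17826,17828],[14621]),(0,[],[]),(0,[],[]),(0,[],[]),(0,[],[]),(0,[],[]),(12,[12402,8939,6483,9045,9046,5641,11284,4074,9890,4196,17832,17834,17836,17838,17840],[12406,5076]),(0,[],[]),(0,[],[]),(0,[],[]),(0,[],[]),(0,[],[]),(12,[12432,11083,9091,12993,1195,12984,1076,641,12949,12944,17808,17844,17846,17848,17850,17852],[14559]),(2,[17832],[]),(2,[],[17843]),(2,[17838],[]),(2,[17848],[]),(2,[17852],[]),(0,[],[]),(0,[],[]),(0,[],[]),(0,[],[]),(0,[],[]),(0,[],[]),(0,[],[]),(0,[],[]),(0,[],[]),(0,[],[]),(0,[],[]),(0,[],[]),(0,[],[]),(0,[],[]),(0,[],[]),(0,[],[]),(0,[],[]),(0,[],[]),(0,[],[]),(0,[],[]),(0,[],[]),(0,[],[]),(0,[],[]),(0,[],[]),(0,[],[]),(0,[],[]),(0,[],[]),(0,[],[]),(0,[],[]),(0,[],[]),(0,[],[]),(0,[],[]),(0,[],[]),(0,[],[]),(0,[],[]),(0,[],[]),(0,[],[]),(13,[12503,68,12575,660,12606,901,899,12433,14560,17855,17866,17868,17870,17872,17874,17876,17878,17880,17882,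17884,17886,17888,17890,17892,17894,17896,17898,17900,17902,17904,17906,17908,17910,17912,17914,17916,17918,17920,17922,17924,17926,17928,17930,17932,17934,17936,17938],[12462]),(0,[],[]),(0,[],[]),(0,[],[]),(0,[],[]),(0,[],[]),(0,[],[]),(12,[653,1080,12402,8939,6483,6481,9042,6482,17474,17942,17944,17946,17948,17950,17952],[12462,14526]),(0,[],[]),(0,[],[]),(0,[],[]),(0,[],[]),(0,[],[]),(0,[],[]),(0,[],[]),(0,[],[]),(0,[],[]),(0,[],[]),(0,[],[]),(0,[],[]),(0,[],[]),(0,[],[]),(0,[],[]),(0,[],[]),(0,[],[]),(0,[],[]),(0,[],[]),(0,[],[]),(0,[],[]),(0,[],[])]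

theorem ok35 : data.stepsOK st35 8750 = true := by decide +kernel

end

end T352
end HN
end H39
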