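import Cfsg.Agent.H39.HN.T352.Data

/-!
Steps of a derivation (generated data).
-/

set_option autoImplicit false
set_option maxRecDepth 100000
set_option linter.all false
set_option Elab.async false

namespace H39
namespace HN
namespace T352

open H93.CosetI

noncomputable section

def st36 : List Step := [(0,[],[]),(0,[],[]),(0,[],[]),(0,[],[]),(0,[],[]),(0,[],[]),(0,[],[]),(0,[],[]),(0,[],[]),(0,[],[]),(0,[],[]),(0,[],[]),(0,[],[]),(0,[],[]),(0,[],[]),(0,[],[]),(0,[],[]),(13,[12572,70,3132,12581,12572,70,12581,660,17956,17958,17960,17962,17964,17966,17968,17970,17972,17974,17976,17978,17980,17982,17984,17986,17988,17990,17992,17994,17996,17998,18000,18002,18004,18006,18008,18010,18012,18014,18016,18018,18020,18022,18024,18026,18028,18030,18032],[12584]),(0,[],[]),(9,[17956],[]),(13,[7134,6719,7132,6715,7130,6711,6709,6707,8370,69,67,12638,12606,902,10335,12459,12503,68,12575,660,12606,901,899,12433,14560,17855,17866,17868,1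7870,17872,17874,17876,17878,17880,17882,17884,17886,17888,17890,17892,17894,17896,17898,17900,17902,17904,17906,17908],[]),(9,[],[18041]),(13,[7146,6751,7144,6747,7142,6743,6741,6739,7140,6735,6733,6731,7138,6727,7136,6723,7134,6719,7132,6715,7130,6711,6709,6707,8370,69,67,12638,12606,902,10335,12459,12503,68,12575,660,12606,901,899,12433,14560,17855,17866,17868,17870,17872,17874,17876],[]),(9,[],[18045]),(13,[7194,6933,7192,6929,7190,6925,6923,6921,8933,13891,863,861,13866,900,12609,661,12572,70,3132,12581,12572,70,12581,660,17956,17958,17960,17962,17964,17966,17968,17970,17972,17974,17976,17978,17980,17982,17984,17986,17988,17990,17992,17994,17996,17998,18000,18002],[]),(9,[],[18049]),(2,[],[17955]),(11,[17878],[18047,6753]),(2,[17878],[]),(11,[18056,18044,7146],[]),(11,[17910],[18043,6721]),(2,[17910],[]),(2,[17914],[]),(2,[17918],[]),(9,[17926],[]),(2,[17934],[]),(2,[17938],[]),(2,[17944],[]),(2,[17950],[]),(2,[18036],[])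,(2,[17964],[]),(11,[18004],[18051,6935]),(2,[18004],[]),(11,[18084,18048,7194],[]),(2,[18008],[]),(2,[18012],[]),(9,[18020],[]),(2,[18028],[]),(2,[18032],[]),(0,[],[]),(0,[],[]),(0,[],[]),(0,[],[]),(0,[],[]),(0,[],[]),(0,[],[]),(0,[],[]),(0,[],[]),(0,[],[]),(0,[],[]),(0,[],[]),(0,[],[]),(0,[],[]),(0,[],[]),(0,[],[]),(0,[],[]),(0,[],[]),(0,[],[]),(0,[],[]),(0,[],[]),(0,[],[]),(0,[],[]),(0,[],[]),(0,[],[]),(0,[],[]),(0,[],[]),(0,[],[]),(0,[],[]),(0,[],[]),(0,[],[]),(0,[],[]),(0,[],[]),(0,[],[]),(0,[],[]),(0,[],[]),(0,[],[]),(0,[],[]),(13,[12606,901,13869,860,13876,9047,6480,6482,17474,17942,18100,18102,18104,18106,18108,18110,18112,18114,18116,18118,18120,18122,18124,18126,18128,18130,18132,18134,18136,18138,18140,18142,18144,18146,18148,18150,18152,18154,18156,18158,18160,18162,18164,18166,18168,18170,18172],[18039]),(0,[],[]),(0,[],[]),(0,[],[]),(0,[],[]),(0,[],[]),(12,[661,12572,69,12500,653,12432,11083,11093,15290,18176,181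78,18180,18182,18184],[18039,17958,18079]),(0,[],[]),(3,[12688,18188],[668,670,672]),(0,[],[]),(0,[],[]),(0,[],[]),(0,[],[]),(0,[],[]),(0,[],[]),(0,[],[]),(0,[],[]),(0,[],[]),(0,[],[]),(0,[],[]),(0,[],[]),(0,[],[]),(0,[],[]),(8,[668,670,18192,18194,18196,18198,18200,18202,18204,18206,18208,18210,18212,18214,18216,18218],[12686,14526,14528]),(0,[],[]),(0,[],[]),(0,[],[]),(0,[],[]),(6,[12688,7152,6779,7150,6775,18222,18224,18226,18228],[12686,14526,17955,17953,17951,17949]),(0,[],[]),(0,[],[]),(0,[],[]),(0,[],[]),(0,[],[]),(0,[],[]),(0,[],[]),(0,[],[]),(0,[],[]),(0,[],[]),(0,[],[]),(0,[],[]),(5,[12688,18188,18190,674,18232,18234,18236,18238,18240,18242,18244,18246,18248,18250,18252,18254],[12686,14526,14528,18221]),(0,[],[]),(0,[],[]),(0,[],[]),(0,[],[]),(0,[],[]),(0,[],[]),(0,[],[]),(4,[668,12716,15344,18262,18264,18266,18268,18270],[12686,14526,17955]),(2,[18192],[]),(9,[18098],[]),(2,[18222],[]),(2,[],[18221]),(2,[],[18231]),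(11,[],[17957,12608,18277]),(2,[18104],[]),(2,[18108],[]),(2,[18112],[]),(2,[18116],[]),(2,[18120],[]),(9,[18128],[]),(2,[18136],[]),(2,[18140],[]),(2,[18144],[]),(2,[18172],[]),(2,[18196],[]),(2,[18206],[]),(2,[18212],[]),(2,[18216],[]),(6,[18219,18312,18215,18310],[18281,14530,14575,14534,14577,14538,14565,5076,17843,17841,17839,17837]),(1,[18314],[]),(1,[18317,18212],[]),(1,[18317,18211],[]),(1,[17834,18320],[]),(1,[18323],[]),(1,[18325,18209],[]),(2,[18226],[]),(2,[18244],[]),(2,[18250],[]),(2,[18266],[]),(2,[18270],[]),(0,[],[]),(0,[],[]),(11,[12716,18338,18340],[]),(0,[],[]),(0,[],[]),(0,[],[]),(0,[],[]),(0,[],[]),(0,[],[]),(0,[],[]),(0,[],[]),(0,[],[]),(0,[],[]),(0,[],[]),(0,[],[]),(0,[],[]),(0,[],[]),(8,[670,672,674,18232,18258,18260,18350,18352,18354,18356,18358,18360,18362,18364,18366,18368,18370],[12718,6843]),(0,[],[]),(0,[],[]),(0,[],[]),(0,[],[]),(6,[669,12684,17941,18072,17937,18070,17933,18374,18376,18378,18380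],[12718,6843,6841,6839]),(0,[],[]),(0,[],[]),(0,[],[]),(0,[],[]),(0,[],[]),(0,[],[]),(0,[],[]),(0,[],[]),(0,[],[]),(0,[],[]),(0,[],[]),(0,[],[]),(0,[],[]),(0,[],[]),(12,[670,18192,18384,18386,18388,18390,18392,18394,18396,18398,18400,18402,18404,18406,18408,18410],[18343]),(0,[],[]),(0,[],[]),(0,[],[]),(0,[],[]),(0,[],[]),(0,[],[]),(0,[],[]),(0,[],[]),(0,[],[]),(0,[],[]),(0,[],[]),(0,[],[]),(0,[],[]),(5,[669,12688,18188,18414,18416,18418,18420,18422,18424,18426,18428,18430,18432,18434,18436,18438],[12718,6843,18373,18371]),(9,[],[18343]),(0,[],[]),(0,[],[]),(0,[],[]),(0,[],[]),(0,[],[]),(0,[],[]),(0,[],[]),(0,[],[]),(0,[],[]),(0,[],[]),(4,[670,18192,18194,18196,18456,18458,18460,18462],[12718,6843,6841]),(0,[],[]),(0,[],[]),(11,[18192,18466,18468],[]),(0,[],[]),(0,[],[]),(0,[],[]),(0,[],[]),(0,[],[]),(0,[],[]),(0,[],[]),(0,[],[]),(0,[],[]),(0,[],[]),(0,[],[]),(0,[],[]),(0,[],[]),(0,[],[])]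

theorem ok36 : data.stepsOK st36 9000 = true := by decide +kernel

def st37 : List Step := [(8,[672,18191,18414,18416,18444,18446,18478,18480,18482,18484,18486,18488,18490,18492,18494,18496,18498],[18275,18384]),(0,[],[]),(0,[],[]),(0,[],[]),(0,[],[]),(0,[],[]),(0,[],[]),(6,[671,12716,15344,18262,18344,18346,18348,18502,18504,18506,18508,18510,18512],[18275,18384]),(0,[],[]),(0,[],[]),(0,[],[]),(0,[],[]),(0,[],[]),(0,[],[]),(0,[],[]),(0,[],[]),(0,[],[]),(0,[],[]),(0,[],[]),(0,[],[]),(0,[],[]),(5,[671,669,12688,7152,6779,18520,18522,18524,18526,18528,18530,18532,18534,18536,18538,18540],[18275,18384,18501,18499]),(9,[],[18471]),(0,[],[]),(0,[],[]),(0,[],[]),(0,[],[]),(0,[],[]),(0,[],[]),(0,[],[]),(0,[],[]),(0,[],[]),(0,[],[]),(7,[671,669,12688,7152,6779,7150,6775,6773,6771,18546,18548,18550,18552,18554,18556,18558,18560,18562,18564],[18275,18384,18515,18513]),(2,[18546],[]),(2,[],[18383]),(2,[18516],[]),(2,[18414],[]),(3,[184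72,18474,18476],[18202,18204]),(2,[18362],[]),(2,[18366],[]),(2,[18370],[]),(2,[18386],[18515]),(1,[18585],[]),(1,[18587,18514],[]),(1,[18587,18513],[]),(1,[18389,18590],[]),(1,[18593],[]),(1,[18595,18567],[]),(1,[18391,18596],[]),(1,[18599],[]),(1,[18601,18565],[]),(2,[18444],[]),(2,[18434],[]),(2,[18458],[]),(2,[18462],[]),(2,[18498],[]),(2,[18536],[]),(0,[],[]),(0,[],[]),(11,[674,18616,18618],[]),(0,[],[]),(0,[],[]),(0,[],[]),(0,[],[]),(0,[],[]),(0,[],[]),(0,[],[]),(0,[],[]),(0,[],[]),(0,[],[]),(0,[],[]),(8,[18191,18189,7152,6779,7150,6775,18222,18624,18626,18628,18630,18632,18634,18636,18638,18640,18642],[1085,676]),(0,[],[]),(0,[],[]),(6,[673,18192,18194,18196,18198,18200,18472,18646,18648],[1085,676,1087,680,1089,17574]),(0,[],[]),(0,[],[]),(0,[],[]),(0,[],[]),(0,[],[]),(0,[],[]),(0,[],[]),(0,[],[]),(0,[],[]),(0,[],[]),(0,[],[]),(0,[],[]),(0,[],[]),(0,[],[]),(0,[],[]),(0,[],[]),(0,[],[]),(0,[],[]),(5,[673,671,669,12684,1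7941,18666,18668,18670,18672,18674,18676,18678,18680,18682,18684,18686],[1085,676,18645,18643]),(9,[],[18621]),(0,[],[]),(0,[],[]),(0,[],[]),(0,[],[]),(0,[],[]),(0,[],[]),(0,[],[]),(0,[],[]),(0,[],[]),(0,[],[]),(7,[673,671,669,12684,17941,18072,17937,18692,18694,18696,18698,18700,18702,18704,18706,18708,18710],[1085,676,1087,680,15238,15240]),(0,[],[]),(0,[],[]),(0,[],[]),(0,[],[]),(4,[18191,18414,18416,18444,18714,18716,18718,18720],[1085,676,1087]),(0,[],[]),(11,[1084,18690,18724],[]),(0,[],[]),(3,[18232,18234,18728],[676,18645]),(0,[],[]),(0,[],[]),(0,[],[]),(0,[],[]),(0,[],[]),(0,[],[]),(0,[],[]),(8,[676,18645,18732,18734,18736,18738,18740,18742,18744],[675,18191,18189,6781,6779,6777,6775,18279,18624,18626]),(0,[],[]),(0,[],[]),(0,[],[]),(0,[],[]),(0,[],[]),(0,[],[]),(6,[18232,18258,18260,18350,18622,18748,18750,18752,18754,18756,18758],[675,18191,18575,18652]),(0,[],[]),(0,[],[]),(0,[],[]),(0,[],[]),(0,[],[]),(0,[],[]),(0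,[],[]),(0,[],[]),(0,[],[]),(0,[],[]),(0,[],[]),(0,[],[]),(0,[],[]),(0,[],[]),(0,[],[]),(5,[18232,18234,18728,18766,18768,18770,18772,18774,18776,18778,18780,18782,18784,18786,18788,18790],[675,18191,18189,6781]),(9,[18616],[18727]),(1,[18795],[]),(1,[18797,18726],[]),(0,[],[]),(0,[],[]),(0,[],[]),(0,[],[]),(0,[],[]),(0,[],[]),(0,[],[]),(0,[],[]),(0,[],[]),(0,[],[]),(0,[],[]),(0,[],[]),(0,[],[]),(0,[],[]),(7,[18232,18234,18728,18766,18768,18800,18802,18804,18806,18808,18810,18812,18814,18816,18818,18820,18822,18824,18826],[675,18191,18575,18652]),(0,[],[]),(0,[],[]),(4,[676,678,18723,18830,18832],[675,18191,18575,18416,18605,18714]),(3,[18723],[680,15238,15240,15242]),(3,[17941,18666],[14526,14528,14530]),(3,[18520],[6778,18793,18791,18789]),(2,[],[18713]),(2,[],[18651]),(2,[18762],[]),(3,[18416,18418],[18652,18829,18827]),(2,[18646],[]),(2,[18628],[18747]),(1,[18853],[]),(1,[18855,18745],[]),(1,[18631,18856],[]),(1,[18859],[]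),(1,[18861,18743],[]),(1,[18633,18862],[]),(1,[18865],[]),(1,[18867,18741],[]),(2,[18634],[18868]),(1,[18871],[]),(1,[18873,18869],[]),(1,[18873,18739],[]),(1,[18637,18876],[]),(1,[18879],[]),(1,[18881,18737],[]),(2,[18638],[18882]),(1,[18885],[]),(1,[18887,18883],[]),(1,[18887,18735],[]),(1,[18641,18890],[]),(1,[18893],[]),(1,[18895,18733],[]),(2,[18654],[18761]),(1,[18899],[]),(1,[18901,18759],[]),(1,[18657,18902],[]),(1,[18905],[]),(1,[18907,18757],[]),(2,[],[18908]),(9,[18664],[]),(2,[18682],[]),(2,[18700],[]),(2,[18708],[]),(2,[18716],[18835]),(1,[18921],[]),(1,[18923,18833],[]),(1,[18719,18924],[]),(1,[18927],[]),(1,[18929,18831],[]),(2,[18766],[]),(2,[18812],[]),(2,[18820],[]),(2,[18824],[]),(0,[],[]),(0,[],[]),(11,[678,18940,18942],[]),(0,[],[]),(0,[],[]),(0,[],[]),(0,[],[]),(0,[],[]),(0,[],[]),(0,[],[]),(0,[],[]),(0,[],[]),(0,[],[]),(0,[],[]),(0,[],[]),(0,[],[]),(0,[],[]),(0,[],[]),(0,[],[]),(0,[],[]),(0,[],[]),(0,[],[]),(0,[],[]),(0,[],[]),(0,[],[]),(0,[],[]),(0,[],[]),(0,[],[]),(5,[677,18232,18234,18236,18238,18240,18976,18978,18980,18982,18984,18986,18988,18990,18992,18994],[1087,680,15238,18573]),(9,[],[18945])]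

theorem ok37 : data.stepsOK st37 9250 = true := by decide +kernel

def st38 : List Step := [(0,[],[]),(0,[],[]),(4,[18645,18897,18641,18888,19000,19002],[1087,680,1089,684,1091]),(0,[],[]),(11,[1086,18998,19006],[]),(0,[],[]),(0,[],[]),(0,[],[]),(0,[],[]),(0,[],[]),(0,[],[]),(0,[],[]),(0,[],[]),(6,[18723,18931,18946,18948,18950,19014,19016,19018,19020,19022,19024],[679,18645,18643,18689]),(0,[],[]),(0,[],[]),(0,[],[]),(0,[],[]),(0,[],[]),(0,[],[]),(0,[],[]),(0,[],[]),(0,[],[]),(0,[],[]),(0,[],[]),(0,[],[]),(0,[],[]),(0,[],[]),(0,[],[]),(0,[],[]),(5,[18723,18836,15243,18842,19036,19038,19040,19042,19044,19046,19048,19050,19052,19054,19056,19058],[679,18645,18731,18933]),(9,[18940],[19009]),(1,[19063],[]),(1,[19065,19008],[]),(0,[],[]),(0,[],[]),(0,[],[]),(0,[],[]),(0,[],[]),(0,[],[]),(0,[],[]),(0,[],[]),(0,[],[]),(0,[],[]),(7,[18723,18836,15243,18842,19036,19068,19070,19072,19074,19076,19078,19080,19082,19084,19086],[679,1864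5,18643,18689,18687,18685,18683,18681]),(4,[680,682,684,686,19005],[679,18645,18643,18641,18639,19000]),(3,[18194,19010,19012],[18384,18501]),(2,[18966],[19027]),(1,[19095],[]),(1,[19097,19025],[]),(1,[18969,19098],[]),(1,[19101],[]),(1,[19103,19023],[]),(3,[18768,18770],[19061,19059,19057]),(2,[19014],[]),(9,[18956],[]),(2,[],[19104]),(2,[18990],[]),(2,[19018],[]),(9,[19034],[]),(2,[19068],[]),(2,[19054],[]),(0,[],[]),(0,[],[]),(0,[],[]),(0,[],[]),(0,[],[]),(0,[],[]),(0,[],[]),(0,[],[]),(8,[15238,15240,18842,19036,19068,19070,19124,19126,19128,19130,19132,19134,19136,19138],[1089,17574,17576,18847,18764]),(0,[],[]),(0,[],[]),(12,[15238,18516,18997,19142,19144],[13893,13838,11792,3749,3747,3745,13251,12374,392,14321,5105,17521]),(0,[],[]),(0,[],[]),(0,[],[]),(0,[],[]),(0,[],[]),(0,[],[]),(0,[],[]),(0,[],[]),(0,[],[]),(0,[],[]),(0,[],[]),(0,[],[]),(5,[681,18723,18836,15244,19148,19150,19152,19154,19156,19158,19160,19162,19164,1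9166,19168,19170],[1089,17574,17576,18847]),(0,[],[]),(3,[684,19174],[17574,17576,17578]),(0,[],[]),(0,[],[]),(0,[],[]),(0,[],[]),(0,[],[]),(0,[],[]),(0,[],[]),(0,[],[]),(8,[17574,17576,18762,18764,19178,19180,19182,19184,19186,19188,19190,19192],[683,15238,15240,18713,19036,19121,19070]),(0,[],[]),(0,[],[]),(0,[],[]),(0,[],[]),(0,[],[]),(0,[],[]),(6,[684,686,688,690,692,19196,19198,19200,19202,19204,19206],[683,15238,18573,18997]),(0,[],[]),(12,[17574,18844,18649,18850,18473,18202,19210],[13825,851,849,13802,11773,3751,3749,3747,11938,17461]),(0,[],[]),(0,[],[]),(0,[],[]),(0,[],[]),(0,[],[]),(0,[],[]),(0,[],[]),(0,[],[]),(0,[],[]),(0,[],[]),(0,[],[]),(5,[684,19174,19176,17580,19214,19216,19218,19220,19222,19224,19226,19228,19230,19232,19234],[683,15238,15240,18713,18711]),(0,[],[]),(0,[],[]),(0,[],[]),(0,[],[]),(0,[],[]),(0,[],[]),(0,[],[]),(0,[],[]),(0,[],[]),(0,[],[]),(7,[684,19174,19176,17580,19214,19238,19240,19242,19244,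19246,19248,19250,19252,19254,19256],[683,15238,18573,18997,18995,18993,18991,18989]),(2,[19196],[]),(12,[13838,11790,3749,3886,3745,13251,12372,392,14323,5105,17558,19147,19145],[13895,15238,18573,18997,19209]),(1,[19263],[]),(1,[19265,19208],[]),(1,[19265,19207],[]),(1,[19145,19268],[]),(1,[19271],[]),(1,[19273,19205],[]),(3,[18710,19036,19038],[19237,19235]),(2,[19178],[19141]),(1,[19278],[]),(1,[19281,19179],[]),(2,[],[19259]),(2,[19124],[19195]),(1,[19287],[]),(1,[19289,19194],[]),(2,[],[19274]),(2,[19152],[]),(2,[19200],[]),(2,[19238],[]),(2,[19218],[]),(2,[19226],[]),(2,[19232],[]),(2,[19246],[]),(2,[19250],[]),(0,[],[]),(0,[],[]),(11,[686,19310,19312],[]),(0,[],[]),(0,[],[]),(0,[],[]),(0,[],[]),(0,[],[]),(0,[],[]),(0,[],[]),(0,[],[]),(0,[],[]),(0,[],[]),(0,[],[]),(6,[19174,19316,19318,19320,19322,19324,19326,19328,19330,19332,19334,19336],[1091,19005,19003]),(0,[],[]),(0,[],[]),(0,[],[]),(0,[],[]),(9,[],[19315]),(0,[],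[]),(0,[],[]),(11,[1090,19348,19352],[]),(0,[],[]),(0,[],[]),(0,[],[]),(0,[],[]),(0,[],[]),(0,[],[]),(0,[],[]),(0,[],[]),(0,[],[]),(0,[],[]),(0,[],[]),(9,[19310],[19355]),(1,[19379],[]),(1,[19381,19353],[]),(1,[19381,19354],[]),(0,[],[]),(0,[],[]),(0,[],[]),(0,[],[]),(0,[],[]),(0,[],[]),(7,[688,19356,19358,19372,19374,19386,19388,19390,19392,19394,19396],[687,685,683,15238,15240,15242,15281,15246,15283,15275,14668,14670]),(2,[],[19399]),(2,[19316],[]),(2,[19336,19360],[]),(1,[19404],[]),(1,[19407,19361],[]),(1,[19407,19362],[]),(1,[19334,19410],[]),(1,[19413],[]),(1,[19415,19364],[]),(9,[19370],[]),(2,[19394],[]),(0,[],[]),(0,[],[]),(11,[690,19422,19424],[]),(0,[],[]),(0,[],[]),(0,[],[]),(0,[],[]),(0,[],[]),(0,[],[]),(0,[],[]),(0,[],[]),(0,[],[]),(0,[],[]),(0,[],[]),(0,[],[]),(0,[],[]),(0,[],[]),(0,[],[]),(0,[],[]),(0,[],[]),(0,[],[]),(0,[],[]),(0,[],[]),(0,[],[]),(0,[],[]),(0,[],[]),(0,[],[]),(0,[],[]),(0,[],[]),(0,[],[]),(0,[],[]),(0,[],[]),(0,[],[]),(0,[],[]),(0,[],[]),(0,[],[]),(0,[],[]),(0,[],[]),(0,[],[])]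

theorem ok38 : data.stepsOK st38 9500 = true := by decide +kernel

def st39 : List Step := [(0,[],[]),(0,[],[]),(0,[],[]),(0,[],[]),(0,[],[]),(13,[690,692,19196,19198,19200,19202,19428,19430,19432,19434,19436,19438,19440,19442,19444,19446,19448,19450,19452,19454,19456,19458,19460,19462,19464,19466,19468,19470,19472,19474,19476,19478,19480,19482,19484,19486,19488,19490,19492,19494,19496,19498,19500,19502,19504,19506,19508],[19427]),(0,[],[]),(0,[],[]),(0,[],[]),(0,[],[]),(0,[],[]),(0,[],[]),(0,[],[]),(0,[],[]),(0,[],[]),(0,[],[]),(0,[],[]),(0,[],[]),(0,[],[]),(8,[689,19005,19090,19001,18638,19512,19514,19516,19518,19520,19522,19524,19526,19528,19530,19532,19534,19536],[1093]),(0,[],[]),(0,[],[]),(0,[],[]),(0,[],[]),(0,[],[]),(0,[],[]),(0,[],[]),(0,[],[]),(0,[],[]),(0,[],[]),(0,[],[]),(0,[],[]),(6,[19356,19540,19542,19544,19546,19548,19550,19552,19554,19556,19558,19560,19562],[1093,19539]),(0,[],[]),(0,[],[]),(0,[],[]),(0,[],[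]),(0,[],[]),(0,[],[]),(0,[],[]),(0,[],[]),(12,[689,1090,685,1088,15238,15240,18842,19036,19566,19568,19570,19572,19574,19576,19578,19580],[19427]),(9,[],[19427]),(0,[],[]),(0,[],[]),(0,[],[]),(0,[],[]),(4,[689,1090,19174,19316,19586,19588,19590,19592],[1093,19539,19565]),(0,[],[]),(11,[1092,19584,19596],[]),(3,[692,694,696,17743],[19539,19537]),(1,[19601],[]),(1,[19603,19535],[]),(1,[17740,19604],[]),(1,[19603,19536],[]),(1,[19607],[]),(1,[19611,19533],[]),(1,[17738,19612],[]),(1,[19615],[]),(1,[19617,19531],[]),(1,[17736,19618],[]),(1,[19621],[]),(1,[19623,19529],[]),(1,[17734,19624],[]),(1,[19627],[]),(1,[19629,19527],[]),(0,[],[]),(0,[],[]),(0,[],[]),(0,[],[]),(0,[],[]),(0,[],[]),(0,[],[]),(0,[],[]),(0,[],[]),(0,[],[]),(0,[],[]),(0,[],[]),(0,[],[]),(0,[],[]),(0,[],[]),(0,[],[]),(12,[19539,19634,19636,19638,19640,19642,19644,19646,19648,19650,19652,19654,19656,19658,19660,19662],[19599]),(0,[],[]),(9,[19422],[19599]),(1,[19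669],[]),(1,[19671,19597],[]),(1,[19671,19665],[]),(1,[19671,19598],[]),(0,[],[]),(0,[],[]),(0,[],[]),(0,[],[]),(0,[],[]),(0,[],[]),(0,[],[]),(0,[],[]),(7,[692,694,696,13616,17651,17764,17647,19678,19680,19682,19684,19686,19688,19690,19692],[691,689,687,685,17574,17576,18847,19173]),(0,[],[]),(0,[],[]),(0,[],[]),(4,[19539,19634,19696,19698,19700],[691,689,687,19174,19403,19586]),(3,[17651,19666],[3232,3234,3236]),(2,[19632],[19630]),(1,[19706],[]),(1,[19709,19633],[]),(3,[19512],[18640,18689,18687,18685]),(2,[],[19695]),(9,[19496],[]),(2,[19504],[]),(2,[19508],[]),(2,[19634],[19565]),(1,[19722],[]),(1,[19725,19635],[]),(1,[19725,19696],[]),(1,[19594,19728],[]),(1,[19725,19636],[]),(1,[19562,19732],[]),(1,[19731],[]),(1,[19737,19698],[]),(1,[19735],[]),(1,[19741,19638],[]),(2,[19560,19742],[]),(1,[19744],[]),(1,[19747,19743],[]),(1,[19747,19640],[]),(1,[19558,19750],[]),(1,[19753],[]),(1,[19755,19642],[]),(2,[19588],[19703]),(1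,[19759],[]),(1,[19761,19701],[]),(1,[19591,19762],[]),(1,[19765],[]),(1,[19767,19739],[]),(2,[19644],[]),(9,[19648],[]),(2,[19652],[]),(2,[19658],[]),(2,[19662],[]),(0,[],[]),(0,[],[]),(11,[19196,19780,19782],[]),(0,[],[]),(0,[],[]),(0,[],[]),(0,[],[]),(0,[],[]),(0,[],[]),(0,[],[]),(0,[],[]),(0,[],[]),(0,[],[]),(0,[],[]),(0,[],[]),(0,[],[]),(0,[],[]),(0,[],[]),(8,[693,19539,19727,19595,19769,19790,19792,19794,19796,19798,19800,19802,19804,19806,19808,19810,19812,19814],[19261]),(0,[],[]),(0,[],[]),(0,[],[]),(0,[],[]),(0,[],[]),(9,[],[19785]),(0,[],[]),(0,[],[]),(0,[],[]),(0,[],[]),(11,[17756,19834,19836],[]),(0,[],[]),(0,[],[]),(0,[],[]),(0,[],[]),(0,[],[]),(0,[],[]),(0,[],[]),(0,[],[]),(0,[],[]),(0,[],[]),(0,[],[]),(0,[],[]),(0,[],[]),(0,[],[]),(0,[],[]),(0,[],[]),(0,[],[]),(0,[],[]),(0,[],[]),(0,[],[]),(0,[],[]),(0,[],[]),(0,[],[]),(0,[],[]),(0,[],[]),(0,[],[]),(0,[],[]),(0,[],[]),(0,[],[]),(0,[],[]),(0,[],[]),(0,[],[]),(0,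[],[]),(0,[],[]),(0,[],[]),(0,[],[]),(0,[],[]),(0,[],[]),(0,[],[]),(0,[],[]),(0,[],[]),(13,[17756,19818,19820,19822,19824,19826,19840,19842,19844,19846,19848,19850,19852,19854,19856,19858,19860,19862,19864,19866,19868,19870,19872,19874,19876,19878,19880,19882,19884,19886,19888,19890,19892,19894,19896,19898,19900,19902,19904,19906,19908,19910,19912,19914,19916,19918,19920],[19839]),(0,[],[]),(0,[],[]),(0,[],[]),(0,[],[]),(0,[],[]),(0,[],[]),(0,[],[]),(0,[],[]),(0,[],[]),(0,[],[]),(0,[],[]),(0,[],[]),(0,[],[]),(12,[695,19196,19817,19924,19926,19928,19930,19932,19934,19936,19938,19940,19942,19944,19946,19948],[19839]),(0,[],[]),(0,[],[]),(0,[],[]),(9,[],[19839]),(0,[],[]),(0,[],[]),(0,[],[]),(0,[],[]),(0,[],[]),(0,[],[]),(0,[],[]),(0,[],[]),(0,[],[]),(0,[],[]),(0,[],[]),(7,[696,17743,19608,19727,19595,19769,19790,19960,19962,19964,19966,19968,19970,19972,19974,19976,19978,19980],[17755,17753,17751,17749,17747]),(3,[17518,19147,19145,19786,19788],[]),(9,[19780],[]),(2,[19782],[]),(0,[],[]),(0,[],[]),(0,[],[]),(0,[],[]),(0,[],[])]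

theorem ok39 : data.stepsOK st39 9750 = true := by decide +kernel

end

end T352
end HN
end H39
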